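import Groth.Agent.PtBlow.Rational
import Groth.Agent.SteinGen.GeomConn

/-!
Proper birational morphisms to normal surfaces.
-/

set_option autoImplicit false
set_option backward.isDefEq.respectTransparency false
set_option backward.isDefEq.respectTransparency.types false
set_option linter.style.haveILetI false

universe u

open CategoryTheory CategoryTheory.Limits AlgebraicGeometry TopologicalSpace

noncomputable section

namespace Groth.Agent.PtBlow

/-- the locus over which a morphism is an isomorphism -/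
def isoLocus {X Y : Scheme.{u}} (f : X ⟶ Y) : Y.Opens := ⨆ W : {W : Y.Opens // IsIso (f ∣_ W)}, W.1

theorem le_isoLocus {X Y : Scheme.{u}} {f : X ⟶ Y} {V : Y.Opens} (h : IsIso (f ∣_ V)) : V ≤ isoLocus f :=
  le_iSup (fun W : {W : Y.Opens // IsIso (f ∣_ W)} => W.1) ⟨V, h⟩

theorem compl_isoLocus {X Y : Scheme.{u}} [IsIntegral X] [IsIntegral Y] [IsNoetherian Y] (f : X ⟶ Y) [IsProper f]
    (hY : Pi1.IsNormalScheme Y) (hdY : topologicalKrullDim Y ≤ 2)
    (hbir : ∃ V : Y.Opens, (V : Set Y).Nonempty ∧ IsIso (f ∣_ V)) :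
    ((isoLocus f : Set Y)ᶜ).Finite ∧
      ∀ y ∈ (isoLocus f : Set Y)ᶜ, IsClosed ({y} : Set Y) ∧ ringKrullDim (Y.presheaf.stalk y) = 2 := by
  obtain ⟨V, hV, hVf⟩ := hbir
  haveI := hVf
  have hO := bijective_app_of_birational f hY V hV
  have h : ∀ y ∈ (isoLocus f : Set Y)ᶜ, IsClosed ({y} : Set Y) ∧ ringKrullDim (Y.presheaf.stalk y) = 2 := by
    intro y hy
    have h2 : 2 ≤ ringKrullDim (Y.presheaf.stalk y) := not_not.1 fun h2 => hy (by
      obtain ⟨W, hyW, hW⟩ := BiratCodimTwo.exists_nhd f ⟨V, hV, hVf⟩ hO y h2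
      exact le_isoLocus hW hyW)
    have heq := le_antisymm ((RegDual.ringKrullDim_stalk_le_topologicalKrullDim y).trans hdY) h2
    exact ⟨isClosed_of_dim_two hdY heq, heq⟩
  exact ⟨finite_of_isClosed_singletons (isoLocus f).isOpen.isClosed_compl fun z hz => (h z hz).1, h⟩

theorem isIso_restrict_left {W X Y : Scheme.{u}} {h : W ⟶ X} {f : X ⟶ Y} {g : W ⟶ Y} (hh : h ≫ f = g) (U : Y.Opens)
    (hg : IsIso (g ∣_ U)) (hf : IsIso (f ∣_ U)) : IsIso (h ∣_ f ⁻¹ᵁ U) := by
  haveI : IsIso (h ∣_ f ⁻¹ᵁ U ≫ f ∣_ U) := by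
    rw [← morphismRestrict_comp]
    subst hh
    exact hg
  exact IsIso.of_isIso_comp_right (h ∣_ f ⁻¹ᵁ U) (f ∣_ U)

theorem nonempty_preimage {X Y : Scheme.{u}} {f : X ⟶ Y} {U : Y.Opens} (hU : (U : Set Y).Nonempty)
    (hf : IsIso (f ∣_ U)) : (f ⁻¹ᵁ U : Set X).Nonempty := by
  obtain ⟨v, hv⟩ := hU
  obtain ⟨w, -⟩ := (f ∣_ U).surjective ⟨v, hv⟩
  exact ⟨w.1, w.2⟩

theorem Seq.integral_normal {Y X : Scheme.{u}} {g : Y ⟶ X} (hg : Seq g) (hi : IsIntegral X)
    (hn : Pi1.IsNormalScheme X) : IsIntegral Y ∧ Pi1.IsNormalScheme Y := by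
  induction hg with
  | id X => exact ⟨hi, hn⟩
  | @step Y' Z' X' b r z hz hN hb hr ih =>
    haveI := hN
    obtain ⟨hZi, hZn⟩ := ih hi hn
    haveI := hZi
    exact ⟨W7Fib.isIntegral_blowUp (pt_ne_bot hz) hb, isNormal_blowUp hz hb hZn⟩

theorem isConnected_preimage {X Y : Scheme.{u}} (h : X ⟶ Y) [IsProper h] (hO : ∀ U : Y.Opens, Function.Bijective (h.app U))
    (y : Y) : _root_.IsConnected (h ⁻¹' {y}) := by
  haveI := SteinGen.geometricallyConnected_of_isIso_app h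
    (fun U => (ConcreteCategory.isIso_iff_bijective _).2 (hO U))
  haveI : ConnectedSpace ↥(h.fiber y) := inferInstance
  rw [← h.range_fiberι]
  exact isConnected_range (h.fiberι y).continuous

/-- a point of a noetherian preconnected closed set without proper generisations in it is the whole set -/
theorem eq_singleton_of_no_generisation {X : Type*} [TopologicalSpace X] [NoetherianSpace X] [QuasiSober X] [T0Space X]
    {C : Set X} (hC : IsClosed C) (hconn : _root_.IsPreconnected C) {x : X} (hxC : x ∈ C) (hx : IsClosed ({x} : Set X))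
    (h : ∀ z ∈ C, z ⤳ x → z = x) : C = {x} := by
  obtain ⟨S, hSf, hScl, hSirr, hCS⟩ := NoetherianSpace.exists_finite_set_isClosed_irreducible hC
  let R : Set X := ⋃₀ {t ∈ S | t ≠ {x}}
  have hR : IsClosed R := by
    have hsub : {t ∈ S | t ≠ {x}}.Finite := hSf.subset fun t ht => ht.1
    simp only [R, Set.sUnion_eq_biUnion]
    exact hsub.isClosed_biUnion fun t ht => hScl t ht.1
  have hxR : x ∉ R := by
    rintro ⟨t, ⟨ht, hne⟩, hxt⟩
    obtain ⟨η, hη⟩ := QuasiSober.sober (hSirr t ht) (hScl t ht)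
    have hηx : η = x := h η (hCS ▸ ⟨t, ht, hη.mem⟩) (hη.specializes hxt)
    exact hne (by rw [← hη.def, hηx, hx.closure_eq])
  refine Set.Subset.antisymm (fun z hz => ?_) (by simpa using hxC)
  by_contra hzx
  have hcov : C ⊆ {x} ∪ R := fun w hw => by
    obtain ⟨t, ht, hwt⟩ := (hCS ▸ hw : w ∈ ⋃₀ S)
    by_cases e : t = {x}
    · exact Or.inl (e ▸ hwt)
    · exact Or.inr ⟨t, ⟨ht, e⟩, hwt⟩
  obtain ⟨w, -, hw⟩ := isPreconnected_closed_iff.1 hconn {x} R hx hR hcov ⟨x, hxC, rfl⟩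
    ⟨z, hz, (hcov hz).resolve_left hzx⟩
  exact hxR ((Set.mem_singleton_iff.1 hw.1) ▸ hw.2)

end Groth.Agent.PtBlow
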