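import Groth.Agent.PtBlow.Seq
import Groth.Agent.DivPart.Extend
import Groth.Agent.UFDLib.Regular
import Groth.Agent.RegDual.Scheme
import Groth.Agent.GrpField.Dimension

/-!
On an integral regular two-dimensional Noetherian scheme a nonzero ideal sheaf is the product of an
invertible one and one with finite support.
-/

set_option autoImplicit false
set_option backward.isDefEq.respectTransparency false
set_option backward.isDefEq.respectTransparency.types false
set_option linter.style.haveILetI false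

universe u

open CategoryTheory CategoryTheory.Limits AlgebraicGeometry TopologicalSpace

noncomputable section

namespace Groth.Agent.PtBlow

theorem isClosed_of_dim_two {X : Scheme.{u}} (hdim : topologicalKrullDim X ≤ 2) {z : X}
    (hz : ringKrullDim (X.presheaf.stalk z) = 2) : IsClosed ({z} : Set X) := by
  rw [← closure_eq_iff_isClosed]
  refine Set.Subset.antisymm (fun w hw => ?_) subset_closure
  have hzw : z ⤳ w := specializes_iff_mem_closure.2 hw
  by_contra hne
  have h1 := Order.coheight_add_one_le (GrpField.lt_of_specializes hzw fun h => hne (h ▸ rfl))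
  have h2 := (RegDual.ringKrullDim_stalk_le_topologicalKrullDim w).trans hdim
  rw [ringKrullDim_stalk_eq_coheight] at hz h2
  have hz' : Order.coheight z = 2 := WithBot.coe_inj.1 hz
  have h2' : Order.coheight w ≤ 2 := WithBot.coe_le_coe.1 h2
  rw [hz'] at h1
  have h3 := h1.trans h2'
  exact absurd h3 (by decide)

theorem finite_of_isClosed_singletons {X : Type*} [TopologicalSpace X] [NoetherianSpace X] [QuasiSober X]
    {C : Set X} (hC : IsClosed C) (h : ∀ z ∈ C, IsClosed ({z} : Set X)) : C.Finite := by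
  obtain ⟨S, hSf, hScl, hSirr, rfl⟩ := NoetherianSpace.exists_finite_set_isClosed_irreducible hC
  refine hSf.sUnion fun t ht => ?_
  obtain ⟨η, hη⟩ := QuasiSober.sober (hSirr t ht) (hScl t ht)
  have hηt : η ∈ t := hη.mem
  rw [← hη.def, (h η ⟨t, ht, hηt⟩).closure_eq]
  exact Set.finite_singleton η

theorem ideal_ne_bot {X : Scheme.{u}} [IsIntegral X] {I : X.IdealSheafData} (hI : I ≠ ⊥) (W : X.affineOpens)
    {x : X} (hx : x ∈ W.1) : I.ideal W ≠ ⊥ := by
  intro h
  have hη : genericPoint X ∈ I.support := by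
    refine (FittLib.mem_support_iff I W ((genericPoint_specializes x).mem_open W.1.isOpen hx)).2 ?_
    rw [h]; exact bot_le
  refine hI (Scheme.IdealSheafData.support_eq_top_iff.1 (Closeds.ext (Set.eq_univ_of_forall fun y => ?_)))
  exact (genericPoint_specializes y).mem_closed I.support.isClosed hη

/-- the locus where an ideal sheaf is invertible -/
def invLocus {X : Scheme.{u}} (I : X.IdealSheafData) : X.Opens :=
  ⨆ W : {W : X.affineOpens // ∃ f ∈ nonZeroDivisors Γ(X, W.1), I.ideal W = Ideal.span {f}}, W.1.1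

theorem cartier_comap_invLocus {X : Scheme.{u}} (I : X.IdealSheafData) :
    BlowUp.IsEffCartierIdeal (I.comap (invLocus I).ι) := by
  intro y
  obtain ⟨⟨W, f, hf, he⟩, hyW⟩ := Opens.mem_iSup.1 (y.2 : y.1 ∈ invLocus I)
  have hWU : W.1 ≤ invLocus I := le_iSup
    (fun W : {W : X.affineOpens // ∃ f ∈ nonZeroDivisors Γ(X, W.1), I.ideal W = Ideal.span {f}} => W.1.1)
    ⟨W, f, hf, he⟩
  let ι := (invLocus I).ι
  have hWaff : IsAffineOpen (ι ⁻¹ᵁ W.1) :=
    W.2.preimage_of_isOpenImmersion ι (by rw [Scheme.Opens.opensRange_ι]; exact hWU)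
  refine ⟨⟨_, hWaff⟩, hyW, (ι.appLE W.1 _ le_rfl).hom f,
    BlowUpLib.mem_nonZeroDivisors_map_of_flat _ (ι.flat_appLE W.2 hWaff le_rfl) hf, ?_⟩
  rw [FpqcDescent.ideal_comap_appLE I ι W ⟨_, hWaff⟩ le_rfl, he, Ideal.map_span, Set.image_singleton]

theorem mem_invLocus_of_isPrincipal {X : Scheme.{u}} [IsIntegral X] [IsLocallyNoetherian X] {I : X.IdealSheafData}
    (hI : I ≠ ⊥) {O : X.Opens} (hO : IsAffineOpen O) {x : X} (hxO : x ∈ O)
    (hpr : ((I.ideal ⟨O, hO⟩).map (X.presheaf.germ O x hxO).hom).IsPrincipal) : x ∈ invLocus I := by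
  let W : X.affineOpens := ⟨O, hO⟩
  haveI := IsLocallyNoetherian.component_noetherian W
  haveI : Nonempty O := ⟨⟨x, hxO⟩⟩
  let p := (hO.primeIdealOf ⟨x, hxO⟩).asIdeal
  letI := TopCat.Presheaf.algebra_section_stalk X.presheaf (⟨x, hxO⟩ : O)
  haveI : IsLocalization.AtPrime (X.presheaf.stalk x) p := hO.isLocalization_stalk ⟨x, hxO⟩
  replace hpr : ((I.ideal W).map (algebraMap Γ(X, O) (X.presheaf.stalk x))).IsPrincipal := hpr
  obtain ⟨g, hg⟩ := hpr
  obtain ⟨a, s₀, rfl⟩ := IsLocalization.exists_mk'_eq p.primeCompl g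
  have hmap : (I.ideal W).map (algebraMap Γ(X, O) (X.presheaf.stalk x)) =
      (Ideal.span {a}).map (algebraMap Γ(X, O) (X.presheaf.stalk x)) := by
    rw [hg, Ideal.map_span, Set.image_singleton, ← Ideal.submodule_span_eq,
      ← IsLocalization.mk'_spec (X.presheaf.stalk x) a s₀]
    exact (Ideal.span_singleton_mul_right_unit (IsLocalization.map_units (X.presheaf.stalk x) s₀) _).symm
  obtain ⟨s, hs, hsI⟩ := DivPart.exists_mul_le (S := X.presheaf.stalk x) p (IsNoetherian.noetherian (I.ideal W))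
    hmap.le
  obtain ⟨t, ht, htI⟩ := DivPart.exists_mul_le (S := X.presheaf.stalk x) p (IsNoetherian.noetherian (Ideal.span {a}))
    hmap.ge
  have hane : a ≠ 0 := by
    rintro rfl
    obtain ⟨r, hr, hr0⟩ := Submodule.exists_mem_ne_zero_of_ne_bot (ideal_ne_bot hI W hxO)
    have := hsI r hr
    rw [Ideal.span_singleton_eq_bot.2 rfl, Ideal.mem_bot, mul_eq_zero] at this
    exact hs (this.resolve_right hr0 ▸ zero_mem p)
  have hσ : s * t ∉ p := fun h => ((inferInstance : p.IsPrime).mem_or_mem h).elim hs ht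
  let V : X.affineOpens := ⟨X.basicOpen (s * t), hO.basicOpen _⟩
  have hxV : x ∈ V.1 := (WeakAssLib.mem_primeIdealOf hO hxO _).mpr hσ
  haveI : Nonempty V.1 := ⟨⟨x, hxV⟩⟩
  letI := (X.presheaf.map (homOfLE (X.basicOpen_le (s * t))).op).hom.toAlgebra
  haveI : IsLocalization.Away (s * t) Γ(X, V.1) := hO.isLocalization_basicOpen (s * t)
  have hu : IsUnit (algebraMap Γ(X, O) Γ(X, V.1) (s * t)) := IsLocalization.Away.algebraMap_isUnit _
  rw [map_mul, IsUnit.mul_iff] at hu
  refine Opens.mem_iSup.2 ⟨⟨V, algebraMap Γ(X, O) Γ(X, V.1) a, mem_nonZeroDivisors_of_ne_zero ?_, ?_⟩, hxV⟩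
  · intro h
    obtain ⟨⟨_, n, rfl⟩, hn⟩ := (IsLocalization.map_eq_zero_iff (Submonoid.powers (s * t)) _ _).mp h
    rcases mul_eq_zero.1 hn with h' | h'
    · exact hσ ((inferInstance : p.IsPrime).mem_of_pow_mem n (by
        simp only at h'; rw [h']; exact zero_mem p))
    · exact hane h'
  · rw [show I.ideal V = (I.ideal W).map (algebraMap Γ(X, O) Γ(X, V.1)) from (I.map_ideal_basicOpen W (s * t)).symm]
    refine le_antisymm (Ideal.map_le_iff_le_comap.2 fun r hr => ?_) ?_
    · obtain ⟨c, hc⟩ := Ideal.mem_span_singleton.1 (hsI r hr)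
      rw [Ideal.mem_comap, ← Ideal.unit_mul_mem_iff_mem _ hu.1]
      exact Ideal.mem_span_singleton.2 ⟨algebraMap Γ(X, O) Γ(X, V.1) c, by rw [← map_mul, ← map_mul]; exact congrArg _ hc⟩
    · rw [Ideal.span_singleton_le_iff_mem, ← Ideal.unit_mul_mem_iff_mem _ hu.2]
      exact map_mul (algebraMap Γ(X, O) Γ(X, V.1)) t a ▸
        Ideal.mem_map_of_mem _ (htI a (Ideal.mem_span_singleton_self a))

theorem mem_invLocus {X : Scheme.{u}} [IsIntegral X] [IsLocallyNoetherian X] {I : X.IdealSheafData} (hI : I ≠ ⊥)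
    {x : X} (hreg : IsRegularLocalRing (X.presheaf.stalk x)) (hdim : ringKrullDim (X.presheaf.stalk x) ≤ 1) :
    x ∈ invLocus I := by
  obtain ⟨O, hO, hxO, -⟩ := exists_isAffineOpen_mem_and_subset (X := X) (x := x) (U := ⊤) trivial
  haveI := hreg
  haveI : IsPrincipalIdealRing (X.presheaf.stalk x) := by
    refine ((tfae_of_isNoetherianRing_of_isLocalRing_of_isDomain _).out 0 5).2 ?_
    have h1 := (IsRegularLocalRing.iff_finrank_cotangentSpace (X.presheaf.stalk x)).1 hreg
    rw [← h1] at hdim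
    exact_mod_cast hdim
  exact mem_invLocus_of_isPrincipal hI hO hxO (IsPrincipalIdealRing.principal _)

theorem exists_cartier_mul_finite (X : Scheme.{u}) [IsIntegral X] [IsNoetherian X]
    (hreg : ∀ x : X, IsRegularLocalRing (X.presheaf.stalk x)) (hdim : topologicalKrullDim X ≤ 2)
    (I : X.IdealSheafData) (hI : I ≠ ⊥) :
    ∃ (J L : X.IdealSheafData), I = J * L ∧ BlowUp.IsEffCartierIdeal L ∧ (J.support : Set X).Finite ∧
      (∀ x ∈ (J.support : Set X), IsRegPt X x) ∧ Disjoint (invLocus I : Set X) (J.support : Set X) := by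
  let U := invLocus I
  have hC : ∀ x ∈ (U : Set X)ᶜ, IsRegPt X x := fun x hx => by
    have hle : ringKrullDim (X.presheaf.stalk x) ≤ 2 :=
      (RegDual.ringKrullDim_stalk_le_topologicalKrullDim x).trans hdim
    have hnle : ¬ ringKrullDim (X.presheaf.stalk x) ≤ 1 := fun h => hx (mem_invLocus hI (hreg x) h)
    have h2 : ringKrullDim (X.presheaf.stalk x) = 2 := by
      rw [ringKrullDim_stalk_eq_coheight] at hle hnle ⊢
      have h1 : Order.coheight x ≤ 2 := WithBot.coe_le_coe.1 hle
      have h1' : ¬ Order.coheight x ≤ 1 := fun h => hnle (WithBot.coe_le_coe.2 h)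
      have : Order.coheight x = 2 := le_antisymm h1 (by
        obtain ⟨m, hm⟩ := ENat.ne_top_iff_exists.1 (ne_top_of_le_ne_top (by decide) h1)
        rw [← hm] at h1' ⊢
        norm_cast at h1' ⊢
        omega)
      exact WithBot.coe_inj.2 this
    exact ⟨isClosed_of_dim_two hdim h2, hreg x, h2⟩
  have hfin : ((U : Set X)ᶜ).Finite :=
    finite_of_isClosed_singletons U.isOpen.isClosed_compl fun z hz => (hC z hz).closed
  let L := (I.comap U.ι).map U.ι
  have hL : BlowUp.IsEffCartierIdeal L := DivPart.cartier_map_ι U _ (cartier_comap_invLocus I) fun x hx => by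
    haveI := hreg x
    exact ⟨inferInstance, UFDLib.ufd_of_isRegularLocalRing _⟩
  have hIL : I ≤ L := Scheme.IdealSheafData.le_map_iff_comap_le.2 le_rfl
  have hfg : ∀ V : X.affineOpens, (L.ideal V).FG := fun V => by
    haveI := IsLocallyNoetherian.component_noetherian V
    exact IsNoetherian.noetherian _
  let J := colon I L hfg
  have hgen : ∀ x : X, ∃ V : X.affineOpens, x ∈ V.1 ∧ (x ∈ U → V.1 ≤ U) ∧
      ∃ c ∈ nonZeroDivisors Γ(X, V.1), L.ideal V = Ideal.span {c} := fun x => by
    by_cases hxU : x ∈ U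
    · obtain ⟨V, hxV, hVU, c, hc, he⟩ := BlowUpLib.exists_small_generator hL hxU
      exact ⟨V, hxV, fun _ => hVU, c, hc, he⟩
    · obtain ⟨V, hxV, c, hc, he⟩ := hL x
      exact ⟨V, hxV, fun h => absurd h hxU, c, hc, he⟩
  choose V hxV hVU c hc he using hgen
  have hmul : ∀ x, I.ideal (V x) = (J * L).ideal (V x) := fun x => by
    rw [Scheme.IdealSheafData.ideal_mul, Pi.mul_apply, he x]
    refine le_antisymm (fun r hr => ?_) ?_
    · obtain ⟨d, rfl⟩ := Ideal.mem_span_singleton.1 (he x ▸ hIL (V x) hr)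
      rw [mul_comm (c x) d]
      refine Ideal.mul_mem_mul ((mem_colon _ _).2 fun l hl => ?_) (Ideal.mem_span_singleton_self _)
      obtain ⟨e, rfl⟩ := Ideal.mem_span_singleton.1 (he x ▸ hl)
      rw [← mul_assoc, mul_comm d]
      exact Ideal.mul_mem_right _ _ hr
    · rw [Ideal.mul_le]
      intro r hr l hl
      exact (mem_colon _ _).1 hr l (he x ▸ hl)
  refine ⟨J, L, Scheme.IdealSheafData.ext_of_iSup_eq_top V
    (eq_top_iff.2 fun x _ => Opens.mem_iSup.2 ⟨x, hxV x⟩) hmul, hL, ?_⟩
  have hsupp : (J.support : Set X) ⊆ (U : Set X)ᶜ := fun x hxJ hxU => by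
    have hIeq : I.ideal (V x) = L.ideal (V x) := by
      have h1 : L.comap U.ι = I.comap U.ι := DivPart.comap_map_ι U _
      let V' : (U : Scheme.{u}).affineOpens :=
        ⟨U.ι ⁻¹ᵁ (V x).1, (V x).2.preimage_of_isOpenImmersion U.ι (by
          rw [Scheme.Opens.opensRange_ι]; exact hVU x hxU)⟩
      have h2 := congrArg (fun K : (U : Scheme.{u}).IdealSheafData => K.ideal V') h1
      simp only [FpqcDescent.ideal_comap_appLE _ U.ι (V x) V' le_rfl] at h2
      haveI : IsIso (U.ι.appLE (V x).1 V'.1 le_rfl) := by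
        rw [Scheme.Hom.appLE_eq_app]
        exact U.ι.isIso_app (V x).1 (by rw [Scheme.Opens.opensRange_ι]; exact hVU x hxU)
      have hbij : Function.Bijective (U.ι.appLE (V x).1 V'.1 le_rfl).hom :=
        ConcreteCategory.bijective_of_isIso _
      have h3 := congrArg (Ideal.comap (U.ι.appLE (V x).1 V'.1 le_rfl).hom) h2
      rw [Ideal.comap_map_of_bijective _ hbij, Ideal.comap_map_of_bijective _ hbij] at h3
      exact h3.symm
    have htop : J.ideal (V x) = ⊤ := by
      rw [Ideal.eq_top_iff_one]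
      exact (mem_colon _ _).2 fun l hl => by rw [one_mul, hIeq]; exact hl
    have := (FittLib.mem_support_iff J (V x) (hxV x)).1 hxJ
    rw [htop, top_le_iff] at this
    exact Ideal.IsPrime.ne_top inferInstance this
  exact ⟨hfin.subset hsupp, fun x hx => hC x (hsupp hx), Set.disjoint_left.2 fun x hx hxJ => hsupp hxJ hx⟩

/-- Principalisation on a regular integral surface. -/
theorem exists_principalisation_integral (X : Scheme.{u}) [IsIntegral X] [IsNoetherian X]
    (hreg : ∀ x : X, IsRegularLocalRing (X.presheaf.stalk x)) (hdim : topologicalKrullDim X ≤ 2)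
    (I : X.IdealSheafData) (hI : I ≠ ⊥) :
    ∃ (X' : Scheme.{u}) (g : X' ⟶ X), Seq g ∧
      (∀ U : X.Opens, U ≤ invLocus I → IsIso (g ∣_ U)) ∧
      BlowUp.IsEffCartierIdeal (I.comap g) := by
  obtain ⟨J, L, hJL, hL, hfin, hJreg, hdisj⟩ := exists_cartier_mul_finite X hreg hdim I hI
  obtain ⟨X', g, hg, hiso, hcart⟩ := exists_principalisation X J hfin hJreg
  refine ⟨X', g, hg, fun U hU => ?_, ?_⟩
  · exact hiso U (hdisj.mono_left hU)
  · rw [hJL, BlowUpLib.comap_mul]
    exact BlowUpLib.cartier_mul hcart (hg.cartier_comap hL)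

end Groth.Agent.PtBlow
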