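import Groth.Agent.PtBlow.Seq
import Groth.Agent.RZExt.Consequences

/-!
A proper morphism which is an isomorphism off finitely many regular points of dimension two is dominated by a
sequence of point blow-ups.
-/

set_option autoImplicit false
set_option backward.isDefEq.respectTransparency false
set_option backward.isDefEq.respectTransparency.types false
set_option linter.style.haveILetI false

universe u

open CategoryTheory CategoryTheory.Limits AlgebraicGeometry TopologicalSpace

noncomputable section

namespace Groth.Agent.PtBlow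

theorem exists_dominating {X Y : Scheme.{u}} [IsNoetherian X] (U : X.Opens) (hfin : ((U : Set X)ᶜ).Finite)
    (hreg : ∀ x ∈ (U : Set X)ᶜ, IsRegPt X x) (f : Y ⟶ X) [IsProper f] [IsIso (f ∣_ U)] :
    ∃ (X' : Scheme.{u}) (g : X' ⟶ X) (h : X' ⟶ Y), Seq g ∧ IsIso (g ∣_ U) ∧ h ≫ f = g := by
  obtain ⟨I, D, h, hh, -, -, -, hD⟩ :=
    RZExt.exists_openImmersion (NoetherianSpace.isCompact (U : Set X)) f
  obtain ⟨X', g, hg, hiso, hcart⟩ := exists_principalisation X I.ideal (by rw [I.supp]; exact hfin)
    (fun x hx => hreg x (I.supp ▸ hx))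
  obtain ⟨k, hk, -⟩ := I.isBlowUp.2 X' g hcart
  obtain rfl : D = ⊤ := hD inferInstance
  refine ⟨X', g, k ≫ (Scheme.topIso I.T).inv ≫ h, hg,
    hiso U (by rw [I.supp]; exact disjoint_compl_right), ?_⟩
  rw [Category.assoc, Category.assoc, hh, ← Scheme.topIso_hom, Iso.inv_hom_id_assoc]
  exact hk

end Groth.Agent.PtBlow
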