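import Groth.Agent.PtBlow.H1Tools
import Groth.Agent.PtBlow.Dominate
import Groth.Agent.PtBlow.Decomp
import Groth.Agent.BlowReg.H1
import Groth.Agent.SteinGen.NormalBase
import Groth.Agent.W7Fib.Birat
import Groth.Agent.BiratCodimTwo.Basic
import Groth.Prelude.Def_Curv2
import Groth.Prelude.Def_StMod

/-!
Point blow-ups preserve normality and the vanishing of the first cohomology of the structure sheaf;
two-dimensional regular local rings define rational singularities.
-/

set_option autoImplicit false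
set_option backward.isDefEq.respectTransparency false
set_option backward.isDefEq.respectTransparency.types false
set_option linter.style.haveILetI false

universe u

open CategoryTheory CategoryTheory.Limits AlgebraicGeometry TopologicalSpace Groth.Agent.SiteCoh

noncomputable section

namespace Groth.Agent.PtBlow

theorem bijective_app_of_birational {X Y : Scheme.{u}} [IsIntegral X] [IsIntegral Y] (f : X ⟶ Y) [IsProper f]
    (hY : Pi1.IsNormalScheme Y) (V : Y.Opens) (hV : (V : Set Y).Nonempty) [IsIso (f ∣_ V)] (U : Y.Opens) :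
    Function.Bijective (f.app U) := by
  let ξ := genericPoint Y
  have hξV : ξ ∈ V := ((genericPoint_spec Y).mem_open_set_iff V.2).2 (by simpa using hV)
  have hgen : f (genericPoint X) = ξ := by
    obtain ⟨z, hz⟩ := (f ∣_ V).surjective ⟨ξ, hξV⟩
    have hz' : f z.1 = ξ := (morphismRestrict_base_coe f V z).symm.trans (congrArg Subtype.val hz)
    exact ((genericPoint_specializes (f (genericPoint X))).antisymm
      (by have := (genericPoint_specializes z.1).map f.continuous; rwa [hz'] at this)).eq.symm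
  have hr : Set.range (Y.fromSpecResidueField ξ) ⊆ Set.range V.ι := by
    rw [Scheme.range_fromSpecResidueField, Scheme.Opens.range_ι]
    exact Set.singleton_subset_iff.2 hξV
  have hr' : Set.range (f.fiberι ξ) ⊆ Set.range (f ⁻¹ᵁ V).ι := by
    rw [f.range_fiberι, Scheme.Opens.range_ι]
    intro x hx
    show f x ∈ V
    rw [show f x = ξ from hx]
    exact hξV
  let g := IsOpenImmersion.lift (f ⁻¹ᵁ V).ι (f.fiberι ξ) hr'
  let l := IsOpenImmersion.lift V.ι (Y.fromSpecResidueField ξ) hr
  have hsq : IsPullback g (f.fiberToSpecResidueField ξ) (f ∣_ V) l := by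
    refine IsPullback.of_right ?_ ?_ (isPullback_morphismRestrict f V).flip
    · rw [IsOpenImmersion.lift_fac, IsOpenImmersion.lift_fac]
      exact IsPullback.of_hasPullback _ _
    · rw [← cancel_mono V.ι]
      simp only [Category.assoc, morphismRestrict_ι, g, l, IsOpenImmersion.lift_fac, IsOpenImmersion.lift_fac_assoc]
      exact Limits.pullback.condition
  haveI : IsIso (f.fiberToSpecResidueField ξ) :=
    MorphismProperty.of_isPullback (P := MorphismProperty.isomorphisms Scheme.{u}) hsq ‹IsIso (f ∣_ V)›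
  haveI := SteinGen.isIso_app_of_normal f hY (fun Z hZ x hx => by
    rw [irreducibleComponents_eq_singleton, Set.mem_singleton_iff] at hZ
    subst hZ
    rw [hx.eq (genericPoint_spec X)]
    exact hgen) ((ConcreteCategory.isIso_iff_bijective _).1 inferInstance) U
  exact ConcreteCategory.bijective_of_isIso _

theorem isNormal_of_regular {R : Type u} [CommRing R] [IsRegularLocalRing R] : IsDomain R ∧ IsIntegrallyClosed R := by
  haveI := RegLoc.isDomain R
  haveI := UFDLib.ufd_of_isRegularLocalRing R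
  exact ⟨inferInstance, inferInstance⟩

theorem subsingleton_hh_of_isAffine {X : Scheme.{u}} [IsAffine X] (M : X.Modules) [M.IsQuasicoherent] :
    Subsingleton (Coh.HH X M 1) :=
  haveI := CohQC.hu_vanish_of_isAffineOpen M (isAffineOpen_top X) 0
  (huTerminalEquiv (Opens.grothendieckTopology X) isTerminalTop (Coh.toAb M) 1).toEquiv.subsingleton

variable {Y Z : Scheme.{u}} {b : Y ⟶ Z} {z : Z}

theorem genericPoint_ne [IsIntegral Z] (hz : IsRegPt Z z) : genericPoint Z ≠ z := fun h => by
  have h1 : ringKrullDim (Z.presheaf.stalk (genericPoint Z)) = 0 := ringKrullDim_eq_zero_of_field Z.functionField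
  have h2 := hz.dim
  subst h
  rw [h1] at h2
  exact absurd h2 (by decide)

theorem pt_ne_bot [IsIntegral Z] (hz : IsRegPt Z z) : pt hz ≠ ⊥ := fun h => genericPoint_ne hz (by
  have : genericPoint Z ∈ ((pt hz).support : Set Z) := by
    rw [h, Scheme.IdealSheafData.support_bot]; trivial
  rwa [coe_support_pt hz] at this)

theorem isRegular_stalk_over [IsNoetherian Z] (hz : IsRegPt Z z) (hb : BlowUp.IsBlowUp b (pt hz)) {y : Y}
    (hy : b y = z) : IsRegularLocalRing (Y.presheaf.stalk y) := by
  obtain ⟨W, -, hzW, hdom, hnoeth, hmax, x₀, x₁, hG⟩ :=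
    exists_goodNbhd z hz.closed hz.reg hz.dim ⊤ trivial
  haveI := hdom
  haveI := hmax
  obtain ⟨G₀, G₁, hG₀, hG₁, hcov, hc₀, hc₁⟩ :=
    exists_charts hb W hG.span (hG.left_ne_zero hmax.ne_top) (hG.symm.left_ne_zero hmax.ne_top)
  have key : ∀ (u v : Γ(Z, W.1)) (G : Y.affineOpens) (hle : G.1 ≤ b ⁻¹ᵁ W.1),
      Good ((pt hz).ideal W) u v →
      (letI := (b.appLE W.1 G.1 hle).hom.toAlgebra; ∃ τ, Chart u v Γ(Y, G.1) τ) → y ∈ G.1 →
      IsRegularLocalRing (Y.presheaf.stalk y) := by
    intro u v G hle hGood hc hyG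
    letI := (b.appLE W.1 G.1 hle).hom.toAlgebra
    obtain ⟨τ, hC⟩ := hc
    haveI := hC.isNoetherianRing
    let q := (G.2.primeIdealOf ⟨y, hyG⟩).asIdeal
    have hE : ((pt hz).comap b).ideal G = Ideal.span {algebraMap Γ(Z, W.1) Γ(Y, G.1) u} := by
      rw [FpqcDescent.ideal_comap_appLE (pt hz) b W G hle]
      exact hC.map_eq hGood
    have huq : algebraMap Γ(Z, W.1) Γ(Y, G.1) u ∈ q := by
      have h1 := (FittLib.mem_support_iff ((pt hz).comap b) G hyG).1 ((mem_support_comap_pt b hz).2 hy)
      rw [hE] at h1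
      exact h1 (Ideal.mem_span_singleton_self _)
    letI : Algebra Γ(Y, G.1) (Y.presheaf.stalk y) := (Y.presheaf.germ G.1 y hyG).hom.toAlgebra
    haveI : IsLocalization.AtPrime (Y.presheaf.stalk y) q := G.2.isLocalization_stalk ⟨y, hyG⟩
    haveI := hC.isRegularLocalRing hGood q huq
    exact IsRegularLocalRing.of_ringEquiv
      (IsLocalization.algEquiv q.primeCompl (Localization.AtPrime q) (Y.presheaf.stalk y)).toRingEquiv
  rcases hcov y (show b y ∈ W.1 from hy ▸ hzW) with h | h
  · exact key _ _ G₀ hG₀ hG hc₀ h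
  · exact key _ _ G₁ hG₁ hG.symm hc₁ h

theorem isRegular_blowUp [IsNoetherian Z] (hz : IsRegPt Z z) (hb : BlowUp.IsBlowUp b (pt hz))
    (hr : ∀ w : Z, IsRegularLocalRing (Z.presheaf.stalk w)) (y : Y) : IsRegularLocalRing (Y.presheaf.stalk y) := by
  by_cases hy : b y = z
  · exact isRegular_stalk_over hz hb hy
  · have hmem : b y ∈ (pt hz).support.compl := by
      show b y ∉ ((pt hz).support : Set Z)
      rw [coe_support_pt hz]; exact hy
    haveI := BlowUpLib.isIso_stalkMap hb hmem
    haveI := hr (b y)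
    exact IsRegularLocalRing.of_ringEquiv (asIso (b.stalkMap y)).commRingCatIsoToRingEquiv

theorem isNormal_blowUp [IsNoetherian Z] (hz : IsRegPt Z z) (hb : BlowUp.IsBlowUp b (pt hz))
    (hn : Pi1.IsNormalScheme Z) : Pi1.IsNormalScheme Y := by
  intro y
  by_cases hy : b y = z
  · haveI := isRegular_stalk_over hz hb hy
    exact isNormal_of_regular
  · have hmem : b y ∈ (pt hz).support.compl := by
      show b y ∉ ((pt hz).support : Set Z)
      rw [coe_support_pt hz]; exact hy
    haveI := BlowUpLib.isIso_stalkMap hb hmem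
    let e := (asIso (b.stalkMap y)).commRingCatIsoToRingEquiv
    obtain ⟨_, _⟩ := hn (b y)
    exact ⟨e.symm.toMulEquiv.isDomain _, IsIntegrallyClosed.of_equiv e⟩

theorem h1_local [IsNoetherian Z] (hz : IsRegPt Z z) (hb : BlowUp.IsBlowUp b (pt hz)) (y : Z) (V : Z.Opens)
    (hyV : y ∈ V) : ∃ W : Z.Opens, y ∈ W ∧ W ≤ V ∧
      Subsingleton (CohSite.HU (Coh.toAb (Coh.structureModule Y)) 1 (b ⁻¹ᵁ W)) := by
  haveI : (Coh.structureModule Y).IsQuasicoherent := StMod.isQCoh_structureModule Y
  by_cases hy : y = z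
  · subst hy
    obtain ⟨W, hWV, hyW, -, -, -, x₀, x₁, hG⟩ := exists_goodNbhd y hz.closed hz.reg hz.dim V hyV
    obtain ⟨μ, hμ, hμr, -⟩ := BlowAmp.exists_model hb W
    let J := (pt hz).ideal W
    haveI : (Coh.structureModule (Proj (Rees.deg (reesAlgebra J)))).IsQuasicoherent := StMod.isQCoh_structureModule _
    have hP : Subsingleton (Coh.HH (Proj (Rees.deg (reesAlgebra J))) (Coh.structureModule _) 1) :=
      BlowReg.subsingleton_h1_blowUp x₀ x₁ J hG.span (BlowUpExist.structMap J) (BlowUpExist.isBlowUp_affine J) _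
        ⟨PUnit.{u + 1}, (coproductUniqueIso _).hom, inferInstance⟩
    haveI := hμ
    let e := IsOpenImmersion.isoOfRangeEq μ (b ⁻¹ᵁ W.1).ι (by rw [hμr, Scheme.Opens.range_ι])
    have h1 : Subsingleton (Coh.HH ((b ⁻¹ᵁ W.1).toScheme) (Coh.structureModule _) 1) :=
      subsingleton_h1_of_dominated e.hom (fun U => ConcreteCategory.bijective_of_isIso _) hP
    have h2 := CohQC.hh_subsingleton_of_iso (Scheme.Modules.restrictUnitIso (b ⁻¹ᵁ W.1).ι).symm 1 h1
    obtain ⟨ψ⟩ := CohQC.hu_restrict (Coh.structureModule Y) (b ⁻¹ᵁ W.1) 1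
    exact ⟨W.1, hyW, hWV, ψ.toEquiv.subsingleton_congr.2 h2⟩
  · let U := (pt hz).support.compl
    have hyU : y ∈ U := by
      show y ∉ ((pt hz).support : Set Z)
      rw [coe_support_pt hz]; exact hy
    obtain ⟨W, hW, hyW, hWle⟩ := exists_isAffineOpen_mem_and_subset (x := y) (U := V ⊓ U) ⟨hyV, hyU⟩
    haveI : IsIso (b ∣_ W) := isIso_restrict_le b (V := U) (fun w hw => (hWle hw).2) (BlowUpLib.isIso_restrict hb)
    haveI : IsAffine W := hW
    have hWaff : IsAffineOpen (b ⁻¹ᵁ W) := (IsAffine.of_isIso (b ∣_ W) : _)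
    exact ⟨W, hyW, fun w hw => (hWle hw).1, CohQC.hu_vanish_of_isAffineOpen _ hWaff 0⟩

theorem Seq.normal_h1 {Y X : Scheme.{u}} {g : Y ⟶ X} (hg : Seq g) (hi : IsIntegral X) (hn : Pi1.IsNormalScheme X)
    (h : Subsingleton (Coh.HH X (Coh.structureModule X) 1)) :
    IsIntegral Y ∧ Pi1.IsNormalScheme Y ∧ Subsingleton (Coh.HH Y (Coh.structureModule Y) 1) := by
  induction hg with
  | id X => exact ⟨hi, hn, h⟩
  | @step Y' Z' X' b r z hz hN hb hr ih =>
    haveI := hN
    obtain ⟨hZi, hZn, hZ⟩ := ih hi hn h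
    haveI := hZi
    haveI : IsIntegral Y' := W7Fib.isIntegral_blowUp (pt_ne_bot hz) hb
    haveI := isProper_blowUp hz hb
    haveI := BlowUpLib.isIso_restrict hb
    refine ⟨inferInstance, isNormal_blowUp hz hb hZn, subsingleton_h1_of_local b
      (bijective_app_of_birational b hZn (pt hz).support.compl ⟨genericPoint Z', ?_⟩) (h1_local hz hb) hZ⟩
    show genericPoint Z' ∉ ((pt hz).support : Set Z')
    rw [coe_support_pt hz]
    exact genericPoint_ne hz

theorem isRationalSing_of_regular {A : Type u} [CommRing A] [IsRegularLocalRing A] (hdim : ringKrullDim A = 2) :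
    Curv2.IsRationalSing A := by
  intro X f hf hXi hXn hbir
  haveI := hf
  haveI := hXi
  obtain ⟨hAd, hAi⟩ := isNormal_of_regular (R := A)
  let S := Spec (CommRingCat.of A)
  have hSn : Pi1.IsNormalScheme S := fun p => by
    letI : Algebra A (S.presheaf.stalk p) := (StructureSheaf.toStalk A p).hom.toAlgebra
    haveI : IsLocalization.AtPrime (S.presheaf.stalk p) p.asIdeal := StructureSheaf.IsLocalization.to_stalk A p
    exact ⟨IsLocalization.isDomain_of_le_nonZeroDivisors (S.presheaf.stalk p) (Ideal.primeCompl_le_nonZeroDivisors p.asIdeal),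
      isIntegrallyClosed_of_isLocalization _ p.asIdeal.primeCompl (Ideal.primeCompl_le_nonZeroDivisors _)⟩
  obtain ⟨V, hV, hVf⟩ := hbir
  haveI := hVf
  have hO := bijective_app_of_birational f hSn V hV
  let U : S.Opens := ⨆ W : {W : S.Opens // IsIso (f ∣_ W)}, W.1
  haveI hUiso : IsIso (f ∣_ U) := BiratCodimTwo.isIso_iSup f
  have htop : topologicalKrullDim S ≤ 2 :=
    le_of_eq ((PrimeSpectrum.topologicalKrullDim_eq_ringKrullDim A).trans hdim)
  have hC : ∀ p ∈ (U : Set S)ᶜ, p = IsLocalRing.closedPoint A ∧ IsRegPt S p := fun p hp => by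
    have h2 : 2 ≤ ringKrullDim (S.presheaf.stalk p) := not_not.1 fun h2 => hp (by
      obtain ⟨W, hpW, hW⟩ := BiratCodimTwo.exists_nhd f ⟨V, hV, hVf⟩ hO p h2
      exact Opens.mem_iSup.2 ⟨⟨W, hW⟩, hpW⟩)
    have heq : ringKrullDim (S.presheaf.stalk p) = 2 :=
      le_antisymm ((RegDual.ringKrullDim_stalk_le_topologicalKrullDim p).trans htop) h2
    have hcl := isClosed_of_dim_two htop heq
    obtain rfl : p = IsLocalRing.closedPoint A := by
      haveI : p.asIdeal.IsMaximal := (PrimeSpectrum.isClosed_singleton_iff_isMaximal p).1 hcl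
      exact PrimeSpectrum.ext (IsLocalRing.eq_maximalIdeal inferInstance)
    refine ⟨rfl, hcl, ?_, heq⟩
    letI : Algebra A (S.presheaf.stalk (IsLocalRing.closedPoint A)) :=
      (StructureSheaf.toStalk A (IsLocalRing.closedPoint A)).hom.toAlgebra
    haveI : IsLocalization.AtPrime (S.presheaf.stalk (IsLocalRing.closedPoint A)) (IsLocalRing.maximalIdeal A) :=
      StructureSheaf.IsLocalization.to_stalk A (IsLocalRing.closedPoint A)
    exact IsRegularLocalRing.of_ringEquiv (IsLocalization.atUnits A (IsLocalRing.maximalIdeal A).primeCompl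
      (S := S.presheaf.stalk (IsLocalRing.closedPoint A)) (fun a ha => IsLocalRing.notMem_maximalIdeal.1 ha)).toRingEquiv
  obtain ⟨X', g, h, hg, hgU, hh⟩ := exists_dominating U
    ((Set.finite_singleton (IsLocalRing.closedPoint A)).subset fun p hp => (hC p hp).1) (fun p hp => (hC p hp).2) f
  haveI := hgU
  haveI : (Coh.structureModule S).IsQuasicoherent := StMod.isQCoh_structureModule S
  obtain ⟨hX'i, -, hH⟩ := hg.normal_h1 inferInstance hSn (subsingleton_hh_of_isAffine _)
  haveI := hX'i
  haveI := hg.isProper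
  haveI : IsProper (h ≫ f) := hh ▸ hg.isProper
  haveI : IsProper h := IsProper.of_comp h f
  haveI : IsIso (h ∣_ f ⁻¹ᵁ U) := by
    haveI : IsIso (h ∣_ f ⁻¹ᵁ U ≫ f ∣_ U) := by
      rw [← morphismRestrict_comp]
      subst hh
      exact hgU
    exact IsIso.of_isIso_comp_right (h ∣_ f ⁻¹ᵁ U) (f ∣_ U)
  have hne : (f ⁻¹ᵁ U : Set X).Nonempty := by
    obtain ⟨v, hv⟩ := hV
    obtain ⟨w, -⟩ := (f ∣_ V).surjective ⟨v, hv⟩
    exact ⟨w.1, (le_iSup (fun W : {W : S.Opens // IsIso (f ∣_ W)} => W.1) ⟨V, hVf⟩) w.2⟩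
  exact subsingleton_h1_of_dominated h (bijective_app_of_birational h hXn (f ⁻¹ᵁ U) hne) hH

end Groth.Agent.PtBlow
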