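import Groth.Agent.PtBlow.Contraction
import Groth.Agent.PtBlow.Rational
import Groth.Agent.Horrocks.Dim
import Groth.Agent.FlatHartogs.Normal
import Groth.Agent.SectionExt.Basic
import Groth.Prelude.Def_ModelsG

/-!
The universal property of the contraction of an exceptional curve of the first kind.
-/

set_option autoImplicit false
set_option backward.isDefEq.respectTransparency false
set_option backward.isDefEq.respectTransparency.types false
set_option linter.style.haveILetI false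

universe u

open CategoryTheory CategoryTheory.Limits AlgebraicGeometry TopologicalSpace

noncomputable section

namespace Groth.Agent.PtBlow

/-- A section on a blow-up vanishing outside the exceptional divisor is zero. -/
theorem eq_zero_of_off_exceptional {X X' : Scheme.{u}} {I : X.IdealSheafData} {b : X' ⟶ X}
    (hb : BlowUp.IsBlowUp b I) {O : X'.Opens} (s : Γ(X', O))
    (h : ∀ (x : X') (hx : x ∈ O), b x ∈ I.support.compl → X'.presheaf.germ O x hx s = 0) : s = 0 := by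
  refine TopCat.Presheaf.section_ext X'.sheaf O _ _ fun x hx => ?_
  obtain ⟨W, hxW, hWO, g, hg, hge⟩ := BlowUpLib.exists_small_generator hb.1 (O := O) (x := x) hx
  have h0 : (X'.presheaf.map (homOfLE hWO).op).hom s = 0 := by
    refine BlowUpLib.eq_zero_of_germ hg _ fun y hy => ?_
    exact (X'.presheaf.germ_res_apply _ _ _ _).trans
      (h y (hWO (X'.basicOpen_le g hy)) (BlowUpLib.notMem_support_of_mem_basicOpen b I hge hy))
  refine Eq.trans ?_ (map_zero _).symm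
  refine ((X'.presheaf.germ_res_apply (homOfLE hWO) x hxW s).symm.trans ?_)
  exact (congrArg (X'.presheaf.germ W.1 x hxW) h0).trans (map_zero _)

theorem bijective_app_of_le {X X' : Scheme.{u}} (b : X' ⟶ X) (U : X.Opens) [IsIso (b ∣_ U)] {W : X.Opens}
    (hW : W ≤ U) : Function.Bijective (b.app W) := by
  haveI : IsIso (b ∣_ W) := isIso_restrict_le b (V := U) hW inferInstance
  have h2 : IsIso ((b ∣_ W).app ⊤) := inferInstance
  rw [morphismRestrict_app] at h2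
  have h3 : IsIso (b.app (W.ι ''ᵁ ⊤)) := @IsIso.of_isIso_comp_right _ _ _ _ _ _ _ inferInstance h2
  rw [W.ι_image_top] at h3
  exact ConcreteCategory.bijective_of_isIso (b.app W)

/-- Functions on an affine open are the functions on its preimage in the blow-up of a regular point of dimension two. -/
theorem bijective_app_blowUp {X X' : Scheme.{u}} [IsNoetherian X] {y : X} (hy : IsRegPt X y) {b : X' ⟶ X}
    (hb : BlowUp.IsBlowUp b (pt hy)) {V : X.Opens} (hV : IsAffineOpen V) : Function.Bijective (b.app V) := by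
  let U : X.Opens := (pt hy).support.compl
  haveI := BlowUpLib.isIso_restrict hb
  have hZ : ∀ z : X, z ∉ U → (IsDomain (X.presheaf.stalk z) ∧ IsIntegrallyClosed (X.presheaf.stalk z) ∧
      IsNoetherianRing (X.presheaf.stalk z)) ∧ (2 : WithBot ℕ∞) ≤ ringKrullDim (X.presheaf.stalk z) := by
    intro z hz
    have hz' : z ∈ ((pt hy).support : Set X) := not_not.1 hz
    rw [coe_support_pt hy] at hz'
    obtain rfl : z = y := hz'
    haveI := hy.reg
    exact ⟨⟨isNormal_of_regular.1, isNormal_of_regular.2, inferInstance⟩, hy.dim.ge⟩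
  haveI : IsLocallyNoetherian X := inferInstance
  have hres := FlatHartogs.Normal.bijective_res (U := U) hZ hV
  have hiso := bijective_app_of_le b U (W := V ⊓ U) inf_le_right
  have hnat : ∀ t, b.app (V ⊓ U) (X.presheaf.map (homOfLE inf_le_left : V ⊓ U ⟶ V).op t) =
      X'.presheaf.map (homOfLE (b.preimage_mono inf_le_left)).op (b.app V t) := fun t =>
    ConcreteCategory.congr_hom (b.naturality (homOfLE inf_le_left : V ⊓ U ⟶ V).op) t
  constructor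
  · intro s t hst
    refine hres.1 (hiso.1 ?_)
    rw [hnat, hnat, hst]
  · intro s
    obtain ⟨t', ht'⟩ := hiso.2 (X'.presheaf.map (homOfLE (b.preimage_mono inf_le_left)).op s)
    obtain ⟨t, rfl⟩ := hres.2 t'
    refine ⟨t, sub_eq_zero.1 (eq_zero_of_off_exceptional hb _ fun x hx hxU => ?_)⟩
    have hx' : x ∈ b ⁻¹ᵁ (V ⊓ U) := ⟨hx, hxU⟩
    have h1 := congrArg (X'.presheaf.germ (b ⁻¹ᵁ (V ⊓ U)) x hx') ((hnat t).symm.trans ht')
    rw [map_sub, sub_eq_zero]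
    exact (X'.presheaf.germ_res_apply _ x hx' _).symm.trans (h1.trans (X'.presheaf.germ_res_apply _ x hx' _))

theorem surjective_blowUp {X X' : Scheme.{u}} [IsNoetherian X] {y : X} (hy : IsRegPt X y) {b : X' ⟶ X}
    (hb : BlowUp.IsBlowUp b (pt hy)) : Function.Surjective b := by
  intro z
  by_cases hz : z = y
  · obtain ⟨k, _, ι, -, -, h3, -, hr⟩ := exists_contraction' hy hb
    obtain ⟨-, -, y', hy', hry, -⟩ := h3
    obtain ⟨w, hw⟩ := hry.symm.subset (Set.mem_singleton y')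
    have : ι w ∈ b ⁻¹' {y} := hr.subset ⟨w, rfl⟩
    exact ⟨ι w, this.trans hz.symm⟩
  · haveI := BlowUpLib.isIso_restrict hb
    have hzU : z ∈ (pt hy).support.compl := by
      show z ∉ ((pt hy).support : Set X)
      rw [coe_support_pt hy]; exact hz
    obtain ⟨w, hw⟩ := (b ∣_ (pt hy).support.compl).surjective ⟨z, hzU⟩
    exact ⟨w.1, (morphismRestrict_base_coe b _ w).symm.trans (congrArg Subtype.val hw)⟩

/-- A blow-up of a regular point of dimension two is an epimorphism. -/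
theorem epi_blowUp {X X' Y : Scheme.{u}} [IsNoetherian X] {y : X} (hy : IsRegPt X y) {b : X' ⟶ X}
    (hb : BlowUp.IsBlowUp b (pt hy)) {ψ₁ ψ₂ : X ⟶ Y} (h : b ≫ ψ₁ = b ≫ ψ₂) : ψ₁ = ψ₂ := by
  have hpt : ∀ x, ψ₁ x = ψ₂ x := fun x => by
    obtain ⟨w, rfl⟩ := surjective_blowUp hy hb x
    rw [← Scheme.Hom.comp_apply, h, Scheme.Hom.comp_apply]
  have key : ∀ x : X, ∃ W : X.Opens, x ∈ W ∧ W.ι ≫ ψ₁ = W.ι ≫ ψ₂ := fun x => by
    obtain ⟨V, hV, hxV, -⟩ := exists_isAffineOpen_mem_and_subset (x := ψ₁ x) (U := ⊤) trivial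
    obtain ⟨W, hW, hxW, hWle⟩ := exists_isAffineOpen_mem_and_subset (x := x) (U := ψ₁ ⁻¹ᵁ V ⊓ ψ₂ ⁻¹ᵁ V)
      ⟨hxV, show ψ₂ x ∈ V from hpt x ▸ hxV⟩
    have e₁ : W ≤ ψ₁ ⁻¹ᵁ V := fun z hz => (hWle hz).1
    have e₂ : W ≤ ψ₂ ⁻¹ᵁ V := fun z hz => (hWle hz).2
    have happ : ψ₁.appLE V W e₁ = ψ₂.appLE V W e₂ := by
      refine CommRingCat.hom_ext (RingHom.ext fun t => (bijective_app_blowUp hy hb hW).1 ?_)
      have k₁ := ConcreteCategory.congr_hom (Scheme.Hom.appLE_comp_appLE b ψ₁ V W (b ⁻¹ᵁ W) e₁ le_rfl) t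
      have k₂ := ConcreteCategory.congr_hom (Scheme.Hom.appLE_comp_appLE b ψ₂ V W (b ⁻¹ᵁ W) e₂ le_rfl) t
      rw [← Scheme.Hom.appLE_eq_app b]
      refine k₁.trans (Eq.trans ?_ k₂.symm)
      congr 1
      simp only [h]
    refine ⟨W, hxW, ?_⟩
    rw [← IsAffineOpen.toSpecΓ_fromSpec hW, Category.assoc, Category.assoc,
      ← hV.SpecMap_appLE_fromSpec ψ₁ hW e₁, ← hV.SpecMap_appLE_fromSpec ψ₂ hW e₂, happ]
  choose W hW hWeq using key
  refine (X.openCoverOfIsOpenCover W (.mk (eq_top_iff.2 fun x _ => Opens.mem_iSup.2 ⟨x, hW x⟩))).hom_ext _ _ fun x => ?_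
  exact hWeq x

/-- A closed immersion of a projective line into the exceptional fibre fills it. -/
theorem range_eq_preimage {X X' E : Scheme.{u}} [IsNoetherian X] {y : X} (hy : IsRegPt X y) {b : X' ⟶ X}
    (hb : BlowUp.IsBlowUp b (pt hy)) (ι : E ⟶ X') [IsClosedImmersion ι] {k : Type u} [Field k]
    (e : CohB1.ProjSpace 1 k ≅ E) (hιy : ∀ z, b (ι z) = y) : Set.range ι = b ⁻¹' {y} := by
  obtain ⟨k₀, _, ι₀, _, -, -, -, hr⟩ := exists_contraction' hy hb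
  refine Set.Subset.antisymm (by rintro _ ⟨z, rfl⟩; exact hιy z) ?_
  let Z : Set (CohB1.ProjSpace 1 k₀) := ι₀ ⁻¹' Set.range ι
  have hZ : IsClosed Z := ι.isClosedMap.isClosed_range.preimage ι₀.continuous
  suffices Z = Set.univ by
    intro x hx
    obtain ⟨z, rfl⟩ := hr.symm.subset hx
    exact this.symm.subset (Set.mem_univ z)
  by_contra hne
  have hdim := Horrocks.dim_le_of_closed_ne_univ hZ hne 0 le_rfl
  have hsub : ∀ z₁ ∈ Z, ∀ z₂ ∈ Z, z₁ ⤳ z₂ → z₁ = z₂ := by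
    intro z₁ h₁ z₂ h₂ hs
    by_contra hne12
    haveI : QuasiSober Z := hZ.isClosedEmbedding_subtypeVal.quasiSober
    have := Unibranch.natCast_le_topologicalKrullDim
      (![⟨z₁, h₁⟩, ⟨z₂, h₂⟩] : Fin 2 → Z) fun i => by
        fin_cases i
        exact ⟨(subtype_specializes_iff _ _).2 hs, fun h => hne12 (congrArg Subtype.val h)⟩
    exact absurd (this.trans hdim) (by norm_num)
  haveI : IsIntegral (CohB1.ProjSpace 1 k) := Horrocks.isIntegral_projSpace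
  have hlift : ∀ w : CohB1.ProjSpace 1 k, ∃ z ∈ Z, ι₀ z = ι (e.hom w) := fun w => by
    obtain ⟨z, hz⟩ := hr.symm.subset (hιy (e.hom w) : ι (e.hom w) ∈ b ⁻¹' {y})
    exact ⟨z, ⟨e.hom w, hz.symm⟩, hz⟩
  haveI : Subsingleton (CohB1.ProjSpace 1 k) := by
    refine ⟨fun a c => ?_⟩
    suffices ∀ a, a = genericPoint (CohB1.ProjSpace 1 k) from (this a).trans (this c).symm
    intro a
    obtain ⟨z₁, h₁, e₁⟩ := hlift (genericPoint (CohB1.ProjSpace 1 k))
    obtain ⟨z₂, h₂, e₂⟩ := hlift a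
    have hs : ι₀ z₁ ⤳ ι₀ z₂ := e₁ ▸ e₂ ▸ ((genericPoint_specializes a).map e.hom.continuous).map ι.continuous
    have hz : z₁ = z₂ := hsub z₁ h₁ z₂ h₂ (ι₀.isClosedEmbedding.isInducing.specializes_iff.1 hs)
    exact (e.hom.isOpenEmbedding.injective (ι.isClosedEmbedding.injective (e₁.symm.trans (hz ▸ e₂)))).symm
  haveI : Nonempty (CohB1.ProjSpace 1 k) := ⟨genericPoint _⟩
  refine ProjMor.not_isAffine_projLine k ?_
  obtain ⟨W, hW, hgW, -⟩ := exists_isAffineOpen_mem_and_subset (x := genericPoint (CohB1.ProjSpace 1 k)) (U := ⊤) trivial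
  have : W = ⊤ := eq_top_iff.2 fun z _ => Subsingleton.elim (genericPoint _) z ▸ hgW
  haveI : IsAffine ((⊤ : (CohB1.ProjSpace 1 k).Opens) : Scheme.{u}) := this ▸ hW
  exact IsAffine.of_isIso (CohB1.ProjSpace 1 k).topIso.inv

/-- The universal property of the contraction of an exceptional curve. -/
theorem existsUnique_desc {E X X' Y : Scheme.{u}} (ι : E ⟶ X) [IsClosedImmersion ι] (hE : Models.IsExcCurve ι)
    (b : X ⟶ X') (hb : Models.IsContractionOf ι b) (φ : X ⟶ Y) (y : Y)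
    (hφ : Set.range ((ι ≫ φ).base : E → Y) = {y}) : ∃! ψ : X' ⟶ Y, b ≫ ψ = φ := by
  obtain ⟨hN, hproper, y₀, hy₀, hr₀, hreg, hdim, hbl⟩ := hb
  haveI := hN
  haveI := hproper
  have hy : IsRegPt X' y₀ := ⟨hy₀, hreg, hdim⟩
  obtain ⟨-, k, _, e, -⟩ := hE
  have hfib : Set.range ι = b ⁻¹' {y₀} := range_eq_preimage hy hbl ι e fun z =>
    (Scheme.Hom.comp_apply ι b z).symm.trans (hr₀.subset ⟨z, rfl⟩)
  obtain ⟨V, hV, hyV, -⟩ := exists_isAffineOpen_mem_and_subset (x := y) (U := ⊤) trivial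
  -- an affine neighbourhood of the point whose preimage lands in `V`
  have hopen : ∃ O : X'.Opens, y₀ ∈ O ∧ b ⁻¹ᵁ O ≤ φ ⁻¹ᵁ V := by
    refine ⟨⟨(b '' (φ ⁻¹ᵁ V : Set X)ᶜ)ᶜ, (b.isClosedMap _ (φ ⁻¹ᵁ V).isOpen.isClosed_compl).isOpen_compl⟩, ?_,
      fun x hx => by_contra fun h => hx ⟨x, h, rfl⟩⟩
    rintro ⟨x, hx, hxy⟩
    obtain ⟨z, rfl⟩ := hfib.symm.subset (show x ∈ b ⁻¹' {y₀} from hxy)
    refine hx ?_
    show φ (ι z) ∈ V
    rw [show φ (ι z) = y from (Scheme.Hom.comp_apply ι φ z).symm.trans (hφ.subset ⟨z, rfl⟩)]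
    exact hyV
  obtain ⟨O, hyO, hO⟩ := hopen
  obtain ⟨W, hW, hyW, hWO⟩ := exists_isAffineOpen_mem_and_subset (x := y₀) (U := O) hyO
  have hWV : b ⁻¹ᵁ W ≤ φ ⁻¹ᵁ V := (b.preimage_mono hWO).trans hO
  haveI : IsIso (b.app W) := (ConcreteCategory.isIso_iff_bijective _).2 (bijective_app_blowUp hy hbl hW)
  let ψW : W.toScheme ⟶ Y := W.toSpecΓ ≫ Spec.map (φ.appLE V (b ⁻¹ᵁ W) hWV ≫ inv (b.app W)) ≫ hV.fromSpec
  have hψW : b ∣_ W ≫ ψW = (b ⁻¹ᵁ W).ι ≫ φ := by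
    simp only [ψW, Spec.map_comp]
    rw [Category.assoc, ← Scheme.Opens.toSpecΓ_naturality_assoc, ← Spec.map_comp_assoc, IsIso.inv_hom_id,
      Spec.map_id, Category.id_comp, Scheme.Opens.toSpecΓ_SpecMap_appLE_assoc, hV.toSpecΓ_fromSpec,
      Scheme.Hom.resLE_comp_ι]
  let U : X'.Opens := (pt hy).support.compl
  haveI := BlowUpLib.isIso_restrict hbl
  let ψU : U.toScheme ⟶ Y := inv (b ∣_ U) ≫ (b ⁻¹ᵁ U).ι ≫ φ
  have hagree : X'.homOfLE (inf_le_left : W ⊓ U ≤ W) ≫ ψW = X'.homOfLE (inf_le_right : W ⊓ U ≤ U) ≫ ψU := by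
    haveI : IsIso (b ∣_ (W ⊓ U)) := isIso_restrict_le b (V := U) inf_le_right inferInstance
    rw [← cancel_epi (b ∣_ (W ⊓ U))]
    have h1 : b ∣_ (W ⊓ U) ≫ X'.homOfLE (inf_le_left : W ⊓ U ≤ W) =
        X.homOfLE (b.preimage_mono inf_le_left) ≫ b ∣_ W := by
      simp [← cancel_mono W.ι]
    have h2 : b ∣_ (W ⊓ U) ≫ X'.homOfLE (inf_le_right : W ⊓ U ≤ U) =
        X.homOfLE (b.preimage_mono inf_le_right) ≫ b ∣_ U := by
      simp [← cancel_mono U.ι]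
    rw [reassoc_of% h1, reassoc_of% h2, hψW]
    simp [ψU]
  obtain ⟨c, hcW, hcU⟩ := SectionExt.exists_glue_two W U ψW ψU hagree
  have htop : W ⊔ U = ⊤ := eq_top_iff.2 fun z _ => by
    by_cases hz : z = y₀
    · exact Or.inl (hz ▸ hyW)
    · refine Or.inr ?_
      show z ∉ ((pt hy).support : Set X')
      rw [coe_support_pt hy]; exact hz
  let j : X' ⟶ (W ⊔ U).toScheme := IsOpenImmersion.lift (W ⊔ U).ι (𝟙 X') (by simp [htop])
  have hjW : W.ι ≫ j = X'.homOfLE le_sup_left := by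
    simp [← cancel_mono (W ⊔ U).ι, j]
  have hjU : U.ι ≫ j = X'.homOfLE le_sup_right := by
    simp [← cancel_mono (W ⊔ U).ι, j]
  refine ⟨j ≫ c, ?_, fun ψ' hψ' => epi_blowUp hy hbl (hψ'.trans ?_)⟩
  all_goals
    refine (X.openCoverOfIsOpenCover (fun i : ULift.{u} Bool => b ⁻¹ᵁ (bif i.down then W else U))
      (.mk (eq_top_iff.2 fun x _ => Opens.mem_iSup.2 ?_))).hom_ext _ _ ?_
    · rcases (htop.ge (Set.mem_univ (b x)) : b x ∈ W ⊔ U) with h | h
      · exact ⟨⟨true⟩, h⟩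
      · exact ⟨⟨false⟩, h⟩
    rintro ⟨_ | _⟩
  · show (b ⁻¹ᵁ U).ι ≫ b ≫ j ≫ c = (b ⁻¹ᵁ U).ι ≫ φ
    rw [← morphismRestrict_ι_assoc, reassoc_of% hjU, hcU]
    simp [ψU]
  · show (b ⁻¹ᵁ W).ι ≫ b ≫ j ≫ c = (b ⁻¹ᵁ W).ι ≫ φ
    rw [← morphismRestrict_ι_assoc, reassoc_of% hjW, hcW, hψW]
  · show (b ⁻¹ᵁ U).ι ≫ φ = (b ⁻¹ᵁ U).ι ≫ b ≫ j ≫ c
    rw [← morphismRestrict_ι_assoc, reassoc_of% hjU, hcU]
    simp [ψU]
  · show (b ⁻¹ᵁ W).ι ≫ φ = (b ⁻¹ᵁ W).ι ≫ b ≫ j ≫ c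
    rw [← morphismRestrict_ι_assoc, reassoc_of% hjW, hcW, hψW]

/-- Contractions of the same curve are canonically isomorphic. -/
theorem existsUnique_iso {E X X₁ X₂ : Scheme.{u}} (ι : E ⟶ X) [IsClosedImmersion ι] (hE : Models.IsExcCurve ι)
    (b₁ : X ⟶ X₁) (hb₁ : Models.IsContractionOf ι b₁) (b₂ : X ⟶ X₂) (hb₂ : Models.IsContractionOf ι b₂) :
    ∃! e : X₁ ≅ X₂, b₁ ≫ e.hom = b₂ := by
  obtain ⟨y₁, hy₁, h₁⟩ : ∃ y, Set.range ((ι ≫ b₁).base : E → X₁) = {y} ∧ True := by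
    obtain ⟨-, -, y, -, h, -⟩ := hb₁; exact ⟨y, h, trivial⟩
  obtain ⟨y₂, hy₂, h₂⟩ : ∃ y, Set.range ((ι ≫ b₂).base : E → X₂) = {y} ∧ True := by
    obtain ⟨-, -, y, -, h, -⟩ := hb₂; exact ⟨y, h, trivial⟩
  obtain ⟨f, hf, hfu⟩ := existsUnique_desc ι hE b₁ hb₁ b₂ y₂ hy₂
  obtain ⟨g, hg, -⟩ := existsUnique_desc ι hE b₂ hb₂ b₁ y₁ hy₁
  refine ⟨⟨f, g, ?_, ?_⟩, hf, fun e he => Iso.ext (hfu e.hom he)⟩
  · obtain ⟨q, -, hq⟩ := existsUnique_desc ι hE b₁ hb₁ b₁ y₁ hy₁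
    exact (hq _ (show b₁ ≫ f ≫ g = b₁ by rw [reassoc_of% hf, hg])).trans (hq _ (Category.comp_id _)).symm
  · obtain ⟨q, -, hq⟩ := existsUnique_desc ι hE b₂ hb₂ b₂ y₂ hy₂
    exact (hq _ (show b₂ ≫ g ≫ f = b₂ by rw [reassoc_of% hg, hf])).trans (hq _ (Category.comp_id _)).symm

end Groth.Agent.PtBlow
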