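import Groth.Agent.PtBlow.Decomp
import Groth.Agent.RZExt.Graph
import Groth.Agent.RZExt.Consequences
import Groth.Agent.ProjMor.Over
import Groth.Prelude.Def_ModelsG
import Groth.Prelude.Def_Neron

/-!
A rational map from a regular integral surface to a proper scheme becomes a morphism after point blow-ups.
-/

set_option autoImplicit false
set_option backward.isDefEq.respectTransparency false
set_option backward.isDefEq.respectTransparency.types false
set_option linter.style.haveILetI false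

universe u

open CategoryTheory CategoryTheory.Limits AlgebraicGeometry TopologicalSpace

noncomputable section

namespace Groth.Agent.PtBlow

theorem isProper_of_isProjectiveOver {R : Type u} [CommRing R] {Z : Over (Spec (CommRingCat.of R))}
    (hZ : Neron.IsProjectiveOver R Z) : IsProper Z.hom := by
  obtain ⟨N, i, hi, hiZ⟩ := hZ
  haveI := hi
  haveI : IsProper (CohB1.ProjSpaceOver.toBase N (Spec (CommRingCat.of R))) := by
    haveI := _root_.ProjMor.isProper_toSpec N (ULift.{u} ℤ)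
    exact MorphismProperty.pullback_snd _ _ inferInstance
  rw [← hiZ]
  infer_instance

theorem exists_morphism {S X Z : Scheme.{u}} [IsIntegral X] [IsNoetherian X]
    (hreg : ∀ x : X, IsRegularLocalRing (X.presheaf.stalk x)) (hdim : topologicalKrullDim X ≤ 2)
    (pX : X ⟶ S) (pZ : Z ⟶ S) [IsProper pZ] (U : X.Opens) (hU : (U : Set X).Nonempty)
    (φ : (U : Scheme.{u}) ⟶ Z) (hφ : φ ≫ pZ = U.ι ≫ pX) :
    ∃ (X' : Scheme.{u}) (g : X' ⟶ X) (h : X' ⟶ Z), Seq g ∧ h ≫ pZ = g ≫ pX ∧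
      (g ⁻¹ᵁ U).ι ≫ h = (g ∣_ U) ≫ φ := by
  let γ : (U : Scheme.{u}) ⟶ pullback pX pZ := pullback.lift U.ι φ hφ.symm
  haveI : CompactSpace U.toScheme := isCompact_iff_compactSpace.1 (NoetherianSpace.isCompact (U : Set X))
  haveI : QuasiCompact γ := by
    haveI : QuasiCompact (γ ≫ pullback.fst pX pZ) := by rw [pullback.lift_fst]; infer_instance
    exact QuasiCompact.of_comp γ (pullback.fst pX pZ)
  haveI : IsIso (U.ι ∣_ U) := by
    have h1 : U.ι ⁻¹ᵁ U = ⊤ := top_le_iff.1 fun z _ => z.2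
    haveI : IsIso (U.ι ⁻¹ᵁ U).ι := by rw [h1, ← Scheme.topIso_hom]; infer_instance
    rw [show U.ι ∣_ U = (U.ι ⁻¹ᵁ U).ι by rw [← cancel_mono U.ι, morphismRestrict_ι]]
    infer_instance
  haveI : IsClosedImmersion (γ ∣_ (pullback.fst pX pZ ⁻¹ᵁ U)) := by
    have key : ∀ (k : U.toScheme ⟶ X), k = U.ι → IsClosedImmersion (k ∣_ U) := by
      rintro _ rfl
      infer_instance
    haveI : IsClosedImmersion (γ ∣_ (pullback.fst pX pZ ⁻¹ᵁ U) ≫ pullback.fst pX pZ ∣_ U) := by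
      rw [← morphismRestrict_comp]
      exact key _ (pullback.lift_fst _ _ _)
    exact IsClosedImmersion.of_comp (γ ∣_ (pullback.fst pX pZ ⁻¹ᵁ U)) (pullback.fst pX pZ ∣_ U)
  haveI := RZExt.isIso_toImage_restrict γ (pullback.fst pX pZ ⁻¹ᵁ U)
  let f := γ.imageι ≫ pullback.fst pX pZ
  have hTf : γ.toImage ≫ f = U.ι := by
    rw [show γ.toImage ≫ f = (γ.toImage ≫ γ.imageι) ≫ pullback.fst pX pZ from (Category.assoc _ _ _).symm,
      Scheme.Hom.toImage_imageι, pullback.lift_fst]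
  haveI : IsIso (f ∣_ U) := by
    have h1 : γ.toImage ∣_ (f ⁻¹ᵁ U) ≫ f ∣_ U = (γ.toImage ≫ f) ∣_ U := (morphismRestrict_comp _ _ _).symm
    have key : ∀ (k : U.toScheme ⟶ X), k = U.ι → IsIso (k ∣_ U) := by
      rintro _ rfl
      infer_instance
    haveI : IsIso (γ.toImage ∣_ (f ⁻¹ᵁ U) ≫ f ∣_ U) := h1.symm ▸ key _ hTf
    haveI : IsIso (γ.toImage ∣_ (f ⁻¹ᵁ U)) :=
      ‹IsIso (γ.toImage ∣_ (γ.imageι ⁻¹ᵁ (pullback.fst pX pZ ⁻¹ᵁ U)))›
    exact IsIso.of_isIso_comp_left (γ.toImage ∣_ (f ⁻¹ᵁ U)) (f ∣_ U)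
  obtain ⟨I, D, k, hk, -, -, -, hD⟩ := RZExt.exists_openImmersion (NoetherianSpace.isCompact (U : Set X)) f
  have hI : I.ideal ≠ ⊥ := by
    intro h
    obtain ⟨x, hx⟩ := hU
    have : x ∈ (I.ideal.support : Set X) := by
      rw [h, Scheme.IdealSheafData.support_bot]; trivial
    exact (I.supp ▸ this : x ∈ (U : Set X)ᶜ) hx
  obtain ⟨X', g, hg, -, hcart⟩ := exists_principalisation_integral X hreg hdim I.ideal hI
  obtain ⟨l, hl, -⟩ := I.isBlowUp.2 X' g hcart
  obtain rfl : D = ⊤ := hD inferInstance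
  let m : X' ⟶ γ.image := l ≫ (Scheme.topIso I.T).inv ≫ k
  have hm : m ≫ f = g := by
    simp only [m, Category.assoc, hk, ← Scheme.topIso_hom, Iso.inv_hom_id_assoc]
    exact hl
  refine ⟨X', g, m ≫ γ.imageι ≫ pullback.snd pX pZ, hg, ?_, ?_⟩
  · rw [← hm]
    simp only [f, Category.assoc, pullback.condition]
  · let n := (g ⁻¹ᵁ U).ι ≫ m
    have hn : n ≫ f = (g ∣_ U) ≫ U.ι := by
      rw [Category.assoc, hm, morphismRestrict_ι]
    have hsec : n = (g ∣_ U) ≫ γ.toImage :=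
      RZExt.eq_comp_section (f := f) (s := γ.toImage) hTf n (g ∣_ U) hn
    rw [← Category.assoc, show (g ⁻¹ᵁ U).ι ≫ m = n from rfl, hsec, Category.assoc,
      Scheme.Hom.toImage_imageι_assoc, pullback.lift_snd]

end Groth.Agent.PtBlow
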