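import Groth.Agent.PtBlow.Factor
import Groth.Agent.DimChain.Basic

/-!
Proper birational morphisms of regular surfaces are sequences of point blow-ups.
-/

set_option autoImplicit false
set_option backward.isDefEq.respectTransparency false
set_option backward.isDefEq.respectTransparency.types false
set_option linter.style.haveILetI false

universe u

open CategoryTheory CategoryTheory.Limits AlgebraicGeometry TopologicalSpace

noncomputable section

namespace Groth.Agent.PtBlow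

theorem isContractionSeq_comp_blowUp {X Z : Scheme.{u}} {g : X ⟶ Z} (hg : Models.IsContractionSeq g) :
    ∀ {Y : Scheme.{u}} [IsNoetherian Y] {b : Z ⟶ Y} {y : Y} (hy : IsRegPt Y y),
      BlowUp.IsBlowUp b (pt hy) → Models.IsContractionSeq (g ≫ b) := by
  induction hg with
  | iso e =>
    intro Y _ b y hy hb
    obtain ⟨E, ι, hι, hE, hc⟩ := exists_contraction hy (RZExt.isBlowUp_iso_comp hb e.hom)
    exact Category.comp_id (e.hom ≫ b) ▸
      Models.IsContractionSeq.step ι (e.hom ≫ b) (𝟙 Y) hι hE hc (Models.IsContractionSeq.iso (Iso.refl Y))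
  | step ι c r hι hE hc hr ih =>
    intro Y _ b y hy hb
    rw [Category.assoc]
    exact Models.IsContractionSeq.step ι c _ hι hE hc (ih hy hb)

/-- the points of codimension one over the fundamental points -/
def exc {X Y : Scheme.{u}} (f : X ⟶ Y) : Set X :=
  {z | ringKrullDim (X.presheaf.stalk z) = 1 ∧ f z ∉ isoLocus f}

theorem finite_exc {X Y : Scheme.{u}} [IsIntegral X] [IsNoetherian X] [IsIntegral Y] (f : X ⟶ Y)
    (hbir : ∃ V : Y.Opens, (V : Set Y).Nonempty ∧ IsIso (f ∣_ V)) : (exc f).Finite := by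
  obtain ⟨V, hV, hVf⟩ := hbir
  have hη : f (genericPoint X) ∈ isoLocus f := by
    obtain ⟨w, hw⟩ := nonempty_preimage hV hVf
    exact ((genericPoint_specializes w).map f.continuous).mem_open (isoLocus f).isOpen (le_isoLocus hVf hw)
  let F : Set X := f ⁻¹' (isoLocus f : Set Y)ᶜ
  obtain ⟨S, hSf, hScl, hSirr, hFS⟩ :=
    NoetherianSpace.exists_finite_set_isClosed_irreducible ((isoLocus f).isOpen.isClosed_compl.preimage f.continuous : IsClosed F)
  refine (hSf.biUnion (t := fun t => {z : X | IsGenericPoint z t}) fun t ht =>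
    Set.Subsingleton.finite fun a ha b hb => ha.eq hb).subset fun z hz => ?_
  obtain ⟨t, ht, hzt⟩ := (hFS ▸ hz.2 : z ∈ ⋃₀ S)
  obtain ⟨w, hw⟩ := QuasiSober.sober (hSirr t ht) (hScl t ht)
  refine Set.mem_biUnion ht ?_
  have hwz : w ⤳ z := hw.specializes hzt
  by_cases he : w = z
  · exact he ▸ hw
  exfalso
  have hwF : w ∈ F := (congrArg (w ∈ ·) hFS).mpr ⟨t, ht, hw.mem⟩
  have hne : genericPoint X ≠ w := fun h => hwF (show f w ∈ isoLocus f from h ▸ hη)
  have h1 := Order.coheight_add_one_le (GrpField.lt_of_specializes hwz he)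
  have h2 := Order.coheight_add_one_le (GrpField.lt_of_specializes (genericPoint_specializes w) hne)
  have h3 : Order.coheight z = 1 := by
    have := hz.1
    rw [ringKrullDim_stalk_eq_coheight] at this
    exact WithBot.coe_inj.1 this
  rw [h3] at h1
  have h4 : (1 : ℕ∞) + 1 ≤ 1 := le_trans (add_le_add (le_trans le_add_self h2) (le_refl 1)) h1
  exact absurd h4 (by decide)

theorem isIso_of_isoLocus_eq_top {X Y : Scheme.{u}} {f : X ⟶ Y} (h : isoLocus f = ⊤) : IsIso f := by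
  rw [← MorphismProperty.isomorphisms.iff, IsZariskiLocalAtTarget.iff_of_iSup_eq_top
    (P := MorphismProperty.isomorphisms Scheme) (fun W : {W : Y.Opens // IsIso (f ∣_ W)} => W.1) h]
  exact fun W => W.2

/-- one step of the decomposition into blow-ups -/
theorem exists_step {X Y : Scheme.{u}} [IsIntegral X] [IsNoetherian X] [IsIntegral Y] [IsNoetherian Y]
    (f : X ⟶ Y) [IsProper f] (hX : ∀ x : X, IsRegularLocalRing (X.presheaf.stalk x))
    (hdX : topologicalKrullDim X ≤ 2) (hY : ∀ y : Y, IsRegularLocalRing (Y.presheaf.stalk y))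
    (hdY : topologicalKrullDim Y ≤ 2) (hbir : ∃ V : Y.Opens, (V : Set Y).Nonempty ∧ IsIso (f ∣_ V))
    {y : Y} (hyf : y ∉ isoLocus f) :
    ∃ (hy : IsRegPt Y y) (Z : Scheme.{u}) (b : Z ⟶ Y) (g : X ⟶ Z), BlowUp.IsBlowUp b (pt hy) ∧ g ≫ b = f ∧
      IsIntegral Z ∧ IsNoetherian Z ∧ IsProper g ∧ (∀ z : Z, IsRegularLocalRing (Z.presheaf.stalk z)) ∧
      topologicalKrullDim Z ≤ 2 ∧ (∃ V : Z.Opens, (V : Set Z).Nonempty ∧ IsIso (g ∣_ V)) ∧
      exc g ⊆ exc f ∧ ∃ z, z ∈ exc f ∧ z ∉ exc g := by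
  have hYn : Pi1.IsNormalScheme Y := fun z => by haveI := hY z; exact isNormal_of_regular
  obtain ⟨-, hTd⟩ := compl_isoLocus f hYn hdY hbir
  have hy : IsRegPt Y y := ⟨(hTd y hyf).1, hY y, (hTd y hyf).2⟩
  obtain ⟨Z, b, hb⟩ := exists_blowUp hy
  obtain ⟨g, hg⟩ := exists_factor f hX hdX hY hdY hbir y hy.closed hyf b hb
  haveI := isProper_blowUp hy hb
  haveI := isNoetherian_blowUp hy hb
  haveI : IsIntegral Z := W7Fib.isIntegral_blowUp (pt_ne_bot hy) hb
  haveI : IsProper (g ≫ b) := hg.symm ▸ ‹IsProper f›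
  haveI : IsProper g := IsProper.of_comp g b
  have hZr := isRegular_blowUp hy hb hY
  have hZn : Pi1.IsNormalScheme Z := fun z => by haveI := hZr z; exact isNormal_of_regular
  obtain ⟨V, hV, hVf⟩ := hbir
  let U := isoLocus f
  haveI hUf : IsIso (f ∣_ U) := BiratCodimTwo.isIso_iSup f
  have hU : (U : Set Y).Nonempty := hV.mono (le_isoLocus hVf)
  have hbU : IsIso (b ∣_ U) := isIso_restrict_le b (V := (pt hy).support.compl) (fun z hz => by
    show z ∉ ((pt hy).support : Set Y)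
    rw [coe_support_pt hy]; rintro rfl; exact hyf hz) (BlowUpLib.isIso_restrict hb)
  have hgU := isIso_restrict_left hg U hUf hbU
  have hgbir : ∃ V : Z.Opens, (V : Set Z).Nonempty ∧ IsIso (g ∣_ V) :=
    ⟨b ⁻¹ᵁ U, nonempty_preimage hU hbU, hgU⟩
  have hsurj : Function.Surjective g := by
    have hcl : IsClosed (Set.range g) := g.isClosedMap.isClosed_range
    intro z
    obtain ⟨W, hW, hWg⟩ := hgbir
    have hηW : genericPoint Z ∈ W := ((genericPoint_spec Z).mem_open_set_iff W.2).2 (by simpa using hW)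
    obtain ⟨w, hw⟩ := (g ∣_ W).surjective ⟨genericPoint Z, hηW⟩
    exact (genericPoint_specializes z).mem_closed hcl
      ⟨w.1, (morphismRestrict_base_coe g W w).symm.trans (congrArg Subtype.val hw)⟩
  have hdZ : topologicalKrullDim Z ≤ 2 :=
    (DimChain.le_of_specializingMap g hsurj g.isClosedMap.specializingMap).trans hdX
  have hsub : exc g ⊆ exc f := fun z hz => ⟨hz.1, fun hfz => hz.2 (le_isoLocus hgU (by
    show b (g z) ∈ U
    rw [← Scheme.Hom.comp_apply, hg]; exact hfz))⟩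
  obtain ⟨z₀, hz₀, hz₀'⟩ : ∃ z, z ∈ exc f ∧ z ∉ exc g := by
    obtain ⟨W, -, hyW, hdom, -, hmax, u, v, hG⟩ := exists_goodNbhd y hy.closed hy.reg hy.dim ⊤ trivial
    haveI := hdom
    haveI := hmax
    haveI := IsLocallyNoetherian.component_noetherian W
    letI := Ideal.Quotient.field ((pt hy).ideal W)
    obtain ⟨G₀, G₁, hG₀, hG₁, -, hc₀, -⟩ :=
      exists_charts hb W hG.span (hG.left_ne_zero hmax.ne_top) (hG.symm.left_ne_zero hmax.ne_top)
    let φ := (b.appLE W.1 G₀.1 hG₀).hom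
    letI := φ.toAlgebra
    obtain ⟨τ, hC⟩ := hc₀
    haveI := hC.isNoetherianRing
    have hu0 : u ≠ 0 := hG.left_ne_zero hmax.ne_top
    haveI := hC.isDomain hu0
    let α := φ u
    have hα0 : α ≠ 0 := fun h0 => hu0 (hC.inj (h0.trans (map_zero _).symm))
    obtain ⟨e, -⟩ := hC.exists_quotEquiv hG
    haveI : IsDomain (Γ(Z, G₀.1) ⧸ Ideal.span {α}) :=
      MulEquiv.isDomain (Polynomial (Γ(Y, W.1) ⧸ (pt hy).ideal W)) e.symm.toMulEquiv
    haveI hP : (Ideal.span {α}).IsPrime := (Ideal.Quotient.isDomain_iff_prime _).1 ‹_›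
    have hEG : ((pt hy).comap b).ideal G₀ = Ideal.span {α} := by
      rw [FpqcDescent.ideal_comap_appLE (pt hy) b W G₀ hG₀]
      exact hC.map_eq hG
    let η₀ : Spec Γ(Z, G₀.1) := (⟨Ideal.span {α}, hP⟩ : PrimeSpectrum Γ(Z, G₀.1))
    let η := G₀.2.fromSpec η₀
    have hηG : η ∈ G₀.1 := G₀.2.range_fromSpec.le ⟨η₀, rfl⟩
    have hηp : G₀.2.primeIdealOf ⟨η, hηG⟩ = η₀ :=
      G₀.2.fromSpec.isOpenEmbedding.injective (G₀.2.fromSpec_primeIdealOf ⟨_, hηG⟩)
    have hbη : b η = y := (mem_support_comap_pt b hy).1 ((FittLib.mem_support_iff ((pt hy).comap b) G₀ hηG).2 (by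
      rw [hEG, hηp]))
    letI : Algebra Γ(Z, G₀.1) (Z.presheaf.stalk η) := (Z.presheaf.germ G₀.1 η hηG).hom.toAlgebra
    haveI hloc : IsLocalization.AtPrime (Z.presheaf.stalk η) (Ideal.span {α}) := by
      have := G₀.2.isLocalization_stalk ⟨η, hηG⟩
      rw [hηp] at this
      exact this
    have hdimη : ringKrullDim (Z.presheaf.stalk η) = 1 := by
      rw [IsLocalization.AtPrime.ringKrullDim_eq_height (Ideal.span {α}) (Z.presheaf.stalk η)]
      have h1 : (Ideal.span {α}).height ≤ 1 := (Ideal.height_le_spanFinrank _ hP.ne_top).trans (by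
        exact_mod_cast (Submodule.spanFinrank_span_le_ncard_of_finite (by simp)).trans (by simp))
      have h2 : (1 : ℕ∞) ≤ (Ideal.span {α}).height := Order.one_le_iff_pos.2 (lt_of_le_of_lt zero_le
        (Ideal.height_strict_mono_of_isPrime (I := (⊥ : Ideal Γ(Z, G₀.1))) (J := Ideal.span {α})
          (bot_lt_iff_ne_bot.2 (by simpa using hα0))))
      rw [le_antisymm h1 h2]; rfl
    obtain ⟨V', hV', hV'g⟩ := hgbir
    haveI := hV'g
    obtain ⟨N, hηN, hN⟩ := BiratCodimTwo.exists_nhd g ⟨V', hV', hV'g⟩ (bijective_app_of_birational g hZn V' hV') η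
      (by rw [hdimη]; decide)
    haveI := hN
    obtain ⟨z, hz⟩ := (g ∣_ N).surjective ⟨η, hηN⟩
    have hgz : g z.1 = η := (morphismRestrict_base_coe g N z).symm.trans (congrArg Subtype.val hz)
    haveI : IsIso (g.stalkMap z.1) := by
      rw [← MorphismProperty.isomorphisms.iff, ← (MorphismProperty.isomorphisms CommRingCat).arrow_mk_iso_iff
        (morphismRestrictStalkMap g N ⟨z.1, show g z.1 ∈ N from hgz ▸ hηN⟩)]
      exact inferInstanceAs (IsIso ((g ∣_ N).stalkMap _))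
    refine ⟨z.1, ⟨?_, ?_⟩, fun h => h.2 (le_isoLocus hN (hgz ▸ hηN))⟩
    · rw [← ringKrullDim_eq_of_ringEquiv (asIso (g.stalkMap z.1)).commRingCatIsoToRingEquiv, hgz, hdimη]
    · rw [show f z.1 = y by rw [← hg, Scheme.Hom.comp_apply, hgz, hbη]]; exact hyf
  exact ⟨hy, Z, b, g, hb, hg, inferInstance, inferInstance, inferInstance, hZr, hdZ,
    ⟨b ⁻¹ᵁ U, nonempty_preimage hU hbU, hgU⟩, hsub, z₀, hz₀, hz₀'⟩

theorem exc_nonempty {X Y : Scheme.{u}} [IsIntegral X] [IsNoetherian X] [IsIntegral Y] [IsNoetherian Y]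
    (f : X ⟶ Y) [IsProper f] (hX : ∀ x : X, IsRegularLocalRing (X.presheaf.stalk x))
    (hdX : topologicalKrullDim X ≤ 2) (hY : ∀ y : Y, IsRegularLocalRing (Y.presheaf.stalk y))
    (hdY : topologicalKrullDim Y ≤ 2) (hbir : ∃ V : Y.Opens, (V : Set Y).Nonempty ∧ IsIso (f ∣_ V))
    (hne : isoLocus f ≠ ⊤) : (exc f).Nonempty := by
  obtain ⟨y, hyf⟩ : ∃ y, y ∉ isoLocus f := by
    by_contra hcon
    exact hne (eq_top_iff.2 fun y _ => not_not.1 fun h => hcon ⟨y, h⟩)
  obtain ⟨_, _, _, _, -, -, -, -, -, -, -, -, -, z, hz, -⟩ := exists_step f hX hdX hY hdY hbir hyf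
  exact ⟨z, hz⟩

theorem isContractionSeq_aux : ∀ (n : ℕ) {X Y : Scheme.{u}} [IsIntegral X] [IsNoetherian X] [IsIntegral Y]
    [IsNoetherian Y] (f : X ⟶ Y) [IsProper f], (∀ x : X, IsRegularLocalRing (X.presheaf.stalk x)) →
    topologicalKrullDim X ≤ 2 → (∀ y : Y, IsRegularLocalRing (Y.presheaf.stalk y)) → topologicalKrullDim Y ≤ 2 →
    (∃ V : Y.Opens, (V : Set Y).Nonempty ∧ IsIso (f ∣_ V)) → (exc f).ncard ≤ n → Models.IsContractionSeq f := by
  intro n
  induction n using Nat.strong_induction_on with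
  | _ n ih =>
  intro X Y _ _ _ _ f _ hX hdX hY hdY hbir hn
  by_cases hT : isoLocus f = ⊤
  · haveI := isIso_of_isoLocus_eq_top hT
    exact Models.IsContractionSeq.iso (asIso f)
  obtain ⟨y, hyf⟩ : ∃ y, y ∉ isoLocus f := by
    by_contra hcon
    exact hT (eq_top_iff.2 fun y _ => not_not.1 fun h => hcon ⟨y, h⟩)
  obtain ⟨hy, Z, b, g, hb, hg, hZi, hZN, hgp, hZr, hdZ, hgbir, hsub, z₀, hz₀, hz₀'⟩ :=
    exists_step f hX hdX hY hdY hbir hyf
  haveI := hZi
  haveI := hZN
  haveI := hgp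
  have hlt : (exc g).ncard < n :=
    lt_of_lt_of_le (Set.ncard_lt_ncard (HasSubset.Subset.ssubset_of_not_subset hsub fun h => hz₀' (h hz₀))
      (finite_exc f hbir)) hn
  rw [← hg]
  exact isContractionSeq_comp_blowUp (ih _ hlt g hX hdX hZr hdZ hgbir le_rfl) hy hb

/-- A proper birational morphism of regular surfaces is a sequence of point blow-ups. -/
theorem isContractionSeq_of_birational {X Y : Scheme.{u}} [IsIntegral X] [IsNoetherian X] [IsIntegral Y]
    [IsNoetherian Y] (f : X ⟶ Y) [IsProper f] (hX : ∀ x : X, IsRegularLocalRing (X.presheaf.stalk x))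
    (hdX : topologicalKrullDim X ≤ 2) (hY : ∀ y : Y, IsRegularLocalRing (Y.presheaf.stalk y))
    (hdY : topologicalKrullDim Y ≤ 2) (hbir : ∃ V : Y.Opens, (V : Set Y).Nonempty ∧ IsIso (f ∣_ V)) :
    Models.IsContractionSeq f :=
  isContractionSeq_aux (exc f).ncard f hX hdX hY hdY hbir le_rfl

/-- A birational morphism of regular surfaces with irreducible exceptional locus is a blow-up. -/
theorem isBlowUp_of_irreducible {X Y : Scheme.{u}} [IsIntegral X] [IsNoetherian X] [IsIntegral Y]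
    [IsNoetherian Y] (f : X ⟶ Y) [IsProper f] (hX : ∀ x : X, IsRegularLocalRing (X.presheaf.stalk x))
    (hdX : topologicalKrullDim X ≤ 2) (hY : ∀ y : Y, IsRegularLocalRing (Y.presheaf.stalk y))
    (hdY : topologicalKrullDim Y ≤ 2) (hbir : ∃ V : Y.Opens, (V : Set Y).Nonempty ∧ IsIso (f ∣_ V))
    (y : Y) (hy : IsClosed ({y} : Set Y)) (hiso : IsIso (f ∣_ (⟨{y}ᶜ, hy.isOpen_compl⟩ : Y.Opens)))
    (hirr : IsPreirreducible (f ⁻¹' {y})) (hyf : y ∉ isoLocus f) :
    BlowUp.IsBlowUp f (Scheme.IdealSheafData.vanishingIdeal ⟨{y}, hy⟩) := by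
  obtain ⟨hy', Z, b, g, hb, hg, hZi, hZN, hgp, hZr, hdZ, hgbir, hsub, z₀, hz₀, hz₀'⟩ :=
    exists_step f hX hdX hY hdY hbir hyf
  haveI := hZi
  haveI := hZN
  haveI := hgp
  have hmem : ∀ z ∈ exc f, f z = y := fun z hz => by
    by_contra hne
    exact hz.2 (le_isoLocus hiso (show f z ∈ (⟨{y}ᶜ, hy.isOpen_compl⟩ : Y.Opens) from hne))
  obtain ⟨V, hV, hVf⟩ := hbir
  have hη : f (genericPoint X) ≠ y := fun h => by
    obtain ⟨w, hw⟩ := nonempty_preimage hV hVf
    exact hyf (h ▸ ((genericPoint_specializes w).map f.continuous).mem_open (isoLocus f).isOpen (le_isoLocus hVf hw))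
  obtain ⟨w, hw⟩ := QuasiSober.sober ⟨⟨z₀, hmem z₀ hz₀⟩, hirr⟩ (hy.preimage f.continuous)
  have key : ∀ z ∈ exc f, z = w := fun z hz => by
    by_contra hne
    have hwy : f w = y := hw.mem
    have hwz : w ⤳ z := hw.specializes (hmem z hz)
    have hne' : genericPoint X ≠ w := fun h => hη (h ▸ hwy)
    have h1 := Order.coheight_add_one_le (GrpField.lt_of_specializes hwz (Ne.symm hne))
    have h2 := Order.coheight_add_one_le (GrpField.lt_of_specializes (genericPoint_specializes w) hne')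
    have h3 : Order.coheight z = 1 := by
      have := hz.1
      rw [ringKrullDim_stalk_eq_coheight] at this
      exact WithBot.coe_inj.1 this
    rw [h3] at h1
    exact absurd (le_trans (add_le_add (le_trans le_add_self h2) (le_refl 1)) h1 : (1 : ℕ∞) + 1 ≤ 1) (by decide)
  have htop : isoLocus g = ⊤ := by
    by_contra hne
    obtain ⟨z, hz⟩ := exc_nonempty g hX hdX hZr hdZ hgbir hne
    exact hz₀' (((key z₀ hz₀).trans (key z (hsub hz)).symm) ▸ hz)
  haveI := isIso_of_isoLocus_eq_top htop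
  rw [← hg]
  exact RZExt.isBlowUp_iso_comp hb g

end Groth.Agent.PtBlow
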