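import Groth.Agent.PtBlow.LineSign
import Groth.Agent.PtBlow.Birat
import Groth.Agent.PtBlow.Rational
import Groth.Agent.ModPairProd.Div
import Groth.Agent.DivPart.Sum
import Groth.Agent.DivPart.Extend
import Groth.Agent.RatBlow.Modif
import Groth.Agent.TMul.Pullback
import Groth.Agent.SurfAmple.Curves
import Groth.Agent.S1568
import Groth.Agent.S1684
import Groth.Agent.S2821

/-!
Negativity: the conormal bundle of a curve contracted by a birational morphism of surfaces to a normal one is positive.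
-/

set_option autoImplicit false
set_option backward.isDefEq.respectTransparency false
set_option backward.isDefEq.respectTransparency.types false
set_option linter.style.haveILetI false

universe u

open CategoryTheory CategoryTheory.Limits AlgebraicGeometry TopologicalSpace

noncomputable section

namespace Groth.Agent.PtBlow

/-- An effective Cartier ideal pulls back to one along a morphism from an integral scheme whose generic point avoids it. -/
theorem cartier_comap_generic {X Y : Scheme.{u}} [IsIntegral X] (g : X ⟶ Y) {I : Y.IdealSheafData}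
    (hI : BlowUp.IsEffCartierIdeal I) (hg : g (genericPoint X) ∉ (I.support : Set Y)) :
    BlowUp.IsEffCartierIdeal (I.comap g) := fun x => by
  obtain ⟨U, hxU, t, -, hIU⟩ := hI (g x)
  obtain ⟨W, hW, hxW, hWU⟩ := exists_isAffineOpen_mem_and_subset (x := x) (U := g ⁻¹ᵁ U.1) hxU
  haveI : Nonempty W := ⟨⟨x, hxW⟩⟩
  refine ⟨⟨W, hW⟩, hxW, (g.appLE U.1 W hWU).hom t, mem_nonZeroDivisors_of_ne_zero fun h0 => ?_, ?_⟩
  · have h1 : X.basicOpen ((g.appLE U.1 W hWU).hom t) = W ⊓ g ⁻¹ᵁ (Y.basicOpen t) := Scheme.basicOpen_appLE g W U.1 hWU t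
    rw [show (g.appLE U.1 W hWU).hom t = 0 from h0, Scheme.basicOpen_zero] at h1
    have hηW : genericPoint X ∈ W := ((genericPoint_spec X).mem_open_set_iff W.2).2 (by simpa using ⟨x, hxW⟩)
    have hgU : g (genericPoint X) ∈ U.1 := hWU hηW
    rw [SetLike.mem_coe, I.mem_support_iff_of_mem hgU, hIU, Scheme.zeroLocus_span, Scheme.mem_zeroLocus_iff] at hg
    push Not at hg
    obtain ⟨t', rfl, ht'⟩ := hg
    have h2 : genericPoint X ∈ W ⊓ g ⁻¹ᵁ (Y.basicOpen t') := ⟨hηW, ht'⟩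
    rw [← h1] at h2
    exact h2
  · rw [FpqcDescent.ideal_comap_appLE I g U ⟨W, hW⟩ hWU, hIU, Ideal.map_span, Set.image_singleton]

theorem ideal_pow' {X : Scheme.{u}} (D : X.IdealSheafData) (W : X.affineOpens) :
    ∀ a : ℕ, (D ^ a).ideal W = D.ideal W ^ a
  | 0 => by simp [Scheme.IdealSheafData.one_eq_top]
  | a + 1 => by rw [pow_succ, pow_succ, Scheme.IdealSheafData.ideal_mul, ← ideal_pow' D W a]; rfl

theorem mem_support_pow' {X : Scheme.{u}} (D : X.IdealSheafData) (x : X) (a : ℕ)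
    (h : x ∈ ((D ^ a).support : Set X)) : a ≠ 0 ∧ x ∈ (D.support : Set X) :=
  (SurfAmple.mem_support_pow D x a).1 h

/-- The exponent of a prime divisor in an effective Cartier ideal. -/
theorem exists_max_pow {Z : Scheme.{u}} [IsIntegral Z] [IsLocallyNoetherian Z] {D D₀ : Z.IdealSheafData}
    (hD₀ : BlowUp.IsEffCartierIdeal D₀) {ξ : Z} (hξ : ξ ∈ (D.support : Set Z)) :
    ∃ a : ℕ, D₀ ≤ D ^ a ∧ ¬ D₀ ≤ D ^ (a + 1) := by
  classical
  suffices ∃ a, ¬ D₀ ≤ D ^ a by
    have h0 : Nat.find this ≠ 0 := fun h => Nat.find_spec this (by rw [h, pow_zero, Scheme.IdealSheafData.one_eq_top]; exact le_top)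
    obtain ⟨a, ha⟩ := Nat.exists_eq_succ_of_ne_zero h0
    exact ⟨a, not_not.1 (Nat.find_min this (by omega)),
      (congrArg (fun n => ¬ D₀ ≤ D ^ n) ha).mp (Nat.find_spec this)⟩
  by_contra! h
  obtain ⟨W, hξW, -, t, ht, htW⟩ := BlowUpLib.exists_small_generator hD₀ (O := ⊤) (x := ξ) trivial
  haveI : Nonempty W.1 := ⟨⟨ξ, hξW⟩⟩
  have hm : (D.ideal W).map (Z.presheaf.germ W.1 ξ hξW).hom ≤ IsLocalRing.maximalIdeal (Z.presheaf.stalk ξ) := by
    rw [Ideal.map_le_iff_le_comap]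
    intro r hr
    rw [SetLike.mem_coe, D.mem_support_iff_of_mem hξW, Scheme.mem_zeroLocus_iff] at hξ
    rw [Ideal.mem_comap, IsLocalRing.mem_maximalIdeal, mem_nonunits_iff]
    exact fun hu => hξ r hr ((Z.mem_basicOpen r ξ hξW).2 hu)
  have hbot : Z.presheaf.germ W.1 ξ hξW t ∈ (⊥ : Ideal (Z.presheaf.stalk ξ)) := by
    rw [← Ideal.iInf_pow_eq_bot_of_isLocalRing (IsLocalRing.maximalIdeal (Z.presheaf.stalk ξ))
      (IsLocalRing.maximalIdeal.isMaximal _).ne_top, Submodule.mem_iInf]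
    intro a
    refine Ideal.pow_right_mono hm a ?_
    rw [← Ideal.map_pow, ← ideal_pow']
    exact Ideal.mem_map_of_mem _ (h a W (htW ▸ Ideal.mem_span_singleton_self t))
  exact nonZeroDivisors.ne_zero ht (germ_injective_of_isIntegral Z ξ hξW ((Ideal.mem_bot.1 hbot).trans (map_zero _).symm))

theorem pos_core {k : Type u} [Field k] {Z Y : Scheme.{u}} [IsIntegral Z] [IsNoetherian Z] [IsIntegral Y]
    [IsNoetherian Y] [IsAffine Y] (π : Z ⟶ Y) [IsProper π] (hsurj : Function.Surjective π) {y : Y}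
    (hy : IsClosed ({y} : Set Y)) (hy2 : ringKrullDim (Y.presheaf.stalk y) = 2)
    (hconn : _root_.IsPreconnected (π ⁻¹' {y})) (g : CohB1.ProjSpace 1 k ⟶ Z) (hg : ∀ w, π (g w) = y)
    (D : Z.IdealSheafData) (hD : BlowUp.IsEffCartierIdeal D) (hsupp : (D.support : Set Z) = Set.range g)
    (hrad : haveI := Horrocks.isIntegral_projSpace (k := k) (n := 1); ∀ J : Z.IdealSheafData,
      g (genericPoint (CohB1.ProjSpace 1 k)) ∈ (J.support : Set Z) → J ≤ D) :
    ∃ d : ℤ, 0 < d ∧ Nonempty ((Scheme.Modules.pullback g).obj (ClSub.idealMod D) ≅ Twist.twistProjSpace 1 k d) := by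
  haveI : IsIntegral (CohB1.ProjSpace 1 k) := Horrocks.isIntegral_projSpace
  let P := CohB1.ProjSpace 1 k
  let ξ : Z := g (genericPoint P)
  have hξD : ξ ∈ (D.support : Set Z) := hsupp.symm.subset ⟨_, rfl⟩
  -- a function vanishing at `y`
  have hyη : genericPoint Y ≠ y := fun h => by
    have h0 : ringKrullDim (Y.presheaf.stalk (genericPoint Y)) = 0 := @ringKrullDim_eq_zero_of_field Y.functionField _
    have h2 : ringKrullDim (Y.presheaf.stalk (genericPoint Y)) = 2 := by subst h; exact hy2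
    rw [h0] at h2
    exact absurd h2 (by decide)
  obtain ⟨f, hfle, hfη⟩ := (isAffineOpen_top Y).exists_basicOpen_le (V := ⟨{y}ᶜ, hy.isOpen_compl⟩)
    ⟨genericPoint Y, hyη⟩ trivial
  have hfy : y ∉ Y.basicOpen f := fun h => hfle h rfl
  have hf0 : f ≠ 0 := fun h => by rw [h, Scheme.basicOpen_zero] at hfη; exact hfη
  let s : Coh.structureModule Y ⟶ Coh.structureModule Y := TMul.homOf (L := Coh.structureModule Y) f
  let K := PicF2.zeroScheme (Coh.structureModule Y) s
  have hgen : TMul.IsGen (N := Coh.structureModule Y) (U := (⊤ : Y.Opens)) (1 : Γ(Y, ⊤)) := TMul.isGen_one ⊤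
  have hval : TMul.val s (⊤ : Y.Opens) = f • (1 : Γ(Y, ⊤)) := by
    rw [TMul.val_homOf, QC.res_self]
    exact (mul_one (M := Γ(Y, ⊤)) f).symm
  have hKtop : K.ideal ⟨⊤, isAffineOpen_top Y⟩ = Ideal.span {f} :=
    ZeroSch.ideal_zeroScheme_eq_span s TMul.isInvertible_structureModule ⟨⊤, isAffineOpen_top Y⟩ hgen hval
  have hKsupp : ∀ x : Y, x ∈ (K.support : Set Y) ↔ x ∉ Y.basicOpen f := fun x => by
    rw [SetLike.mem_coe, K.mem_support_iff_of_mem (U := ⟨⊤, isAffineOpen_top Y⟩) trivial, hKtop,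
      Scheme.zeroLocus_span, Scheme.mem_zeroLocus_iff]
    simp
  obtain ⟨eK⟩ := PlaneCurve.nonempty_ideal_iso (TMul.isInvertible_structureModule) s fun x =>
    ⟨⟨⊤, isAffineOpen_top Y⟩, (show Γ(Coh.structureModule Y, ⊤) from (1 : Γ(Y, ⊤))), f, trivial, hgen, hval, hf0⟩
  have hK : BlowUp.IsEffCartierIdeal K := fun x =>
    ⟨⟨⊤, isAffineOpen_top Y⟩, trivial, f, mem_nonZeroDivisors_of_ne_zero hf0, hKtop⟩
  have hπη : π (genericPoint Z) = genericPoint Y := by
    obtain ⟨z, hz⟩ := hsurj (genericPoint Y)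
    exact ((genericPoint_specializes _).antisymm (hz ▸ (genericPoint_specializes z).map π.continuous)).eq.symm
  let D₀ := K.comap π
  have hD₀ : BlowUp.IsEffCartierIdeal D₀ := RatBlow.cartier_comap_dominant π hπη hK
  have hD₀supp : ∀ z : Z, z ∈ (D₀.support : Set Z) ↔ π z ∈ (K.support : Set Y) := fun z => by
    show z ∈ ((K.comap π).support : Set Z) ↔ _
    rw [Scheme.IdealSheafData.support_comap]
    rfl
  have hyK : y ∈ (K.support : Set Y) := (hKsupp y).2 hfy
  obtain ⟨a, hle, hnle⟩ := exists_max_pow hD₀ hξD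
  obtain ⟨J, hJ⟩ := ModPairProd.exists_div (DivPart.cartier_pow hD a) hle
  have hJC : BlowUp.IsEffCartierIdeal J := BlowUpLib.cartier_of_mul_left (hJ ▸ hD₀)
  have hξJ : ξ ∉ (J.support : Set Z) := fun h => hnle (by
    refine hJ.symm.le.trans fun W => ?_
    rw [pow_succ', Scheme.IdealSheafData.ideal_mul, Scheme.IdealSheafData.ideal_mul]
    exact Ideal.mul_mono_left (hrad J h W))
  have hsplit : ∀ z : Z, π z ∈ (K.support : Set Y) → z ∈ (J.support : Set Z) ∨ (a ≠ 0 ∧ z ∈ Set.range g) := fun z hz => by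
    have hz' := (hD₀supp z).2 hz
    rw [← hJ, Scheme.IdealSheafData.support_mul] at hz'
    rcases hz' with h | h
    · exact Or.inl h
    · exact Or.inr ⟨(mem_support_pow' D z a h).1, hsupp.subset (mem_support_pow' D z a h).2⟩
  have ha0 : a ≠ 0 := by
    rcases hsplit ξ (by rw [hg]; exact hyK) with h | h
    · exact absurd h hξJ
    · exact h.1
  have hJK : ∀ z ∈ (J.support : Set Z), π z ∈ (K.support : Set Y) := fun z hz => (hD₀supp z).1 (by
    rw [← hJ, Scheme.IdealSheafData.support_mul]; exact Or.inl hz)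
  -- the residual divisor meets the curve
  have hmeet : ∃ w, g w ∈ (J.support : Set Z) := by
    by_contra! hdis
    have hdis' : ∀ z ∈ π ⁻¹' {y}, z ∉ (J.support : Set Z) := by
      intro z hz hzJ
      have hcov : π ⁻¹' {y} ⊆ (J.support : Set Z) ∪ Set.range g := fun x hx => by
        rcases hsplit x (by rw [show π x = y from hx]; exact hyK) with h | h
        · exact Or.inl h
        · exact Or.inr h.2
      obtain ⟨x, -, hxJ, hxg⟩ := isPreconnected_closed_iff.1 hconn _ _ J.support.isClosed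
        (hsupp ▸ D.support.isClosed) hcov ⟨z, hz, hzJ⟩ ⟨_, hg (genericPoint P), ⟨_, rfl⟩⟩
      obtain ⟨w, rfl⟩ := hxg
      exact hdis w hxJ
    let O : Y.Opens := ⟨(π '' (J.support : Set Z))ᶜ, (π.isClosedMap _ J.support.isClosed).isOpen_compl⟩
    have hyO : y ∈ O := fun ⟨z, hz, hzy⟩ => hdis' z hzy hz
    have hmax : ∀ x ∈ (K.support : Set Y), x ⤳ y → x = y := fun x hx hxy => by
      have hxO : x ∈ O := hxy.mem_open O.2 hyO
      obtain ⟨z, rfl⟩ := hsurj x
      rcases hsplit z hx with h | ⟨-, w, rfl⟩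
      · exact absurd ⟨z, h, rfl⟩ hxO
      · exact hg w
    have := Groth.Agent.S1568.result Y K hK y hyK hmax
    rw [hy2] at this
    exact absurd this (by decide)
  obtain ⟨w₀, hw₀⟩ := hmeet
  have hAC : BlowUp.IsEffCartierIdeal (J.comap g) := cartier_comap_generic g hJC hξJ
  obtain ⟨m, ⟨em⟩⟩ := PicPn.exists_iso_any (ClSub.idealMod (J.comap g)) ((Groth.Agent.S8914.result _).2 hAC)
  have hm : m < 0 := Line.neg_of_idealMod_iso hAC ⟨w₀, by
    rw [Scheme.IdealSheafData.support_comap]; exact hw₀⟩ ⟨em⟩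
  have hgD : PicF.IsInvertible ((Scheme.Modules.pullback g).obj (ClSub.idealMod D)) :=
    PicLoc.isInvertible_pullback g ((Groth.Agent.S8914.result _).2 hD)
  obtain ⟨d, ⟨ed⟩⟩ := PicPn.exists_iso_any _ hgD
  have hpow : ∀ n : ℕ, Nonempty ((Scheme.Modules.pullback g).obj (ClSub.idealMod (D ^ (n + 1))) ≅
      Twist.twistProjSpace 1 k ((n + 1 : ℕ) * d)) := by
    intro n
    induction n with
    | zero => rw [pow_one]; exact ⟨ed ≪≫ eqToIso (by simp)⟩
    | succ n ih =>
      obtain ⟨e₁⟩ := ih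
      obtain ⟨μ⟩ := Nakai.nonempty_idealMod_mul (DivPart.cartier_pow hD (n + 1)) hD
      obtain ⟨p⟩ := TMul.nonempty_pullTensorIso g (ClSub.idealMod (D ^ (n + 1))) (ClSub.idealMod D)
      obtain ⟨t⟩ := Line.tensor_twist (k := k) ((n + 1 : ℕ) * d) d ((n + 1 + 1 : ℕ) * d) (by push_cast; ring)
      rw [pow_succ]
      exact ⟨(Scheme.Modules.pullback g).mapIso μ.symm ≪≫ p.symm ≪≫ PicGrp.tensorModIso e₁ ed ≪≫ t⟩
  obtain ⟨n, rfl⟩ := Nat.exists_eq_succ_of_ne_zero ha0
  obtain ⟨eD⟩ := hpow n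
  obtain ⟨μ⟩ := Nakai.nonempty_idealMod_mul hJC (DivPart.cartier_pow hD (n + 1))
  obtain ⟨p⟩ := TMul.nonempty_pullTensorIso g (ClSub.idealMod J) (ClSub.idealMod (D ^ (n + 1)))
  obtain ⟨eJ⟩ := Nakai.nonempty_pullback_idealMod g hJC hAC
  obtain ⟨t⟩ := Line.tensor_twist (k := k) m ((n + 1 : ℕ) * d) (m + (n + 1 : ℕ) * d) rfl
  obtain ⟨eπ⟩ := Nakai.nonempty_pullback_idealMod π hK hD₀
  obtain ⟨t₀⟩ := Horrocks.Om_zero (k := k) (d := 1)
  have key : Twist.twistProjSpace 1 k (m + (n + 1 : ℕ) * d) ≅ Twist.twistProjSpace 1 k 0 :=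
    (p.symm ≪≫ PicGrp.tensorModIso (eJ ≪≫ em) eD ≪≫ t).symm ≪≫ (Scheme.Modules.pullback g).mapIso μ ≪≫
      (Scheme.Modules.pullback g).mapIso (eqToIso (congrArg ClSub.idealMod hJ) ≪≫ eπ.symm ≪≫
        (Scheme.Modules.pullback π).mapIso ((SecTwist.unitorR _).symm ≪≫ eK.symm) ≪≫ DerPerf.pullUnitIso π) ≪≫
      DerPerf.pullUnitIso g ≪≫ t₀.symm
  have h0 := Line.eq_of_iso key
  refine ⟨d, ?_, ⟨ed⟩⟩
  have h1 : (0 : ℤ) < ((n + 1 : ℕ) : ℤ) * d := by omega
  exact pos_of_mul_pos_right h1 (by positivity)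

/-- **Negativity.** The conormal bundle of a curve contracted by a birational morphism from a regular surface
to a normal one has positive degree. -/
theorem pos_of_contracted {k : Type u} [Field k] {Z Y : Scheme.{u}} [IsIntegral Z] [IsNoetherian Z] [IsIntegral Y]
    [IsNoetherian Y] (π : Z ⟶ Y) [IsProper π] (hZ : ∀ z : Z, IsRegularLocalRing (Z.presheaf.stalk z))
    (hY : Pi1.IsNormalScheme Y) (hdY : topologicalKrullDim Y ≤ 2)
    (hbir : ∃ V : Y.Opens, (V : Set Y).Nonempty ∧ IsIso (π ∣_ V))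
    (g : CohB1.ProjSpace 1 k ⟶ Z) (hcl : IsClosed (Set.range g)) {y : Y} (hg : ∀ w, π (g w) = y)
    [IsIntegral (CohB1.ProjSpace 1 k)] (hne : ∃ w, g w ≠ g (genericPoint (CohB1.ProjSpace 1 k)))
    (hξ1 : ringKrullDim (Z.presheaf.stalk (g (genericPoint (CohB1.ProjSpace 1 k)))) = 1) :
    ∃ d : ℤ, 0 < d ∧ Nonempty ((Scheme.Modules.pullback g).obj
      (ClSub.idealMod (SurfAmple.curveOf (g (genericPoint (CohB1.ProjSpace 1 k))))) ≅ Twist.twistProjSpace 1 k d) := by
  let ξ : Z := g (genericPoint (CohB1.ProjSpace 1 k))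
  have hclos : closure ({ξ} : Set Z) = Set.range g := by
    refine subset_antisymm (hcl.closure_subset_iff.2 (Set.singleton_subset_iff.2 ⟨_, rfl⟩)) ?_
    rintro _ ⟨w, rfl⟩
    exact specializes_iff_mem_closure.1 ((genericPoint_specializes w).map g.continuous)
  have hD : BlowUp.IsEffCartierIdeal (SurfAmple.curveOf ξ) := by
    refine Groth.Agent.S1684.result Z (SurfAmple.curveOf ξ) ?_ fun x _ => ?_
    · rw [SurfAmple.genericPoint_curveOf]; exact hξ1
    · haveI := hZ x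
      exact Groth.Agent.S2821.result _
  have hyiso : y ∈ (isoLocus π : Set Y)ᶜ := by
    intro h
    obtain ⟨W, hW⟩ := Opens.mem_iSup.1 h
    haveI := W.2
    obtain ⟨w, hw⟩ := hne
    have h1 : g w ∈ π ⁻¹ᵁ W.1 := show π (g w) ∈ W.1 from (hg w).symm ▸ hW
    have h2 : ξ ∈ π ⁻¹ᵁ W.1 := show π ξ ∈ W.1 from (hg _).symm ▸ hW
    have := (π ∣_ W.1).isOpenEmbedding.injective (a₁ := ⟨_, h1⟩) (a₂ := ⟨_, h2⟩) (Subtype.ext (by
      rw [morphismRestrict_base_coe, morphismRestrict_base_coe, hg, hg]))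
    exact hw (congrArg Subtype.val this)
  obtain ⟨hy, hy2⟩ := (compl_isoLocus π hY hdY hbir).2 y hyiso
  obtain ⟨V₀, hV₀, hV₀iso⟩ := hbir
  have hconn := isConnected_preimage π (bijective_app_of_birational π hY V₀ hV₀) y
  have hsurj : Function.Surjective π := by
    have hη : genericPoint Y ∈ Set.range π := by
      obtain ⟨z, hz⟩ := (π ∣_ V₀).surjective ⟨_, ((genericPoint_spec Y).mem_open_set_iff V₀.2).2 (by simpa using hV₀)⟩
      exact ⟨z.1, (morphismRestrict_base_coe π V₀ z).symm.trans (congrArg Subtype.val hz)⟩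
    exact fun z => (genericPoint_specializes z).mem_closed π.isClosedMap.isClosed_range hη
  obtain ⟨V, hV, hyV, -⟩ := exists_isAffineOpen_mem_and_subset (x := y) (U := ⊤) trivial
  let Z' := π ⁻¹ᵁ V
  haveI : IsAffine V := hV
  haveI : Nonempty V := ⟨⟨y, hyV⟩⟩
  haveI : Nonempty Z' := by
    obtain ⟨z, hz⟩ := hsurj y
    exact ⟨⟨z, show π z ∈ V from hz ▸ hyV⟩⟩
  haveI : IsLocallyNoetherian (Z' : Scheme.{u}) := isLocallyNoetherian_of_isOpenImmersion Z'.ι
  haveI : CompactSpace Z' := isCompact_iff_compactSpace.1 (NoetherianSpace.isCompact _)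
  haveI : IsNoetherian (Z' : Scheme.{u}) := {}
  haveI : IsLocallyNoetherian (V : Scheme.{u}) := isLocallyNoetherian_of_isOpenImmersion V.ι
  haveI : CompactSpace V := isCompact_iff_compactSpace.1 (NoetherianSpace.isCompact _)
  haveI : IsNoetherian (V : Scheme.{u}) := {}
  have hr : Set.range g ⊆ Set.range Z'.ι := by
    rw [Scheme.Opens.range_ι]
    rintro _ ⟨w, rfl⟩
    show π (g w) ∈ V
    rw [hg]; exact hyV
  let g' := IsOpenImmersion.lift Z'.ι g hr
  have hg' : g' ≫ Z'.ι = g := IsOpenImmersion.lift_fac _ _ _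
  have hgw : ∀ w, (g' w).1 = g w := fun w => by rw [← hg', Scheme.Hom.comp_apply]; rfl
  have hy' : IsClosed ({⟨y, hyV⟩} : Set V) := by
    have h1 : ({⟨y, hyV⟩} : Set V) = Subtype.val ⁻¹' ({y} : Set Y) :=
      Set.ext fun x => ⟨fun h => congrArg Subtype.val h, fun h => Subtype.ext h⟩
    rw [h1]
    exact hy.preimage continuous_subtype_val
  have hy2' : ringKrullDim ((V : Scheme.{u}).presheaf.stalk ⟨y, hyV⟩) = 2 := by
    rw [ringKrullDim_eq_of_ringEquiv (asIso (V.ι.stalkMap ⟨y, hyV⟩)).commRingCatIsoToRingEquiv.symm]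
    exact hy2
  have hconn' : _root_.IsPreconnected ((π ∣_ V) ⁻¹' {⟨y, hyV⟩}) := by
    refine (Z'.ι.isOpenEmbedding.isInducing.isPreconnected_image).1 ?_
    convert hconn.isPreconnected using 1
    ext z
    constructor
    · rintro ⟨x, hx, rfl⟩
      show π x.1 = y
      rw [← morphismRestrict_base_coe]; exact congrArg Subtype.val hx
    · intro hz
      have hzV : z ∈ Z' := show π z ∈ V from (show π z = y from hz).symm ▸ hyV
      exact ⟨⟨z, hzV⟩, Subtype.ext ((morphismRestrict_base_coe π V ⟨z, hzV⟩).trans hz), rfl⟩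
  have hsurj' : Function.Surjective (π ∣_ V) := fun v => by
    obtain ⟨z, hz⟩ := hsurj v.1
    exact ⟨⟨z, show π z ∈ V from hz ▸ v.2⟩, Subtype.ext ((morphismRestrict_base_coe π V _).trans hz)⟩
  have hcomap : BlowUp.IsEffCartierIdeal ((SurfAmple.curveOf ξ).comap Z'.ι) := BlowUpLib.cartier_comap_flat hD _
  obtain ⟨d, hd, ⟨e⟩⟩ := pos_core (π ∣_ V) hsurj' hy' hy2' hconn' g'
    (fun w => Subtype.ext ((morphismRestrict_base_coe π V _).trans (by rw [hgw, hg])))
    ((SurfAmple.curveOf ξ).comap Z'.ι) hcomap (by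
      rw [Scheme.IdealSheafData.support_comap]
      ext z
      show Z'.ι z ∈ ((SurfAmple.curveOf ξ).support : Set Z) ↔ _
      rw [SurfAmple.support_curveOf, hclos]
      exact ⟨fun ⟨w, hw⟩ => ⟨w, Z'.ι.isOpenEmbedding.injective ((hgw w).trans hw)⟩,
        fun ⟨w, hw⟩ => ⟨w, (hgw w).symm.trans (congrArg Subtype.val hw)⟩⟩)
    (fun J hJ => by
      refine (DivPart.comap_map_ι Z' J).symm.le.trans (Scheme.IdealSheafData.comap_mono _ ?_)
      refine (Scheme.IdealSheafData.le_radical _).trans ?_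
      rw [← Scheme.IdealSheafData.vanishingIdeal_support]
      refine Scheme.IdealSheafData.vanishingIdeal_antimono ?_
      show closure ({ξ} : Set Z) ⊆ _
      refine closure_minimal (Set.singleton_subset_iff.2 ?_) (Closeds.isClosed _)
      rw [Scheme.IdealSheafData.support_map]
      exact subset_closure ⟨_, hJ, hgw _⟩)
  obtain ⟨θ⟩ := Nakai.nonempty_pullback_idealMod Z'.ι hD hcomap
  exact ⟨d, hd, ⟨(Scheme.Modules.pullbackCongr hg'.symm).app _ ≪≫
    ((Scheme.Modules.pullbackComp g' Z'.ι).app _).symm ≪≫ (Scheme.Modules.pullback g').mapIso θ ≪≫ e⟩⟩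

end Groth.Agent.PtBlow
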