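import Mathlib

/-!
Quotient of an ideal sheaf by an ideal sheaf of finite type.
-/

set_option autoImplicit false

universe u

open CategoryTheory AlgebraicGeometry

noncomputable section

namespace Groth.Agent.PtBlow

theorem map_colon_of_fg {R S : Type u} [CommRing R] [CommRing S] [Algebra R S] (M : Submonoid R)
    [IsLocalization M S] (K L : Ideal R) (hL : L.FG) :
    (K.colon (L : Set R)).map (algebraMap R S) =
      (K.map (algebraMap R S)).colon (L.map (algebraMap R S) : Set S) := by
  refine le_antisymm ?_ ?_
  · rw [Ideal.map_le_iff_le_comap]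
    intro r hr
    rw [Ideal.mem_comap, Submodule.mem_colon]
    intro p hp
    have h1 := Ideal.mul_mem_mul (Ideal.mem_span_singleton_self (algebraMap R S r)) hp
    have h2 : Ideal.span {algebraMap R S r} * L.map (algebraMap R S) ≤ K.map (algebraMap R S) := by
      rw [← Set.image_singleton, ← Ideal.map_span, ← Ideal.map_mul]
      refine Ideal.map_mono (Ideal.span_singleton_mul_le_iff.2 fun l hl => ?_)
      exact Submodule.mem_colon.1 hr l hl
    exact h2 h1
  · intro z hz
    obtain ⟨a, s, rfl⟩ := IsLocalization.exists_mk'_eq M z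
    obtain ⟨G, hG⟩ := hL
    have h : ∀ l : G, ∃ t : M, (t : R) * (a * l.1) ∈ K := fun l => by
      have hl : algebraMap R S l.1 ∈ L.map (algebraMap R S) :=
        Ideal.mem_map_of_mem _ (hG ▸ Ideal.subset_span l.2)
      have h1 := Submodule.mem_colon.1 hz _ hl
      have h2 : algebraMap R S (a * l.1) ∈ K.map (algebraMap R S) := by
        have := Ideal.mul_mem_left _ (algebraMap R S s) h1
        rwa [smul_eq_mul, ← mul_assoc, IsLocalization.mk'_spec', ← map_mul] at this
      obtain ⟨t, ht, htk⟩ := (IsLocalization.algebraMap_mem_map_algebraMap_iff M S K _).1 h2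
      exact ⟨⟨t, ht⟩, htk⟩
    choose t ht using h
    let T : M := ∏ l : G, t l
    have hT : (T : R) * a ∈ K.colon (L : Set R) := by
      rw [Submodule.mem_colon]
      intro p hp
      rw [← hG] at hp
      induction hp using Submodule.span_induction with
      | mem p hp =>
        obtain ⟨r, hr⟩ : (t ⟨p, hp⟩ : R) ∣ (T : R) := by
          simp only [T, Submonoid.coe_finsetProd]
          exact Finset.dvd_prod_of_mem (fun l : G => (t l : R)) (Finset.mem_univ (⟨p, hp⟩ : G))
        rw [smul_eq_mul, hr, mul_right_comm _ r, mul_assoc _ _ r, ← mul_assoc, mul_comm]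
        have := Ideal.mul_mem_left K r (ht ⟨p, hp⟩)
        convert this using 1
        ring
      | zero => rw [smul_zero]; exact zero_mem _
      | add x y _ _ hx hy => rw [smul_add]; exact add_mem hx hy
      | smul c x _ hx => rw [smul_comm]; exact K.mul_mem_left c hx
    rw [IsLocalization.mem_map_algebraMap_iff M]
    refine ⟨⟨⟨T * a, hT⟩, s * T⟩, ?_⟩
    simp only [Submonoid.coe_mul, map_mul]
    rw [← mul_assoc, IsLocalization.mk'_spec, mul_comm]

/-- the quotient ideal sheaf -/
def colon {X : Scheme.{u}} (K L : X.IdealSheafData) (hL : ∀ U : X.affineOpens, (L.ideal U).FG) :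
    X.IdealSheafData where
  ideal U := (K.ideal U).colon (L.ideal U : Set Γ(X, U.1))
  map_ideal_basicOpen U f := by
    letI := (X.presheaf.map (homOfLE (X.basicOpen_le f)).op).hom.toAlgebra
    haveI : IsLocalization.Away f Γ(X, X.basicOpen f) := U.2.isLocalization_basicOpen f
    have h := map_colon_of_fg (S := Γ(X, X.basicOpen f)) (Submonoid.powers f) (K.ideal U) (L.ideal U) (hL U)
    rw [← K.map_ideal_basicOpen U f, ← L.map_ideal_basicOpen U f]
    exact h

theorem mem_colon {X : Scheme.{u}} {K L : X.IdealSheafData} {hL : ∀ U : X.affineOpens, (L.ideal U).FG}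
    (U : X.affineOpens) (r : Γ(X, U.1)) :
    r ∈ (colon K L hL).ideal U ↔ ∀ l ∈ L.ideal U, r * l ∈ K.ideal U :=
  Submodule.mem_colon

end Groth.Agent.PtBlow
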