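import Groth.Agent.PtBlow.Model
import Groth.Agent.PtBlow.Colon
import Groth.Agent.BlowUpExist.Proper
import Groth.Agent.BlowUpExist.Global
import Groth.Agent.DiagTor.Scheme
import Groth.Agent.FittLib.Sheaf
import Groth.Prelude.Def_IntMult

/-!
One blow-up of a regular closed point of dimension two: the residual ideal has smaller colength.
-/

set_option autoImplicit false
set_option backward.isDefEq.respectTransparency false
set_option backward.isDefEq.respectTransparency.types false
set_option linter.style.haveILetI false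

universe u

open CategoryTheory CategoryTheory.Limits AlgebraicGeometry TopologicalSpace

noncomputable section

namespace Groth.Agent.PtBlow

/-- a closed point with regular two-dimensional local ring -/
structure IsRegPt (X : Scheme.{u}) (x : X) : Prop where
  closed : IsClosed ({x} : Set X)
  reg : IsRegularLocalRing (X.presheaf.stalk x)
  dim : ringKrullDim (X.presheaf.stalk x) = 2

/-- the ideal of the reduced point -/
abbrev pt {X : Scheme.{u}} {x : X} (hx : IsRegPt X x) : X.IdealSheafData :=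
  Scheme.IdealSheafData.vanishingIdeal ⟨{x}, hx.closed⟩

/-- the colength of an ideal sheaf at a point -/
def wt {X : Scheme.{u}} (I : X.IdealSheafData) (x : X) : ℕ∞ :=
  Module.length (X.presheaf.stalk x) (X.presheaf.stalk x ⧸ IntMult.stalkIdeal I x)

theorem coe_support_pt {X : Scheme.{u}} {x : X} (hx : IsRegPt X x) :
    ((pt hx).support : Set X) = {x} := by
  ext y
  simp [pt]

theorem mem_support_comap_pt {X X' : Scheme.{u}} (b : X' ⟶ X) {x : X} (hx : IsRegPt X x) {y : X'} :
    y ∈ ((pt hx).comap b).support ↔ b y = x := by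
  rw [Scheme.IdealSheafData.support_comap]
  show b y ∈ ((pt hx).support : Set X) ↔ _
  rw [coe_support_pt hx]
  exact Iff.rfl

theorem ideal_eq_top {X : Scheme.{u}} {I : X.IdealSheafData} {V : X.affineOpens}
    (h : ∀ z ∈ V.1, z ∉ I.support) : I.ideal V = ⊤ := by
  by_contra hne
  obtain ⟨M, hM, hle⟩ := Ideal.exists_le_maximal _ hne
  let P : Spec Γ(X, V.1) := (⟨M, hM.isPrime⟩ : PrimeSpectrum Γ(X, V.1))
  have hzV : V.2.fromSpec P ∈ V.1 := V.2.range_fromSpec.le ⟨P, rfl⟩
  refine h _ hzV ((FittLib.mem_support_iff I V hzV).2 ?_)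
  have : V.2.primeIdealOf ⟨V.2.fromSpec P, hzV⟩ = P :=
    V.2.fromSpec.isOpenEmbedding.injective (V.2.fromSpec_primeIdealOf ⟨_, hzV⟩)
  rw [this]
  exact hle

theorem length_quot_localization_le {R : Type u} [CommRing R] (q : Ideal R) [q.IsPrime]
    (S : Type u) [CommRing S] [Algebra R S] [IsLocalization.AtPrime S q] (K : Ideal R)
    (hfin : Module.length R (R ⧸ K) ≠ ⊤) :
    Module.length S (S ⧸ K.map (algebraMap R S)) ≤ Module.length R (R ⧸ K) := by
  haveI : IsArtinian R (R ⧸ K) :=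
    ((isFiniteLength_iff_isNoetherian_isArtinian).1 (Module.length_ne_top_iff.1 hfin)).2
  let f : (R ⧸ K) →ₗ[R] S ⧸ K.map (algebraMap R S) :=
    Submodule.mapQ K ((K.map (algebraMap R S)).restrictScalars R) (Algebra.linearMap R S)
      fun r hr => Ideal.mem_map_of_mem _ hr
  have hf : Function.Surjective f := by
    intro z
    obtain ⟨z, rfl⟩ := Ideal.Quotient.mk_surjective z
    obtain ⟨r, s, rfl⟩ := IsLocalization.exists_mk'_eq q.primeCompl z
    obtain ⟨n, t, ht⟩ := IsArtinian.exists_pow_succ_smul_dvd (s : R) (1 : R ⧸ K)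
    refine ⟨Ideal.Quotient.mk K r * t, ?_⟩
    obtain ⟨t, rfl⟩ := Ideal.Quotient.mk_surjective t
    rw [← map_mul]
    show Ideal.Quotient.mk (K.map (algebraMap R S)) (algebraMap R S (r * t)) =
      Ideal.Quotient.mk (K.map (algebraMap R S)) (IsLocalization.mk' S r s)
    rw [Ideal.Quotient.eq]
    have hu : IsUnit (algebraMap R S ((s : R) ^ (n + 1))) := by
      rw [map_pow]; exact (IsLocalization.map_units S s).pow _
    rw [← Ideal.unit_mul_mem_iff_mem _ hu, mul_sub, ← map_mul]
    have hd : (s : R) ^ (n + 1) * t - (s : R) ^ n * 1 ∈ K := by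
      rw [← Ideal.Quotient.eq]
      simpa [Algebra.smul_def] using ht
    have e : algebraMap R S ((s : R) ^ (n + 1)) * IsLocalization.mk' S r s = algebraMap R S ((s : R) ^ n * r) := by
      rw [pow_succ, map_mul, mul_assoc, IsLocalization.mk'_spec', map_mul]
    rw [e, ← map_sub]
    refine Ideal.mem_map_of_mem _ ?_
    have := K.mul_mem_left r hd
    convert this using 1
    ring
  calc Module.length S (S ⧸ K.map (algebraMap R S))
      = Module.length S (⊤ : Submodule S (S ⧸ K.map (algebraMap R S))) := Module.length_top.symm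
    _ ≤ Module.length R ((⊤ : Submodule S (S ⧸ K.map (algebraMap R S))).restrictScalars R) :=
        Submodule.length_le_length_restrictScalars R _
    _ = Module.length R (S ⧸ K.map (algebraMap R S)) := by rw [Submodule.restrictScalars_top, Module.length_top]
    _ ≤ Module.length R (R ⧸ K) := Module.length_le_of_surjective f hf

theorem le_length_quot_localization {A : Type u} [CommRing A] (m : Ideal A) [m.IsMaximal]
    (S : Type u) [CommRing S] [Algebra A S] [IsLocalization.AtPrime S m] {J : Ideal A} {N : ℕ}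
    (hN : m ^ N ≤ J) : Module.length A (A ⧸ J) ≤ Module.length S (S ⧸ J.map (algebraMap A S)) := by
  let Q := S ⧸ J.map (algebraMap A S)
  have hcom : ∀ s : m.primeCompl, ∃ v : A, 1 - (s : A) * v ∈ J := fun s => by
    have htop : m ⊔ Ideal.span {(s : A)} = ⊤ := by
      by_contra hne
      exact s.2 ((Ideal.IsMaximal.eq_of_le ‹_› hne le_sup_left).ge
        (Ideal.mem_sup_right (Ideal.mem_span_singleton_self _)))
    have h2 : m ^ N ⊔ Ideal.span {(s : A)} = ⊤ := by
      rw [sup_comm] at htop ⊢; exact Ideal.sup_pow_eq_top htop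
    obtain ⟨j, hj, w, hw, hjw⟩ := Submodule.mem_sup.1 (h2.ge (Submodule.mem_top (x := (1 : A))))
    obtain ⟨v, rfl⟩ := Ideal.mem_span_singleton.1 hw
    exact ⟨v, by rw [← hjw, add_sub_cancel_right]; exact hN hj⟩
  have hsurj : Function.Surjective (algebraMap A Q) := fun z => by
    obtain ⟨z, rfl⟩ := Ideal.Quotient.mk_surjective z
    obtain ⟨a, s, rfl⟩ := IsLocalization.exists_mk'_eq m.primeCompl z
    obtain ⟨v, hv⟩ := hcom s
    refine ⟨a * v, ?_⟩
    show Ideal.Quotient.mk _ (algebraMap A S (a * v)) = _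
    rw [Ideal.Quotient.eq, ← Ideal.unit_mul_mem_iff_mem _ (IsLocalization.map_units S s), mul_sub,
      IsLocalization.mk'_spec', ← map_mul, ← map_sub]
    refine Ideal.mem_map_of_mem _ ?_
    have := J.mul_mem_left (-a) hv
    convert this using 1
    ring
  let f : (A ⧸ J) →ₗ[A] Q :=
    Submodule.mapQ J ((J.map (algebraMap A S)).restrictScalars A) (Algebra.linearMap A S)
      fun r hr => Ideal.mem_map_of_mem _ hr
  have hinj : Function.Injective f := by
    rw [injective_iff_map_eq_zero]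
    intro z hz
    obtain ⟨a, rfl⟩ := Ideal.Quotient.mk_surjective z
    obtain ⟨s, hs, hsa⟩ := (IsLocalization.algebraMap_mem_map_algebraMap_iff m.primeCompl S J a).1
      (Ideal.Quotient.eq_zero_iff_mem.1 hz)
    obtain ⟨v, hv⟩ := hcom ⟨s, hs⟩
    rw [Ideal.Quotient.eq_zero_iff_mem]
    have := J.add_mem (J.mul_mem_left a hv) (J.mul_mem_left v hsa)
    convert this using 1
    ring
  have h1 : Module.length A Q = Module.length S Q :=
    (Module.length_eq_of_surjective (R := Q) (M := Q) hsurj).trans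
      (Module.length_eq_of_surjective (R := Q) (M := Q) (S := S) Ideal.Quotient.mk_surjective).symm
  exact (Module.length_le_of_injective f hinj).trans_eq h1

variable {X : Scheme.{u}}

/-- existence of the blow-up of a regular point -/
theorem exists_blowUp [IsNoetherian X] {x : X} (hx : IsRegPt X x) :
    ∃ (X' : Scheme.{u}) (b : X' ⟶ X), BlowUp.IsBlowUp b (pt hx) :=
  BlowUpExist.exists_isBlowUp X _

theorem isProper_blowUp [IsNoetherian X] {x : X} (hx : IsRegPt X x) {X' : Scheme.{u}} {b : X' ⟶ X}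
    (hb : BlowUp.IsBlowUp b (pt hx)) : IsProper b :=
  BlowUpExist.isProper_of_isFiniteType hb fun U => by
    haveI := IsLocallyNoetherian.component_noetherian U
    exact IsNoetherian.noetherian _

theorem isNoetherian_blowUp [IsNoetherian X] {x : X} (hx : IsRegPt X x) {X' : Scheme.{u}} {b : X' ⟶ X}
    (hb : BlowUp.IsBlowUp b (pt hx)) : IsNoetherian X' := by
  haveI := isProper_blowUp hx hb
  haveI := LocallyOfFiniteType.isLocallyNoetherian b
  haveI : CompactSpace X' := QuasiCompact.compactSpace_of_compactSpace b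
  exact {}

/-- Blowing up a regular point: the residual ideal. -/
theorem exists_residual [IsNoetherian X] {x : X} (hx : IsRegPt X x) {X' : Scheme.{u}} {b : X' ⟶ X}
    (hb : BlowUp.IsBlowUp b (pt hx)) (I : X.IdealSheafData) (hxI : x ∈ I.support) {O : X.Opens} (hxO : x ∈ O)
    (hO : ∀ z ∈ I.support, z ∈ O → z = x) :
    ∃ (o : ℕ) (I' : X'.IdealSheafData), I.comap b = I' * ((pt hx).comap b) ^ o ∧
      {y : X' | y ∈ I'.support ∧ b y = x}.Finite ∧
      (∀ y ∈ I'.support, b y = x → IsRegPt X' y ∧ wt I' y < wt I x) ∧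
      (∀ y : X', b y ≠ x → (y ∈ I'.support ↔ b y ∈ I.support) ∧
        (b y ∈ I.support → wt I' y = wt I (b y)) ∧ (IsRegPt X (b y) → IsRegPt X' y)) := by
  haveI := isNoetherian_blowUp hx hb
  obtain ⟨W, hWO, hxW, hdom, hnoeth, hmax, a₀, a₁, hG⟩ :=
    exists_goodNbhd x hx.closed hx.reg hx.dim O hxO
  obtain ⟨m, hm⟩ : ∃ m, m = (pt hx).ideal W := ⟨_, rfl⟩
  replace hmax : m.IsMaximal := hm ▸ hmax
  replace hG : Good m a₀ a₁ := hm ▸ hG
  let A := Γ(X, W.1)
  let J : Ideal A := I.ideal W
  have hmW : m = (W.2.primeIdealOf ⟨x, hxW⟩).asIdeal := hm.trans (vanishingIdeal_ideal_eq hx.closed W hxW)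
  have hJm : J ≤ m := by rw [hmW]; exact (FittLib.mem_support_iff I W hxW).1 hxI
  obtain ⟨N, hN⟩ : ∃ N, m ^ N ≤ J := by
    refine Ideal.exists_pow_le_of_le_radical_of_fg ?_ (IsNoetherian.noetherian _)
    rw [Ideal.radical_eq_sInf]
    refine le_sInf fun P hP => ?_
    haveI := hP.2
    let p : Spec A := (⟨P, hP.2⟩ : PrimeSpectrum A)
    have hpW : W.2.fromSpec p ∈ W.1 := W.2.range_fromSpec.le ⟨p, rfl⟩
    have hpp : W.2.primeIdealOf ⟨W.2.fromSpec p, hpW⟩ = p :=
      W.2.fromSpec.isOpenEmbedding.injective (W.2.fromSpec_primeIdealOf ⟨_, hpW⟩)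
    have heq : W.2.fromSpec p = x := hO _ ((FittLib.mem_support_iff I W hpW).2 (by rw [hpp]; exact hP.1)) (hWO hpW)
    have hsub : (⟨W.2.fromSpec p, hpW⟩ : W.1) = ⟨x, hxW⟩ := Subtype.ext heq
    rw [hmW, ← hsub, hpp]
  obtain ⟨o, ho, hJo, hJo'⟩ : ∃ o, 1 ≤ o ∧ J ≤ m ^ o ∧ ¬ J ≤ m ^ (o + 1) := by
    classical
    have hex : ∃ o, ¬ J ≤ m ^ (o + 1) := by
      by_contra hcon
      push Not at hcon
      have h0 : J ≤ ⊥ := (Ideal.iInf_pow_eq_bot_of_isDomain m hmax.ne_top) ▸
        le_iInf fun i => (hcon i).trans (Ideal.pow_le_pow_right i.le_succ)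
      have hx0 := hG.left_ne_zero hmax.ne_top
      exact hx0 (pow_eq_zero_iff'.1 (Submodule.mem_bot A |>.1 (h0 (hN (Ideal.pow_mem_pow hG.left_mem N))))).1
    refine ⟨Nat.find hex, Nat.one_le_iff_ne_zero.2 fun h0 => ?_, ?_, Nat.find_spec hex⟩
    · have := Nat.find_spec hex
      rw [h0, pow_one] at this
      exact this hJm
    · rcases h : Nat.find hex with _ | k
      · simp
      · exact not_not.1 (Nat.find_min hex (h ▸ Nat.lt_succ_self k))
  obtain ⟨G₀, G₁, hG₀, hG₁, hcov, hc₀, hc₁⟩ :=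
    exists_charts hb W (hm ▸ hG.span) (hG.left_ne_zero hmax.ne_top) (hG.symm.left_ne_zero hmax.ne_top)
  let E := (pt hx).comap b
  let Ic := I.comap b
  have hfg : ∀ U : X'.affineOpens, ((E ^ o).ideal U).FG := fun U => by
    haveI := IsLocallyNoetherian.component_noetherian U
    exact IsNoetherian.noetherian _
  let I' := colon Ic (E ^ o) hfg
  -- on a chart
  have chart : ∀ (u v : A) (G : X'.affineOpens) (hle : G.1 ≤ b ⁻¹ᵁ W.1), Good m u v →
      (letI := (b.appLE W.1 G.1 hle).hom.toAlgebra; ∃ τ, Chart u v Γ(X', G.1) τ) →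
      Ic.ideal G = I'.ideal G * (E ^ o).ideal G ∧
      ∀ (y : X') (hyG : y ∈ G.1), y ∈ I'.support → (G.2.primeIdealOf ⟨y, hyG⟩).asIdeal.IsMaximal ∧ b y = x ∧
        IsRegularLocalRing (X'.presheaf.stalk y) ∧ ringKrullDim (X'.presheaf.stalk y) = 2 ∧
        wt I' y < wt I x ∧ {q : Ideal Γ(X', G.1) | q.IsPrime ∧ I'.ideal G ≤ q}.Finite := by
    intro u v G hle hGood hc
    let φ := (b.appLE W.1 G.1 hle).hom
    letI := φ.toAlgebra
    obtain ⟨τ, hC⟩ := hc
    haveI := hC.isNoetherianRing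
    have hE : E.ideal G = Ideal.span {φ u} := by
      rw [FpqcDescent.ideal_comap_appLE (pt hx) b W G hle, ← hm]
      exact hC.map_eq hGood
    have hEo : (E ^ o).ideal G = Ideal.span {φ u ^ o} := by
      rw [Scheme.IdealSheafData.ideal_pow, Pi.pow_apply, hE, Ideal.span_singleton_pow]
    have hIc : Ic.ideal G = J.map φ := FpqcDescent.ideal_comap_appLE I b W G hle
    have hK : ∀ r, r ∈ I'.ideal G ↔ φ u ^ o * r ∈ J.map φ := fun r => by
      rw [mem_colon, hEo, hIc]
      refine ⟨fun h => mul_comm (φ u ^ o) r ▸ h _ (Ideal.mem_span_singleton_self _), fun h l hl => ?_⟩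
      obtain ⟨c, rfl⟩ := Ideal.mem_span_singleton.1 hl
      rw [← mul_assoc, mul_comm r]
      exact Ideal.mul_mem_right _ _ h
    have hdiv : J.map φ ≤ Ideal.span {φ u ^ o} := by
      refine (Ideal.map_mono hJo).trans ?_
      rw [Ideal.map_pow, show φ = algebraMap A Γ(X', G.1) from rfl, hC.map_eq hGood, Ideal.span_singleton_pow]
    refine ⟨?_, ?_⟩
    · rw [hIc, hEo]
      refine le_antisymm (fun r hr => ?_) ?_
      · obtain ⟨c, rfl⟩ := Ideal.mem_span_singleton.1 (hdiv hr)
        exact Ideal.mul_mem_mul_rev ((hK c).2 hr) (Ideal.mem_span_singleton_self _)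
      · rw [Ideal.mul_le]
        intro r hr s hs
        obtain ⟨c, rfl⟩ := Ideal.mem_span_singleton.1 hs
        rw [← mul_assoc, mul_comm r]
        exact Ideal.mul_mem_right _ _ ((hK r).1 hr)
    intro y hyG hy
    obtain ⟨hprimes, hlen⟩ := hC.residual hGood hN hJo hJo' ho (I'.ideal G) hK
    let q := (G.2.primeIdealOf ⟨y, hyG⟩).asIdeal
    have hKq : I'.ideal G ≤ q := (FittLib.mem_support_iff I' G hyG).1 hy
    obtain ⟨huq, hqmax⟩ := hprimes q inferInstance hKq
    haveI := hqmax
    have hby : b y = x := by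
      have hyE : y ∈ E.support := (FittLib.mem_support_iff E G hyG).2 (by
        rw [hE]; exact (Ideal.span_singleton_le_iff_mem _).2 huq)
      exact (mem_support_comap_pt b hx).1 hyE
    letI : Algebra Γ(X', G.1) (X'.presheaf.stalk y) := (X'.presheaf.germ G.1 y hyG).hom.toAlgebra
    haveI : IsLocalization.AtPrime (X'.presheaf.stalk y) q := G.2.isLocalization_stalk ⟨y, hyG⟩
    let e := IsLocalization.algEquiv q.primeCompl (Localization.AtPrime q) (X'.presheaf.stalk y)
    haveI := hC.isRegularLocalRing hGood q huq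
    have hfinA : Module.length A (Γ(X', G.1) ⧸ I'.ideal G) ≠ ⊤ := ne_top_of_lt hlen
    have hRA : Module.length Γ(X', G.1) (Γ(X', G.1) ⧸ I'.ideal G) ≤ Module.length A (Γ(X', G.1) ⧸ I'.ideal G) := by
      have := Submodule.length_le_length_restrictScalars A (⊤ : Submodule Γ(X', G.1) (Γ(X', G.1) ⧸ I'.ideal G))
      rwa [Submodule.restrictScalars_top, Module.length_top, Module.length_top] at this
    refine ⟨hqmax, hby, IsRegularLocalRing.of_ringEquiv e.toRingEquiv,
      (ringKrullDim_eq_of_ringEquiv e.symm.toRingEquiv).trans (hC.ringKrullDim_eq_two hGood q huq), ?_, ?_⟩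
    · letI : Algebra A (X.presheaf.stalk x) := (X.presheaf.germ W.1 x hxW).hom.toAlgebra
      haveI : IsLocalization.AtPrime (X.presheaf.stalk x) m := by
        have := W.2.isLocalization_stalk ⟨x, hxW⟩
        convert this using 2 <;> first | exact hmW | rfl
      have h1 : wt I' y ≤ Module.length A (Γ(X', G.1) ⧸ I'.ideal G) := by
        rw [wt, DiagTor.stalkIdeal_chart I' hy G hyG]
        exact (length_quot_localization_le q (X'.presheaf.stalk y) (I'.ideal G) (ne_top_of_le_ne_top hfinA hRA)).trans hRA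
      have h2 : Module.length A (A ⧸ J) ≤ wt I x := by
        rw [wt, DiagTor.stalkIdeal_chart I hxI W hxW]
        exact le_length_quot_localization m (X.presheaf.stalk x) hN
      exact lt_of_le_of_lt h1 (lt_of_lt_of_le hlen h2)
    · haveI : IsArtinianRing (Γ(X', G.1) ⧸ I'.ideal G) := by
        haveI : IsArtinian Γ(X', G.1) (Γ(X', G.1) ⧸ I'.ideal G) :=
          ((isFiniteLength_iff_isNoetherian_isArtinian).1
            (Module.length_ne_top_iff.1 (ne_top_of_le_ne_top hfinA hRA))).2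
        exact isArtinian_of_tower Γ(X', G.1) ‹_›
      refine ((IsArtinianRing.setOfPred_isPrime_finite (Γ(X', G.1) ⧸ I'.ideal G)).image
        (Ideal.comap (Ideal.Quotient.mk (I'.ideal G)))).subset ?_
      rintro q' ⟨hq', hle'⟩
      refine ⟨q'.map (Ideal.Quotient.mk _),
        Ideal.map_isPrime_of_surjective Ideal.Quotient.mk_surjective (by rwa [Ideal.mk_ker]), ?_⟩
      rw [Ideal.comap_map_of_surjective _ Ideal.Quotient.mk_surjective, ← RingHom.ker_eq_comap_bot,
        Ideal.mk_ker, sup_eq_left.2 hle']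
  obtain ⟨e₀, f₀⟩ := chart a₀ a₁ G₀ hG₀ hG hc₀
  obtain ⟨e₁, f₁⟩ := chart a₁ a₀ G₁ hG₁ hG.symm hc₁
  -- away from `x`
  have off : ∀ (V : X'.affineOpens), (∀ z ∈ V.1, b z ≠ x) → (E ^ o).ideal V = ⊤ ∧ I'.ideal V = Ic.ideal V := by
    intro V hV
    have h1 : (E ^ o).ideal V = ⊤ := by
      rw [Scheme.IdealSheafData.ideal_pow, Pi.pow_apply,
        ideal_eq_top (I := E) fun z hz hzE => hV z hz ((mem_support_comap_pt b hx).1 hzE)]
      exact Ideal.top_pow _ o
    refine ⟨h1, Ideal.ext fun r => ?_⟩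
    rw [mem_colon, h1]
    exact ⟨fun h => mul_one r ▸ h 1 Submodule.mem_top, fun h l _ => Ideal.mul_mem_right l _ h⟩
  have hoff : ∀ y : X', b y ≠ x → ∃ V : X'.affineOpens, y ∈ V.1 ∧ ∀ z ∈ V.1, b z ≠ x := fun y hy => by
    obtain ⟨V, hV, hyV, hVle⟩ := exists_isAffineOpen_mem_and_subset (x := y)
      (U := b ⁻¹ᵁ ⟨{x}ᶜ, hx.closed.isOpen_compl⟩) hy
    exact ⟨⟨V, hV⟩, hyV, fun z hz => hVle hz⟩
  have hmul : Ic = I' * E ^ o := by
    have : ∀ y : X', ∃ V : X'.affineOpens, y ∈ V.1 ∧ Ic.ideal V = (I' * E ^ o).ideal V := fun y => by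
      simp only [Scheme.IdealSheafData.ideal_mul, Pi.mul_apply]
      by_cases hy : b y = x
      · rcases hcov y (show b y ∈ W.1 from hy ▸ hxW) with h | h
        · exact ⟨G₀, h, e₀⟩
        · exact ⟨G₁, h, e₁⟩
      · obtain ⟨V, hyV, hV⟩ := hoff y hy
        exact ⟨V, hyV, by rw [(off V hV).1, (off V hV).2, Ideal.mul_top]⟩
    choose V hyV hVeq using this
    exact Scheme.IdealSheafData.ext_of_iSup_eq_top V
      (eq_top_iff.2 fun y _ => TopologicalSpace.Opens.mem_iSup.2 ⟨y, hyV y⟩) hVeq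
  refine ⟨o, I', hmul, ?_, fun y hy hyx => ?_, fun y hy => ?_⟩
  · have key : ∀ G : X'.affineOpens, (∀ y ∈ G.1, y ∈ I'.support →
        {q : Ideal Γ(X', G.1) | q.IsPrime ∧ I'.ideal G ≤ q}.Finite) →
        {y : X' | y ∈ I'.support ∧ y ∈ G.1}.Finite := by
      intro G hGfin
      by_cases hne : {y : X' | y ∈ I'.support ∧ y ∈ G.1} = ∅
      · rw [hne]; exact Set.finite_empty
      obtain ⟨y₀, hy₀, hy₀G⟩ := Set.nonempty_iff_ne_empty.2 hne
      let F := {q : Ideal Γ(X', G.1) | q.IsPrime ∧ I'.ideal G ≤ q}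
      haveI : Finite F := (hGfin y₀ hy₀G hy₀).to_subtype
      refine (Set.finite_range fun q : F =>
        G.2.fromSpec (⟨q.1, q.2.1⟩ : PrimeSpectrum Γ(X', G.1))).subset ?_
      rintro y ⟨hy, hyG⟩
      exact ⟨⟨_, (G.2.primeIdealOf ⟨y, hyG⟩).isPrime, (FittLib.mem_support_iff I' G hyG).1 hy⟩,
        G.2.fromSpec_primeIdealOf ⟨y, hyG⟩⟩
    refine ((key G₀ fun y h h' => (f₀ y h h').2.2.2.2.2).union
      (key G₁ fun y h h' => (f₁ y h h').2.2.2.2.2)).subset ?_
    rintro y ⟨hy, hyx⟩
    rcases hcov y (show b y ∈ W.1 from hyx ▸ hxW) with h | h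
    · exact Or.inl ⟨hy, h⟩
    · exact Or.inr ⟨hy, h⟩
  · have hmain : ∀ z ∈ I'.support, b z = x → ∀ (G : X'.affineOpens) (hzG : z ∈ G.1),
        (∀ w (hw : w ∈ G.1), w ∈ I'.support → (G.2.primeIdealOf ⟨w, hw⟩).asIdeal.IsMaximal) →
        ∀ w ∈ G.1, w ⤳ z → w ∈ I'.support → w = z := by
      intro z hz _ G hzG hmx w hwG hwz hw
      have hle : (G.2.primeIdealOf ⟨w, hwG⟩) ≤ (G.2.primeIdealOf ⟨z, hzG⟩) := by
        refine (PrimeSpectrum.le_iff_specializes _ _).2 (G.2.fromSpec.isOpenEmbedding.isInducing.specializes_iff.1 ?_)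
        rwa [G.2.fromSpec_primeIdealOf ⟨w, hwG⟩, G.2.fromSpec_primeIdealOf ⟨z, hzG⟩]
      have heq := PrimeSpectrum.ext ((hmx w hwG hw).eq_of_le (G.2.primeIdealOf ⟨z, hzG⟩).isPrime.ne_top hle)
      exact ((G.2.fromSpec_primeIdealOf ⟨w, hwG⟩).symm.trans (congrArg (fun p => G.2.fromSpec p) heq)).trans
        (G.2.fromSpec_primeIdealOf ⟨z, hzG⟩)
    have hclosed : IsClosed ({y} : Set X') := by
      refine closure_subset_iff_isClosed.1 fun z hz => ?_
      have hyz : y ⤳ z := specializes_iff_mem_closure.2 hz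
      have hzI : z ∈ I'.support := hyz.mem_closed I'.support.isClosed hy
      have hzx : b z = x := by
        have := (hyz.map b.continuous).mem_closed hx.closed (show b y ∈ ({x} : Set X) from hyx)
        exact this
      rcases hcov z (show b z ∈ W.1 from hzx ▸ hxW) with h | h
      · exact (hmain z hzI hzx G₀ h (fun w hw hw' => (f₀ w hw hw').1) y (hyz.mem_open G₀.1.2 h) hyz hy).symm
      · exact (hmain z hzI hzx G₁ h (fun w hw hw' => (f₁ w hw hw').1) y (hyz.mem_open G₁.1.2 h) hyz hy).symm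
    rcases hcov y (show b y ∈ W.1 from hyx ▸ hxW) with h | h
    · exact ⟨⟨hclosed, (f₀ y h hy).2.2.1, (f₀ y h hy).2.2.2.1⟩, (f₀ y h hy).2.2.2.2.1⟩
    · exact ⟨⟨hclosed, (f₁ y h hy).2.2.1, (f₁ y h hy).2.2.2.1⟩, (f₁ y h hy).2.2.2.2.1⟩
  · obtain ⟨V, hyV, hV⟩ := hoff y hy
    have hiff : y ∈ I'.support ↔ b y ∈ I.support := by
      rw [FittLib.mem_support_iff I' V hyV, (off V hV).2, ← FittLib.mem_support_iff Ic V hyV]
      show y ∈ (I.comap b).support ↔ _
      rw [Scheme.IdealSheafData.support_comap]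
      exact Iff.rfl
    have hmem : b y ∈ (pt hx).support.compl := by
      show b y ∉ ((pt hx).support : Set X)
      rw [coe_support_pt hx]; exact hy
    haveI := BlowUpLib.isIso_stalkMap hb hmem
    let e := (asIso (b.stalkMap y)).commRingCatIsoToRingEquiv
    refine ⟨hiff, fun hby => ?_, fun hreg => ?_⟩
    · have hyI' := hiff.2 hby
      have hst : IntMult.stalkIdeal I' y = (IntMult.stalkIdeal I (b y)).map (b.stalkMap y).hom := by
        rw [← DiagTor.stalkIdeal_comap b I hby, DiagTor.stalkIdeal_chart I' hyI' V hyV,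
          DiagTor.stalkIdeal_chart (I.comap b) (by rw [Scheme.IdealSheafData.support_comap]; exact hby) V hyV,
          (off V hV).2]
      let S := X'.presheaf.stalk y
      letI : Algebra (X.presheaf.stalk (b y)) S := (b.stalkMap y).hom.toAlgebra
      have hbij : Function.Bijective (algebraMap (X.presheaf.stalk (b y)) S) := e.bijective
      let K := IntMult.stalkIdeal I (b y)
      let f : (X.presheaf.stalk (b y) ⧸ K) →ₗ[X.presheaf.stalk (b y)] S ⧸ K.map (algebraMap _ S) :=
        Submodule.mapQ K ((K.map (algebraMap _ S)).restrictScalars _) (Algebra.linearMap _ S)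
          fun r hr => Ideal.mem_map_of_mem _ hr
      have hf : Function.Bijective f := by
        refine ⟨?_, fun z => ?_⟩
        · rw [injective_iff_map_eq_zero]
          intro z hz
          obtain ⟨a, rfl⟩ := Ideal.Quotient.mk_surjective z
          obtain ⟨c, hc, hca⟩ := (Ideal.mem_map_iff_of_surjective _ hbij.2).1 (Ideal.Quotient.eq_zero_iff_mem.1 hz)
          exact Ideal.Quotient.eq_zero_iff_mem.2 (hbij.1 hca ▸ hc)
        · obtain ⟨s, rfl⟩ := Ideal.Quotient.mk_surjective z
          obtain ⟨a, rfl⟩ := hbij.2 s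
          exact ⟨Ideal.Quotient.mk _ a, rfl⟩
      rw [wt, wt, hst]
      exact ((LinearEquiv.ofBijective f hf).length_eq.trans (Module.length_eq_of_surjective
        (R := S) (M := S ⧸ K.map (algebraMap _ S)) hbij.2)).symm
    · haveI := hreg.reg
      refine ⟨?_, IsRegularLocalRing.of_ringEquiv e, (ringKrullDim_eq_of_ringEquiv e).symm.trans hreg.dim⟩
      have h1 : ({y} : Set X') = b ⁻¹' {b y} := by
        refine Set.Subset.antisymm (by simp) fun z hz => ?_
        haveI := BlowUpLib.isIso_restrict hb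
        have hz' : b z = b y := hz
        let U := (pt hx).support.compl
        have := (b ∣_ U).homeomorph.injective (a₁ := ⟨z, show b z ∈ U from hz' ▸ hmem⟩) (a₂ := ⟨y, hmem⟩)
          (Subtype.ext (by simpa using hz'))
        exact congrArg Subtype.val this
      rw [h1]
      exact hreg.closed.preimage b.continuous

end Groth.Agent.PtBlow
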