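import Groth.Agent.PtBlow.Exc
import Groth.Agent.PtBlow.Step
import Groth.Agent.ProjMor.ProjSpaceBase
import Groth.Prelude.Def_ModelsG

/-!
The blow-up of a regular two-dimensional closed point is the contraction of an exceptional curve of the first kind.
-/

set_option autoImplicit false
set_option backward.isDefEq.respectTransparency false
set_option backward.isDefEq.respectTransparency.types false
set_option linter.style.haveILetI false

universe u

open CategoryTheory CategoryTheory.Limits AlgebraicGeometry TopologicalSpace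

noncomputable section

namespace Groth.Agent.PtBlow

open Groth.Agent.BlowUpExist

theorem ideal_eq_of_comap_eq {X Y : Scheme.{u}} (μ : Y ⟶ X) [IsOpenImmersion μ] {I J : X.IdealSheafData}
    (h : I.comap μ = J.comap μ) (V : X.affineOpens) (hV : V.1 ≤ μ.opensRange) : I.ideal V = J.ideal V := by
  have e : μ ''ᵁ (μ ⁻¹ᵁ V.1) = V.1 := by
    rw [μ.image_preimage_eq_opensRange_inf]; exact inf_eq_right.2 hV
  have hU : IsAffineOpen (μ ⁻¹ᵁ V.1) := V.2.preimage_of_isOpenImmersion μ hV
  have key : ∀ W : X.affineOpens, W.1 = μ ''ᵁ (μ ⁻¹ᵁ V.1) → I.ideal W = J.ideal W := by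
    intro W hW
    obtain rfl : W = ⟨μ ''ᵁ (μ ⁻¹ᵁ V.1), hU.image_of_isOpenImmersion μ⟩ := Subtype.ext hW
    have h1 := congrArg (fun K : Y.IdealSheafData => K.ideal ⟨μ ⁻¹ᵁ V.1, hU⟩) h
    simp only [Scheme.IdealSheafData.ideal_comap_of_isOpenImmersion] at h1
    exact Ideal.comap_injective_of_surjective _
      (ConcreteCategory.bijective_of_isIso (μ.appIso (μ ⁻¹ᵁ V.1)).inv).2 h1
  exact key V e.symm

/-- the reduced point pulled back to an affine neighbourhood -/
theorem comap_fromSpec_eq {X : Scheme.{u}} (I : X.IdealSheafData) (W : X.affineOpens) :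
    I.comap W.2.fromSpec = sheafOf (I.ideal W) := by
  refine (Scheme.IdealSheafData.equivOfIsAffine (X := Spec Γ(X, W.1))).injective ?_
  refine Eq.trans ?_ ((Scheme.IdealSheafData.equivOfIsAffine (X := Spec Γ(X, W.1))).apply_symm_apply _).symm
  exact ideal_comap_fromSpec I W

/-- Blowing up a regular closed point of dimension two contracts an exceptional curve of the first kind. -/
theorem exists_contraction'' {X : Scheme.{u}} [IsNoetherian X] {x : X} (hx : IsRegPt X x) {X' : Scheme.{u}}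
    {b : X' ⟶ X} (hb : BlowUp.IsBlowUp b (pt hx)) :
    ∃ (k : Type u) (_ : Field k) (ι : CohB1.ProjSpace 1 k ⟶ X'), IsClosedImmersion ι ∧ Models.IsExcCurve ι ∧
      Models.IsContractionOf ι b ∧ ι.ker = (pt hx).comap b ∧ Set.range ι = b ⁻¹' {x} ∧
      ∃ i : Spec (CommRingCat.of k) ⟶ X, IsClosedImmersion i ∧ (∀ z, i z = x) ∧
        ι ≫ b = CohB1.ProjSpace.toSpec 1 k ≫ i := by
  haveI := isProper_blowUp hx hb
  obtain ⟨W, -, hxW, hdom, hnoeth, hmax, a₀, a₁, hG⟩ :=
    exists_goodNbhd x hx.closed hx.reg hx.dim ⊤ trivial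
  let A := Γ(X, W.1)
  let m := (pt hx).ideal W
  letI : Field (A ⧸ m) := Ideal.Quotient.field m
  let k : Type u := A ⧸ m
  let π : A →+* k := Ideal.Quotient.mk m
  obtain ⟨c, r, hc, hr, -, hcS, hck, -, ⟨τ⟩⟩ :=
    exists_line π hG hmax.ne_top Ideal.Quotient.mk_surjective Ideal.mk_ker
  obtain ⟨μ, hμ, hμr, hμb⟩ := BlowAmp.exists_model hb W
  let ι : CohB1.ProjSpace 1 k ⟶ X' := c ≫ μ
  let i : Spec (CommRingCat.of k) ⟶ X := Spec.map (CommRingCat.ofHom π) ≫ W.2.fromSpec
  have hιb : ι ≫ b = CohB1.ProjSpace.toSpec 1 k ≫ i := by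
    rw [Category.assoc, hμb, reassoc_of% hcS]
  haveI : IsClosedImmersion (Spec.map (CommRingCat.ofHom π)) :=
    IsClosedImmersion.spec_of_surjective _ Ideal.Quotient.mk_surjective
  have hi : ∀ z, i z = x := fun z => by
    have h1 : W.2.fromSpec (W.2.primeIdealOf ⟨x, hxW⟩) = x := W.2.fromSpec_primeIdealOf ⟨x, hxW⟩
    have h2 : Spec.map (CommRingCat.ofHom π) z = W.2.primeIdealOf ⟨x, hxW⟩ := by
      have hz : z.asIdeal = ⊥ := (Ideal.eq_bot_or_top z.asIdeal).resolve_right z.isPrime.ne_top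
      refine PrimeSpectrum.ext ?_
      show z.asIdeal.comap π = _
      rw [hz, ← RingHom.ker_eq_comap_bot, Ideal.mk_ker]
      exact vanishingIdeal_ideal_eq hx.closed W hxW
    exact (Scheme.Hom.comp_apply _ _ _).trans ((congrArg (fun p => W.2.fromSpec p) h2).trans h1)
  haveI : Nonempty (CohB1.ProjSpace 1 k) := by
    by_contra h
    haveI := not_nonempty_iff.1 h
    exact ProjMor.not_isAffine_projLine k inferInstance
  haveI : IsClosedImmersion i := by
    refine IsClosedImmersion.of_isPreimmersion i ?_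
    have : Set.range i = {x} := by
      refine Set.eq_singleton_iff_unique_mem.2 ⟨?_, by rintro _ ⟨z, rfl⟩; exact hi z⟩
      exact ⟨CohB1.ProjSpace.toSpec 1 k (Classical.arbitrary _), hi _⟩
    rw [this]; exact hx.closed
  haveI := ProjMor.isProper_toSpec (n := 1) (R := k)
  haveI : IsProper (ι ≫ b) := by rw [hιb]; infer_instance
  haveI : IsProper ι := IsProper.of_comp ι b
  haveI : IsClosedImmersion ι := IsClosedImmersion.of_isPreimmersion ι ι.isClosedMap.isClosed_range
  have hrange : ∀ z, b (ι z) = x := fun z => by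
    rw [← Scheme.Hom.comp_apply, hιb, Scheme.Hom.comp_apply]; exact hi _
  let E := (pt hx).comap b
  have hEμ : E.comap μ = (sheafOf m).comap (structMap m) := by
    show ((pt hx).comap b).comap μ = _
    rw [← Scheme.IdealSheafData.comap_comp, hμb, Scheme.IdealSheafData.comap_comp, comap_fromSpec_eq]
  have hP : IsPullback c (𝟙 _) μ ι := by
    refine IsOpenImmersion.isPullback _ _ _ _ (by simp [ι]) ?_
    refine (eq_top_iff.2 fun z _ => ?_).trans (Scheme.Hom.opensRange_of_isIso (𝟙 _)).symm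
    exact ⟨c z, rfl⟩
  have hker : ι.ker = E := by
    have hμk : ι.ker.comap μ = E.comap μ := by
      rw [hEμ, ← hck]; exact (AlmostBlow.ker_of_isPullback hP.flip).symm
    have : ∀ y : X', ∃ V : X'.affineOpens, y ∈ V.1 ∧ ι.ker.ideal V = E.ideal V := fun y => by
      by_cases hy : b y ∈ W.1
      · obtain ⟨V, hV, hyV, hVle⟩ := exists_isAffineOpen_mem_and_subset (x := y) (U := b ⁻¹ᵁ W.1) hy
        exact ⟨⟨V, hV⟩, hyV, ideal_eq_of_comap_eq μ hμk ⟨V, hV⟩ fun z hz => hμr.symm.subset (hVle hz)⟩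
      · obtain ⟨V, hV, hyV, hVle⟩ := exists_isAffineOpen_mem_and_subset (x := y)
          (U := b ⁻¹ᵁ ⟨{x}ᶜ, hx.closed.isOpen_compl⟩) (fun h : b y = x => hy (h ▸ hxW))
        have hne : ∀ z ∈ V, b z ≠ x := fun z hz => hVle hz
        refine ⟨⟨V, hV⟩, hyV, ?_⟩
        rw [ideal_eq_top (I := E) fun z hz hzE => hne z hz ((mem_support_comap_pt b hx).1 hzE),
          ideal_eq_top (I := ι.ker) fun z hz hzE => ?_]
        have hz' : z ∈ closure (Set.range ι) := by
          rw [← Scheme.Hom.support_ker]; exact hzE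
        rw [ι.isClosedMap.isClosed_range.closure_eq] at hz'
        obtain ⟨w, rfl⟩ := hz'
        exact hne _ hz (hrange w)
    choose V hyV hV using this
    exact Scheme.IdealSheafData.ext_of_iSup_eq_top V
      (eq_top_iff.2 fun y _ => TopologicalSpace.Opens.mem_iSup.2 ⟨y, hyV y⟩) hV
  have hE : BlowUp.IsEffCartierIdeal E := hb.1
  obtain ⟨θ⟩ := Nakai.nonempty_pullback_idealMod μ hE (hEμ ▸ cartier_comap_structMap m)
  rw [hEμ] at θ
  refine ⟨k, inferInstance, ι, inferInstance, ⟨hker ▸ hE, k, inferInstance, Iso.refl _, ⟨?_⟩⟩,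
    ⟨inferInstance, inferInstance, x, hx.closed, ?_, hx.reg, hx.dim, hb⟩, hker, ?_,
    i, inferInstance, hi, hιb⟩
  · rw [hker]
    exact (Scheme.Modules.pullbackCongr (show (Iso.refl (CohB1.ProjSpace 1 k)).hom ≫ ι = c ≫ μ from Category.id_comp ι)).app _ ≪≫
      ((Scheme.Modules.pullbackComp c μ).app _).symm ≪≫ (Scheme.Modules.pullback c).mapIso θ ≪≫ τ
  · refine Set.eq_singleton_iff_unique_mem.2 ⟨⟨Classical.arbitrary _, ?_⟩, ?_⟩
    · show (ι ≫ b) _ = x
      rw [Scheme.Hom.comp_apply]; exact hrange _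
    · rintro _ ⟨z, rfl⟩
      show (ι ≫ b) z = x
      rw [Scheme.Hom.comp_apply]; exact hrange z
  · ext y
    refine Iff.trans ?_ (mem_support_comap_pt b hx)
    show y ∈ Set.range ι ↔ y ∈ (((pt hx).comap b).support : Set X')
    rw [show (pt hx).comap b = ι.ker from hker.symm, Scheme.Hom.support_ker,
      ι.isClosedMap.isClosed_range.closure_eq]

/-- Blowing up a regular closed point: the exceptional line. -/
theorem exists_contraction' {X : Scheme.{u}} [IsNoetherian X] {x : X} (hx : IsRegPt X x) {X' : Scheme.{u}}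
    {b : X' ⟶ X} (hb : BlowUp.IsBlowUp b (pt hx)) :
    ∃ (k : Type u) (_ : Field k) (ι : CohB1.ProjSpace 1 k ⟶ X'), IsClosedImmersion ι ∧ Models.IsExcCurve ι ∧
      Models.IsContractionOf ι b ∧ ι.ker = (pt hx).comap b ∧ Set.range ι = b ⁻¹' {x} := by
  obtain ⟨k, hk, ι, h1, h2, h3, h4, h5, -⟩ := exists_contraction'' hx hb
  exact ⟨k, hk, ι, h1, h2, h3, h4, h5⟩

/-- Blowing up a regular closed point of dimension two contracts an exceptional curve of the first kind. -/
theorem exists_contraction {X : Scheme.{u}} [IsNoetherian X] {x : X} (hx : IsRegPt X x) {X' : Scheme.{u}}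
    {b : X' ⟶ X} (hb : BlowUp.IsBlowUp b (pt hx)) :
    ∃ (E : Scheme.{u}) (ι : E ⟶ X'), IsClosedImmersion ι ∧ Models.IsExcCurve ι ∧ Models.IsContractionOf ι b := by
  obtain ⟨k, _, ι, h1, h2, h3, -⟩ := exists_contraction' hx hb
  exact ⟨_, ι, h1, h2, h3⟩

end Groth.Agent.PtBlow
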