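import Groth.Agent.SiteCoh.DirectTop
import Groth.Agent.SiteCoh.Compare
import Groth.Agent.CohQC.Restrict
import Groth.Agent.BlowReg.GG
import Groth.Prelude.Def_FreeSh

/-!
First cohomology and direct images.
-/

set_option autoImplicit false
set_option backward.isDefEq.respectTransparency false
set_option backward.isDefEq.respectTransparency.types false

universe u

open CategoryTheory CategoryTheory.Limits Opposite TopologicalSpace CategoryTheory.Abelian AlgebraicGeometry
open Groth.Agent.SiteCoh

noncomputable section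

namespace Groth.Agent.PtBlow

section Top

variable {X Y : TopCat.{u}} (f : X ⟶ Y) (F : CohTop.Ab X) (V : Opens Y)

/-- vanishing of `H¹` upstairs gives vanishing of `H¹` of the direct image -/
theorem subsingleton_hu_push_one (h : Subsingleton (CohSite.HU F 1 ((Opens.map f).obj V))) :
    Subsingleton (CohSite.HU ((CohTop.push f).obj F) 1 V) := by
  have hS := embedSeq_shortExact F
  let T := (embedSeq F).map (CohTop.push f)
  haveI : (CohTop.push f).IsRightAdjoint := inferInstanceAs ((CohSite.push _ _ (Opens.map f)).IsRightAdjoint)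
  haveI := hS.mono_f
  haveI : Mono T.f := inferInstanceAs (Mono ((CohTop.push f).map (embedSeq F).f))
  have hT : T.Exact := ShortComplex.exact_of_f_is_kernel _
    (KernelFork.mapIsLimit _ hS.fIsKernel (CohTop.push f))
  let j := cokernel.desc T.f T.g T.zero
  haveI : Mono j := T.exact_iff_mono_cokernel_desc.1 hT
  let S' := ShortComplex.mk T.f (cokernel.π T.f) (cokernel.condition _)
  have hS' : S'.ShortExact :=
    { exact := ShortComplex.exact_of_g_is_cokernel _ (cokernelIsCokernel _)
      mono_f := ‹Mono T.f›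
      epi_g := inferInstanceAs (Epi (cokernel.π T.f)) }
  haveI : Subsingleton (Ext (CohCx.freeSheaf (Opens.grothendieckTopology Y) V) S'.X₂ 1) :=
    @push_injective_acyclic _ _ f (embedSeq F).X₂ (embedSeq_injective F) V 0
  haveI : Subsingleton (Ext (CohCx.freeSheaf (Opens.grothendieckTopology X) ((Opens.map f).obj V)) (embedSeq F).X₁ 1) := h
  refine subsingleton_ext_one_of_lift hS' (CohCx.freeSheaf (Opens.grothendieckTopology Y) V) fun φ => ?_
  let c : T.X₃.obj.obj (op V) := secEquiv V T.X₃ (φ ≫ j)
  obtain ⟨ψ, hψ⟩ := exists_lift_of_subsingleton_ext_one hS _ ((secEquiv ((Opens.map f).obj V) (embedSeq F).X₃).symm c)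
  refine ⟨(secEquiv V S'.X₂).symm (secEquiv ((Opens.map f).obj V) (embedSeq F).X₂ ψ), ?_⟩
  rw [← cancel_mono j, Category.assoc]
  refine (secEquiv V T.X₃).injective ?_
  rw [show S'.g ≫ j = T.g from cokernel.π_desc _ _ _, secEquiv_comp, AddEquiv.apply_symm_apply]
  have key := congrArg (secEquiv ((Opens.map f).obj V) (embedSeq F).X₃) hψ
  rw [secEquiv_comp, AddEquiv.apply_symm_apply] at key
  exact key

/-- locally killed classes: vanishing downstairs gives vanishing upstairs -/
theorem subsingleton_hu_one_of_push (hk : LocKilled (Opens.grothendieckTopology Y) (Opens.map f) F 1)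
    (h : Subsingleton (CohSite.HU ((CohTop.push f).obj F) 1 V)) :
    Subsingleton (CohSite.HU F 1 ((Opens.map f).obj V)) := by
  have hS := embedSeq_shortExact F
  have hS' : ((embedSeq F).map (CohTop.push f)).ShortExact :=
    push_shortExact_of_epi (Opens.map f) hS (push_epi_of_locKilled (Opens.map f) hS hk)
  haveI : Subsingleton (Ext (CohCx.freeSheaf (Opens.grothendieckTopology X) ((Opens.map f).obj V)) (embedSeq F).X₂ 1) :=
    haveI := embedSeq_injective F
    subsingleton_ext_injective _ _ 0
  haveI : Subsingleton (Ext (CohCx.freeSheaf (Opens.grothendieckTopology Y) V)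
      ((embedSeq F).map (CohTop.push f)).X₁ 1) := h
  refine subsingleton_ext_one_of_lift hS _ fun φ => ?_
  let c : ((embedSeq F).map (CohTop.push f)).X₃.obj.obj (op V) := secEquiv _ (embedSeq F).X₃ φ
  obtain ⟨ψ, hψ⟩ := exists_lift_of_subsingleton_ext_one hS' _ ((secEquiv V _).symm c)
  refine ⟨(secEquiv ((Opens.map f).obj V) (embedSeq F).X₂).symm
    (secEquiv V ((embedSeq F).map (CohTop.push f)).X₂ ψ), (secEquiv _ _).injective ?_⟩
  rw [secEquiv_comp, AddEquiv.apply_symm_apply]
  have key := congrArg (secEquiv V ((embedSeq F).map (CohTop.push f)).X₃) hψ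
  rw [secEquiv_comp, AddEquiv.apply_symm_apply] at key
  exact key

/-- transport along an isomorphism of sheaves -/
theorem subsingleton_hu_of_iso {G G' : CohTop.Ab X} (e : G ≅ G') (n : ℕ) (U : Opens X)
    (h : Subsingleton (CohSite.HU G n U)) : Subsingleton (CohSite.HU G' n U) := by
  refine subsingleton_of_forall_eq 0 fun x => ?_
  have h1 : x = (x.comp (Ext.mk₀ e.inv) (add_zero n)).comp (Ext.mk₀ e.hom) (add_zero n) := by
    rw [Ext.comp_assoc _ _ _ (add_zero n) (add_zero 0) (by omega), Ext.mk₀_comp_mk₀, e.inv_hom_id, Ext.comp_mk₀_id]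
  rw [h1, @Subsingleton.elim _ h (x.comp (Ext.mk₀ e.inv) (add_zero n)) 0, Ext.zero_comp]

/-- local vanishing over a basis kills classes locally -/
theorem locKilled_one_of_cover
    (h : ∀ (y : Y) (V : Opens Y), y ∈ V → ∃ W : Opens Y, y ∈ W ∧ W ≤ V ∧
      Subsingleton (CohSite.HU F 1 ((Opens.map f).obj W))) :
    LocKilled (Opens.grothendieckTopology Y) (Opens.map f) F 1 := by
  intro V ξ
  let S : Sieve V :=
    { arrows := fun W g => (Ext.mk₀ (CohCx.freeSheafMap (Opens.grothendieckTopology X) ((Opens.map f).map g))).comp ξ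
        (zero_add 1) = 0
      downward_closed := fun {W W'} g hg k => by
        rw [Functor.map_comp, CohFree.freeSheafMap_comp, ← Ext.mk₀_comp_mk₀,
          Ext.comp_assoc _ _ _ (zero_add 0) (zero_add 1) (by omega), hg, Ext.comp_zero] }
  refine ⟨S, fun y hy => ?_, fun W g hg => hg⟩
  obtain ⟨W, hyW, hWV, hW⟩ := h y V hy
  exact ⟨W, homOfLE hWV, @Subsingleton.elim _ hW _ _, hyW⟩

end Top

section Scheme

variable {X Y : Scheme.{u}} (f : X ⟶ Y)

/-- the structure sheaf as the direct image when `f` induces bijections on sections -/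
def structurePushIso (hbij : ∀ V : Y.Opens, Function.Bijective (f.app V)) :
    Coh.toAb (Coh.structureModule Y) ≅ (CohTop.push f.base).obj (Coh.toAb (Coh.structureModule X)) :=
  (fullyFaithfulSheafToPresheaf _ _).preimageIso (NatIso.ofComponents
    (fun V => (AddEquiv.ofBijective (f.app V.unop).hom.toAddMonoidHom (hbij V.unop)).toAddCommGrpIso)
    (fun {V W} i => by
      refine AddCommGrpCat.ext fun (s : Γ(Y, V.unop)) => ?_
      exact ConcreteCategory.congr_hom (f.naturality i) s))

theorem subsingleton_h1_of_dominated (hbij : ∀ V : Y.Opens, Function.Bijective (f.app V))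
    (h : Subsingleton (Coh.HH X (Coh.structureModule X) 1)) : Subsingleton (Coh.HH Y (Coh.structureModule Y) 1) := by
  have h1 : Subsingleton (CohSite.HU (Coh.toAb (Coh.structureModule X)) 1 ((Opens.map f.base).obj ⊤)) :=
    (huTerminalEquiv (Opens.grothendieckTopology X) (T := (Opens.map f.base).obj ⊤) isTerminalTop
      (Coh.toAb (Coh.structureModule X)) 1).toEquiv.subsingleton_congr.1 h
  have h2 := subsingleton_hu_of_iso (structurePushIso f hbij).symm 1 ⊤ (subsingleton_hu_push_one f.base _ ⊤ h1)
  exact (huTerminalEquiv (Opens.grothendieckTopology Y) isTerminalTop (Coh.toAb (Coh.structureModule Y)) 1).toEquiv.subsingleton_congr.2 h2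

theorem subsingleton_h1_of_local (hbij : ∀ V : Y.Opens, Function.Bijective (f.app V))
    (hloc : ∀ (y : Y) (V : Y.Opens), y ∈ V → ∃ W : Y.Opens, y ∈ W ∧ W ≤ V ∧
      Subsingleton (CohSite.HU (Coh.toAb (Coh.structureModule X)) 1 (f ⁻¹ᵁ W)))
    (h : Subsingleton (Coh.HH Y (Coh.structureModule Y) 1)) : Subsingleton (Coh.HH X (Coh.structureModule X) 1) := by
  have h1 : Subsingleton (CohSite.HU (Coh.toAb (Coh.structureModule Y)) 1 (⊤ : Y.Opens)) :=
    (huTerminalEquiv (Opens.grothendieckTopology Y) isTerminalTop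
      (Coh.toAb (Coh.structureModule Y)) 1).toEquiv.subsingleton_congr.1 h
  have h2 := subsingleton_hu_one_of_push f.base _ ⊤ (locKilled_one_of_cover f.base _ hloc)
    (subsingleton_hu_of_iso (structurePushIso f hbij) 1 ⊤ h1)
  exact (huTerminalEquiv (Opens.grothendieckTopology X) (T := (Opens.map f.base).obj ⊤) isTerminalTop
    (Coh.toAb (Coh.structureModule X)) 1).toEquiv.subsingleton_congr.2 h2

end Scheme

end Groth.Agent.PtBlow
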