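import Groth.Agent.PtBlow.Negativity
import Groth.Agent.PtBlow.Universal
import Groth.Agent.PtBlow.Structure

/-!
An exceptional curve contracted to a normal surface stays exceptional, or becomes a point, under a contraction.
-/

set_option autoImplicit false
set_option backward.isDefEq.respectTransparency false
set_option backward.isDefEq.respectTransparency.types false
set_option linter.style.haveILetI false

universe u

open CategoryTheory CategoryTheory.Limits AlgebraicGeometry TopologicalSpace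

noncomputable section

namespace Groth.Agent.PtBlow

/-- The dimension does not grow along a birational morphism locally of finite type. -/
theorem dim_le_of_birational {X Y : Scheme.{u}} [IsIntegral X] [IsIntegral Y] [IsLocallyNoetherian Y] (f : X ⟶ Y)
    [LocallyOfFiniteType f] (hbir : ∃ V : Y.Opens, (V : Set Y).Nonempty ∧ IsIso (f ∣_ V)) {n : ℕ}
    (hY : topologicalKrullDim Y ≤ (n : WithBot ℕ∞)) : topologicalKrullDim X ≤ (n : WithBot ℕ∞) := by
  obtain ⟨V, hV, hVf⟩ := hbir
  refine Unibranch.topologicalKrullDim_le_natCast fun l c hc => ?_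
  let ζ : X := genericPoint X
  have hζη : f ζ = genericPoint Y := by
    obtain ⟨w, hw⟩ := (f ∣_ V).surjective ⟨_, ((genericPoint_spec Y).mem_open_set_iff V.2).2 (by simpa using hV)⟩
    have hw' : f w.1 = genericPoint Y := (morphismRestrict_base_coe f V w).symm.trans (congrArg Subtype.val hw)
    exact ((genericPoint_specializes _).antisymm (hw' ▸ (genericPoint_specializes w.1).map f.continuous)).eq.symm
  have hinj : ∀ x : X, f x = f ζ → x = ζ := fun x hx => by
    have hV' : f ζ ∈ V := hζη ▸ ((genericPoint_spec Y).mem_open_set_iff V.2).2 (by simpa using hV)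
    have := (f ∣_ V).isOpenEmbedding.injective (a₁ := ⟨x, show f x ∈ V from hx ▸ hV'⟩) (a₂ := ⟨ζ, hV'⟩)
      (Subtype.ext (by rw [morphismRestrict_base_coe, morphismRestrict_base_coe]; exact hx))
    exact congrArg Subtype.val this
  have hle := DimFormula.dimension_inequality f (ζ := ζ) (x := c (Fin.last l)) (genericPoint_specializes _)
    (a := l) (c := n) (d := 0) (e := 0) ⟨c, hc, genericPoint_specializes _, rfl⟩
    (fun m c' h1 _ _ => by
      have := (Unibranch.natCast_le_topologicalKrullDim c' h1).trans hY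
      exact_mod_cast this)
    ⟨fun _ => c (Fin.last l), fun _ => ⟨subset_closure rfl, rfl⟩, fun i => i.elim0⟩
    (fun m c' h1 h2 => by
      rcases m with _ | m
      · exact le_rfl
      exact absurd ((hinj _ (h1 _).2).trans (hinj _ (h1 _).2).symm) (h2 0).2)
  omega

theorem eq_of_specializes_of_dim_one {X : Scheme.{u}} [IsIntegral X] {a c : X}
    (ha : ringKrullDim (X.presheaf.stalk a) = 1) (hc : ringKrullDim (X.presheaf.stalk c) = 1) (h : a ⤳ c) :
    a = c := by
  by_contra hne
  have h1 := Order.coheight_add_one_le (GrpField.lt_of_specializes h hne)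
  rw [ringKrullDim_stalk_eq_coheight] at ha hc
  rw [WithBot.coe_inj.1 ha, WithBot.coe_inj.1 hc] at h1
  exact absurd h1 (by decide)

variable {W Z E : Scheme.{u}} [IsIntegral W] [IsNoetherian W] [IsIntegral Z] [IsNoetherian Z]
  {p : Z} {hp : IsRegPt Z p} {b : W ⟶ Z} (ι : E ⟶ W) [IsClosedImmersion ι] {k : Type u} [Field k]
  (e : CohB1.ProjSpace 1 k ≅ E) [IsIntegral (CohB1.ProjSpace 1 k)]

/-- the generic point of the curve on the blow-up -/
abbrev excGen : W := ι (e.hom (genericPoint (CohB1.ProjSpace 1 k)))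

theorem range_eq_closure : Set.range ι = closure {excGen ι e} := by
  refine subset_antisymm ?_ (ι.isClosedMap.isClosed_range.closure_subset_iff.2 (Set.singleton_subset_iff.2 ⟨_, rfl⟩))
  rintro _ ⟨z, rfl⟩
  obtain ⟨w, rfl⟩ := e.hom.surjective z
  exact specializes_iff_mem_closure.1 (((genericPoint_specializes w).map e.hom.continuous).map ι.continuous)

theorem dim_excGen (hE : BlowUp.IsEffCartierIdeal ι.ker) : ringKrullDim (W.presheaf.stalk (excGen ι e)) = 1 := by
  have hsupp : (ι.ker.support : Set W) = Set.range ι := by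
    rw [Scheme.Hom.support_ker, ι.isClosedMap.isClosed_range.closure_eq]
  refine Groth.Agent.S1568.result W ι.ker hE _ (hsupp.symm.subset ⟨_, rfl⟩) fun x hx hxg => ?_
  have hx' : excGen ι e ⤳ x := specializes_iff_mem_closure.2 ((range_eq_closure ι e).subset (hsupp.subset hx))
  exact (hxg.antisymm hx').eq

theorem le_ker_of_mem_support (J : W.IdealSheafData) (hJ : excGen ι e ∈ (J.support : Set W)) : J ≤ ι.ker := by
  haveI : IsReduced E := isReduced_of_isOpenImmersion e.inv
  rw [← Scheme.IdealSheafData.map_bot, Scheme.IdealSheafData.le_map_iff_comap_le]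
  have h : (J.comap ι).support = ⊤ := by
    refine SetLike.coe_injective (Set.eq_univ_of_forall fun z => ?_)
    rw [Scheme.IdealSheafData.support_comap]
    show ι z ∈ (J.support : Set W)
    refine closure_minimal (Set.singleton_subset_iff.2 hJ) J.support.isClosed ?_
    rw [← range_eq_closure ι e]; exact ⟨z, rfl⟩
  calc J.comap ι ≤ (J.comap ι).radical := (J.comap ι).le_radical
    _ = Scheme.IdealSheafData.vanishingIdeal (J.comap ι).support := Scheme.IdealSheafData.vanishingIdeal_support.symm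
    _ = ⊥ := by
      rw [h, ← Scheme.IdealSheafData.support_bot, Scheme.IdealSheafData.vanishingIdeal_support,
        Scheme.IdealSheafData.radical_bot, Scheme.nilradical_eq_bot]

variable (hb : BlowUp.IsBlowUp b (pt hp))

theorem excGen_ne (hne : Set.range ι ≠ b ⁻¹' {p}) (hbP : IsProper b) (hblow : BlowUp.IsBlowUp b (pt hp)) :
    b (excGen ι e) ≠ p := fun h => hne (range_eq_preimage hp hblow ι e fun z => by
  have hz : excGen ι e ⤳ ι z := specializes_iff_mem_closure.2 ((range_eq_closure ι e).subset ⟨z, rfl⟩)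
  have := (hz.map b.continuous).mem_closed hp.closed h
  exact this)

include hb in
/-- The pullback of the image curve is the curve plus a divisor supported on the exceptional fibre. -/
theorem exists_residual_curve (hZ : ∀ z : Z, IsRegularLocalRing (Z.presheaf.stalk z))
    (hE : BlowUp.IsEffCartierIdeal ι.ker) (hgp : b (excGen ι e) ≠ p) :
    ringKrullDim (Z.presheaf.stalk (b (excGen ι e))) = 1 ∧
      BlowUp.IsEffCartierIdeal (SurfAmple.curveOf (b (excGen ι e))) ∧
      ∃ J : W.IdealSheafData, BlowUp.IsEffCartierIdeal J ∧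
        J * ι.ker = (SurfAmple.curveOf (b (excGen ι e))).comap b ∧
        ∀ w ∈ (J.support : Set W), b w = p := by
  let ξ := b (excGen ι e)
  let U : Z.Opens := (pt hp).support.compl
  haveI hUiso : IsIso (b ∣_ U) := BlowUpLib.isIso_restrict hb
  have hξU : ξ ∈ U := by
    show ξ ∉ ((pt hp).support : Set Z)
    rw [coe_support_pt hp]; exact hgp
  haveI := BlowUpLib.isIso_stalkMap hb hξU
  have hdim : ringKrullDim (Z.presheaf.stalk ξ) = 1 := by
    rw [ringKrullDim_eq_of_ringEquiv (asIso (b.stalkMap (excGen ι e))).commRingCatIsoToRingEquiv]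
    exact dim_excGen ι e hE
  have hD : BlowUp.IsEffCartierIdeal (SurfAmple.curveOf ξ) := by
    refine Groth.Agent.S1684.result Z (SurfAmple.curveOf ξ) ?_ fun x _ => ?_
    · rw [SurfAmple.genericPoint_curveOf]; exact hdim
    · haveI := hZ x
      exact Groth.Agent.S2821.result _
  refine ⟨hdim, hD, ?_⟩
  let K := (SurfAmple.curveOf ξ).comap b
  have hK : BlowUp.IsEffCartierIdeal K := BlowUpLib.cartier_comap_blowUp hb hD
  have hgK : excGen ι e ∈ (K.support : Set W) := by
    show excGen ι e ∈ (((SurfAmple.curveOf ξ).comap b).support : Set W)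
    rw [Scheme.IdealSheafData.support_comap]
    show ξ ∈ ((SurfAmple.curveOf ξ).support : Set Z)
    rw [SurfAmple.support_curveOf]; exact subset_closure rfl
  obtain ⟨J, hJ⟩ := ModPairProd.exists_div hE (le_ker_of_mem_support ι e K hgK)
  refine ⟨J, BlowUpLib.cartier_of_mul_left (hJ ▸ hK), hJ, fun w hw => ?_⟩
  by_contra hwp
  let j := (b ⁻¹ᵁ U).ι
  -- off the exceptional fibre the pullback is the curve itself
  have hle : ι.ker.comap j ≤ K.comap j := by
    let J' := (ι.ker.comap j).comap (inv (b ∣_ U))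
    have hJ' : J'.comap (b ∣_ U) = ι.ker.comap j := by
      rw [← Scheme.IdealSheafData.comap_comp, IsIso.hom_inv_id, Scheme.IdealSheafData.comap_id]
    have hKj : K.comap j = ((SurfAmple.curveOf ξ).comap U.ι).comap (b ∣_ U) := by
      rw [← Scheme.IdealSheafData.comap_comp, ← Scheme.IdealSheafData.comap_comp]
      exact congrArg (SurfAmple.curveOf ξ).comap (morphismRestrict_ι b U).symm
    rw [← hJ', hKj]
    refine Scheme.IdealSheafData.comap_mono _ ?_
    refine (DivPart.comap_map_ι U J').symm.le.trans (Scheme.IdealSheafData.comap_mono _ ?_)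
    refine (Scheme.IdealSheafData.le_radical _).trans ?_
    rw [← Scheme.IdealSheafData.vanishingIdeal_support]
    refine Scheme.IdealSheafData.vanishingIdeal_antimono ?_
    show closure ({ξ} : Set Z) ⊆ _
    refine closure_minimal (Set.singleton_subset_iff.2 ?_) (Closeds.isClosed _)
    rw [Scheme.IdealSheafData.support_map]
    refine subset_closure ⟨(b ∣_ U) ⟨excGen ι e, hξU⟩, ?_, morphismRestrict_base_coe b U _⟩
    show _ ∈ (((ι.ker.comap j).comap (inv (b ∣_ U))).support : Set U)
    rw [Scheme.IdealSheafData.support_comap]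
    show inv (b ∣_ U) ((b ∣_ U) ⟨excGen ι e, hξU⟩) ∈ ((ι.ker.comap j).support : Set _)
    rw [← Scheme.Hom.comp_apply, IsIso.hom_inv_id, Scheme.IdealSheafData.support_comap]
    show excGen ι e ∈ (ι.ker.support : Set W)
    rw [Scheme.Hom.support_ker]
    exact subset_closure ⟨_, rfl⟩
  have heq : J.comap j * ι.ker.comap j = ⊤ * ι.ker.comap j := by
    rw [← BlowUpLib.comap_mul, hJ, ← Scheme.IdealSheafData.one_eq_top, one_mul]
    exact le_antisymm (Scheme.IdealSheafData.comap_mono _ (le_ker_of_mem_support ι e K hgK)) hle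
  have htop := ModPairProd.mul_cancel (BlowUpLib.cartier_comap_flat hE j) heq
  have hwU : w ∈ b ⁻¹ᵁ U := by
    show b w ∉ ((pt hp).support : Set Z)
    rw [coe_support_pt hp]; exact hwp
  have hmem : (⟨w, hwU⟩ : (b ⁻¹ᵁ U : Scheme.{u})) ∈ ((J.comap j).support : Set (b ⁻¹ᵁ U : Scheme.{u})) := by
    rw [Scheme.IdealSheafData.support_comap]; exact hw
  rw [htop, Scheme.IdealSheafData.support_top] at hmem
  exact hmem

include hb in
/-- An exceptional curve contracted in the normal surface does not meet another exceptional fibre. -/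
theorem ne_of_contracted {Y : Scheme.{u}} [IsIntegral Y] [IsNoetherian Y] (π : Z ⟶ Y) [IsProper π]
    (hZ : ∀ z : Z, IsRegularLocalRing (Z.presheaf.stalk z)) (hY : Pi1.IsNormalScheme Y)
    (hdY : topologicalKrullDim Y ≤ 2) (hbir : ∃ V : Y.Opens, (V : Set Y).Nonempty ∧ IsIso (π ∣_ V))
    (hbP : IsProper b) (hE : BlowUp.IsEffCartierIdeal ι.ker)
    (hconormal : Nonempty ((Scheme.Modules.pullback (e.hom ≫ ι)).obj (ClSub.idealMod ι.ker) ≅ Twist.twistProjSpace 1 k 1))
    (hne : Set.range ι ≠ b ⁻¹' {p}) {y : Y} (hy : ∀ z, π (b (ι z)) = y) : ∀ z, b (ι z) ≠ p := by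
  intro z₀ hz₀
  have hgp := excGen_ne ι e hne hbP hb
  obtain ⟨hdim, hD, J, hJC, hJ, hJsupp⟩ := exists_residual_curve ι e hb hZ hE hgp
  let g₀ := e.hom ≫ ι
  let g := g₀ ≫ b
  obtain ⟨w₀, rfl⟩ := e.hom.surjective z₀
  have hcl : IsClosed (Set.range g) := by
    haveI := ProjMor.isProper_toSpec (n := 1) (R := k)
    have : Set.range g = b '' Set.range ι := by
      ext x
      constructor
      · rintro ⟨w, rfl⟩; exact ⟨ι (e.hom w), ⟨_, rfl⟩, rfl⟩
      · rintro ⟨_, ⟨z, rfl⟩, rfl⟩
        obtain ⟨w, rfl⟩ := e.hom.surjective z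
        exact ⟨w, rfl⟩
    rw [this]
    exact b.isClosedMap _ ι.isClosedMap.isClosed_range
  obtain ⟨d, hd, ⟨ed⟩⟩ := pos_of_contracted π hZ hY hdY hbir g hcl (y := y) (fun w => hy (e.hom w))
    ⟨w₀, fun h => hgp (h.symm.trans hz₀)⟩ hdim
  -- the residual divisor passes through the point over `p`
  have hx₀ : ι (e.hom w₀) ∈ (J.support : Set W) := by
    by_contra hx
    obtain ⟨k₀, _, ι₀, _, hExc, -, hker₀, hr₀⟩ := exists_contraction' hp hb
    haveI : IsIntegral (CohB1.ProjSpace 1 k₀) := Horrocks.isIntegral_projSpace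
    let ζ := excGen ι₀ (Iso.refl (CohB1.ProjSpace 1 k₀))
    have hζ : ζ ⤳ ι (e.hom w₀) :=
      specializes_iff_mem_closure.2 ((range_eq_closure ι₀ (Iso.refl _)).subset (hr₀.symm.subset hz₀))
    have hζJ : ζ ∉ (J.support : Set W) := fun h => hx (hζ.mem_closed J.support.isClosed h)
    have hζp : b ζ = p := hr₀.subset ⟨_, rfl⟩
    have hpD : p ∈ ((SurfAmple.curveOf (b (excGen ι e))).support : Set Z) := by
      rw [SurfAmple.support_curveOf, ← hz₀]
      exact specializes_iff_mem_closure.1
        ((((genericPoint_specializes w₀).map e.hom.continuous).map ι.continuous).map b.continuous)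
    have hζK : ζ ∈ (((SurfAmple.curveOf (b (excGen ι e))).comap b).support : Set W) := by
      rw [Scheme.IdealSheafData.support_comap]
      show b ζ ∈ ((SurfAmple.curveOf (b (excGen ι e))).support : Set Z)
      rw [hζp]; exact hpD
    rw [← hJ, Scheme.IdealSheafData.support_mul] at hζK
    rcases hζK with h | h
    · exact hζJ h
    rw [SetLike.mem_coe, ← SetLike.mem_coe, Scheme.Hom.support_ker, ι.isClosedMap.isClosed_range.closure_eq,
      range_eq_closure ι e] at h
    have := eq_of_specializes_of_dim_one (dim_excGen ι e hE) (dim_excGen ι₀ (Iso.refl _) hExc.1)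
      (specializes_iff_mem_closure.2 h)
    exact hgp ((congrArg b this).trans hζp)
  have hgJ : g₀ (genericPoint (CohB1.ProjSpace 1 k)) ∉ (J.support : Set W) := fun h => hgp (hJsupp _ h)
  have hAC : BlowUp.IsEffCartierIdeal (J.comap g₀) := cartier_comap_generic g₀ hJC hgJ
  obtain ⟨m, ⟨em⟩⟩ := PicPn.exists_iso_any (ClSub.idealMod (J.comap g₀)) ((Groth.Agent.S8914.result _).2 hAC)
  have hm : m < 0 := Line.neg_of_idealMod_iso hAC ⟨w₀, by
    rw [Scheme.IdealSheafData.support_comap]; exact hx₀⟩ ⟨em⟩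
  obtain ⟨μ⟩ := Nakai.nonempty_idealMod_mul hJC hE
  obtain ⟨q⟩ := TMul.nonempty_pullTensorIso g₀ (ClSub.idealMod J) (ClSub.idealMod ι.ker)
  obtain ⟨eJ⟩ := Nakai.nonempty_pullback_idealMod g₀ hJC hAC
  obtain ⟨eb⟩ := Nakai.nonempty_pullback_idealMod b hD (BlowUpLib.cartier_comap_blowUp hb hD)
  obtain ⟨t⟩ := Line.tensor_twist (k := k) m 1 (m + 1) rfl
  have key : Twist.twistProjSpace 1 k d ≅ Twist.twistProjSpace 1 k (m + 1) :=
    ed.symm ≪≫ ((Scheme.Modules.pullbackComp g₀ b).app _).symm ≪≫
      (Scheme.Modules.pullback g₀).mapIso (eb ≪≫ eqToIso (congrArg ClSub.idealMod hJ.symm) ≪≫ μ.symm) ≪≫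
      q.symm ≪≫ PicGrp.tensorModIso (eJ ≪≫ em) hconormal.some ≪≫ t
  have := Line.eq_of_iso key
  omega

include hb in
/-- An exceptional curve away from the exceptional fibre maps to an exceptional curve. -/
theorem isExcCurve_comp (hZ : ∀ z : Z, IsRegularLocalRing (Z.presheaf.stalk z)) (hbP : IsProper b)
    (hE : BlowUp.IsEffCartierIdeal ι.ker)
    (hconormal : Nonempty ((Scheme.Modules.pullback (e.hom ≫ ι)).obj (ClSub.idealMod ι.ker) ≅ Twist.twistProjSpace 1 k 1))
    (hoff : ∀ z, b (ι z) ≠ p) : IsClosedImmersion (ι ≫ b) ∧ Models.IsExcCurve (ι ≫ b) := by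
  let U : Z.Opens := (pt hp).support.compl
  haveI : IsIso (b ∣_ U) := BlowUpLib.isIso_restrict hb
  have hr : Set.range ι ⊆ Set.range (b ⁻¹ᵁ U).ι := by
    rw [Scheme.Opens.range_ι]
    rintro _ ⟨z, rfl⟩
    show b (ι z) ∉ ((pt hp).support : Set Z)
    rw [coe_support_pt hp]; exact hoff z
  let l := IsOpenImmersion.lift (b ⁻¹ᵁ U).ι ι hr
  have hl : l ≫ (b ⁻¹ᵁ U).ι = ι := IsOpenImmersion.lift_fac _ _ _
  haveI : IsPreimmersion (l ≫ (b ⁻¹ᵁ U).ι) := by rw [hl]; infer_instance
  haveI : IsPreimmersion l := IsPreimmersion.of_comp l (b ⁻¹ᵁ U).ι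
  have hcomp : ι ≫ b = l ≫ b ∣_ U ≫ U.ι := by
    rw [morphismRestrict_ι, reassoc_of% hl]
  haveI : IsPreimmersion (ι ≫ b) := by rw [hcomp]; infer_instance
  haveI : IsProper (ι ≫ b) := inferInstance
  haveI hci : IsClosedImmersion (ι ≫ b) :=
    IsClosedImmersion.of_isPreimmersion _ (ι ≫ b).isClosedMap.isClosed_range
  obtain ⟨-, hD, J, hJC, hJ, hJsupp⟩ := exists_residual_curve ι e hb hZ hE (hoff _)
  let ξ := b (excGen ι e)
  have hker : (ι ≫ b).ker = SurfAmple.curveOf ξ := by
    refine le_antisymm ?_ ?_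
    · refine (Scheme.IdealSheafData.le_radical _).trans ?_
      rw [← Scheme.IdealSheafData.vanishingIdeal_support]
      refine Scheme.IdealSheafData.vanishingIdeal_antimono ?_
      show closure ({ξ} : Set Z) ⊆ _
      rw [Scheme.Hom.support_ker]
      exact closure_mono (Set.singleton_subset_iff.2 ⟨e.hom (genericPoint _), rfl⟩)
    · refine le_ker_of_mem_support (ι ≫ b) e _ ?_
      show ξ ∈ ((SurfAmple.curveOf ξ).support : Set Z)
      rw [SurfAmple.support_curveOf]; exact subset_closure rfl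
  have hJtop : J = ⊤ := by
    refine (Scheme.IdealSheafData.support_eq_bot_iff _).1 (SetLike.coe_injective (Set.eq_empty_of_forall_notMem fun w hw => ?_))
    have hwK : w ∈ (((SurfAmple.curveOf ξ).comap b).support : Set W) := by
      rw [← hJ, Scheme.IdealSheafData.support_mul]; exact Or.inl hw
    rw [Scheme.IdealSheafData.support_comap] at hwK
    have h' : b w ∈ ((SurfAmple.curveOf ξ).support : Set Z) := hwK
    rw [hJsupp w hw, ← hker, Scheme.Hom.support_ker, (ι ≫ b).isClosedMap.isClosed_range.closure_eq] at h'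
    obtain ⟨z, hz⟩ := h'
    exact hoff z hz
  rw [hJtop, ← Scheme.IdealSheafData.one_eq_top, one_mul] at hJ
  obtain ⟨eb⟩ := Nakai.nonempty_pullback_idealMod b hD (BlowUpLib.cartier_comap_blowUp hb hD)
  refine ⟨hci, hker ▸ hD, k, inferInstance, e, ⟨?_⟩⟩
  exact (Scheme.Modules.pullback (e.hom ≫ ι ≫ b)).mapIso (eqToIso (congrArg ClSub.idealMod hker)) ≪≫
    (Scheme.Modules.pullbackCongr (Category.assoc e.hom ι b).symm).app _ ≪≫
    ((Scheme.Modules.pullbackComp (e.hom ≫ ι) b).app _).symm ≪≫
    (Scheme.Modules.pullback (e.hom ≫ ι)).mapIso (eb ≪≫ eqToIso (congrArg ClSub.idealMod hJ.symm)) ≪≫ hconormal.some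

end Groth.Agent.PtBlow
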