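import Groth.Agent.PtBlow.ExcDescend
import Groth.Agent.PtBlow.RatMap
import Mathlib.AlgebraicGeometry.Morphisms.Separated

/-!
A desingularization of a normal surface without contracted exceptional curves is minimal.
-/

set_option autoImplicit false
set_option backward.isDefEq.respectTransparency false
set_option backward.isDefEq.respectTransparency.types false
set_option linter.style.haveILetI false

universe u

open CategoryTheory CategoryTheory.Limits AlgebraicGeometry TopologicalSpace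

noncomputable section

namespace Groth.Agent.PtBlow

/-- Regular integral noetherian surfaces pull back along contraction sequences. -/
theorem props_of_contractionSeq {W X : Scheme.{u}} {q : W ⟶ X} (hq : Models.IsContractionSeq q) :
    ∀ [IsIntegral X] [IsNoetherian X], (∀ x : X, IsRegularLocalRing (X.presheaf.stalk x)) →
    IsIntegral W ∧ IsNoetherian W ∧ (∀ w : W, IsRegularLocalRing (W.presheaf.stalk w)) ∧ IsProper q ∧
      ∃ V : X.Opens, (V : Set X).Nonempty ∧ IsIso (q ∣_ V) := by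
  induction hq with
  | @iso W X e =>
    intro _ _ hX
    haveI : Nonempty W := ⟨e.inv (genericPoint X)⟩
    haveI : IsIntegral W := isIntegral_of_isOpenImmersion e.hom
    haveI : IsLocallyNoetherian W := isLocallyNoetherian_of_isOpenImmersion e.hom
    haveI : CompactSpace W := e.inv.homeomorph.compactSpace
    refine ⟨inferInstance, {}, fun w => ?_, inferInstance, ⊤, ⟨genericPoint X, trivial⟩, inferInstance⟩
    haveI := hX (e.hom w)
    exact IsRegularLocalRing.of_ringEquiv (asIso (e.hom.stalkMap w)).commRingCatIsoToRingEquiv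
  | @step W Z X E ι b r hι hE hb hr ih =>
    intro _ _ hX
    obtain ⟨hZi, hZN, hZr, hrp, V, hV, hVr⟩ := ih hX
    haveI := hZi
    haveI := hZN
    haveI := hrp
    obtain ⟨-, hbp, p, hp, -, hreg, hdim, hbl⟩ := hb
    haveI := hbp
    have hp' : IsRegPt Z p := ⟨hp, hreg, hdim⟩
    refine ⟨W7Fib.isIntegral_blowUp (pt_ne_bot hp') hbl, isNoetherian_blowUp hp' hbl, isRegular_blowUp hp' hbl hZr,
      inferInstance, ?_⟩
    let V' : X.Opens := V ⊓ ⟨({r p} : Set X)ᶜ, (by
      have := r.isClosedMap _ hp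
      rwa [Set.image_singleton] at this : IsClosed ({r p} : Set X)).isOpen_compl⟩
    refine ⟨V', ⟨genericPoint X, ((genericPoint_spec X).mem_open_set_iff V.2).2 (by simpa using hV), ?_⟩, ?_⟩
    · intro h
      have h2 : r p = genericPoint X := (Set.mem_singleton_iff.1 h).symm
      have hVp : r p ∈ V := h2 ▸ ((genericPoint_spec X).mem_open_set_iff V.2).2 (by simpa using hV)
      haveI := hVr
      obtain ⟨z, hz⟩ := (r ∣_ V).surjective ⟨_, ((genericPoint_spec X).mem_open_set_iff V.2).2 (by simpa using hV)⟩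
      have hz' : r z.1 = genericPoint X := (morphismRestrict_base_coe r V z).symm.trans (congrArg Subtype.val hz)
      have hη : r (genericPoint Z) = genericPoint X :=
        ((genericPoint_specializes _).antisymm (hz' ▸ (genericPoint_specializes z.1).map r.continuous)).eq.symm
      have := (r ∣_ V).isOpenEmbedding.injective (a₁ := ⟨p, hVp⟩)
        (a₂ := ⟨genericPoint Z, show r (genericPoint Z) ∈ V from hη ▸ h2 ▸ hVp⟩)
        (Subtype.ext (by rw [morphismRestrict_base_coe, morphismRestrict_base_coe]; exact h2.trans hη.symm))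
      exact genericPoint_ne hp' (congrArg Subtype.val this).symm
    · haveI : IsIso (r ∣_ V') := isIso_restrict_le r (V := V) inf_le_left hVr
      haveI : IsIso (b ∣_ r ⁻¹ᵁ V') := isIso_restrict_le b (V := (pt hp').support.compl) (fun z hz => by
        show z ∉ ((pt hp').support : Set Z)
        rw [coe_support_pt hp']
        intro h
        exact hz.2 (congrArg r (Set.mem_singleton_iff.1 h))) (BlowUpLib.isIso_restrict hbl)
      rw [morphismRestrict_comp]
      infer_instance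

/-- An exceptional curve contracted in the normal surface is contracted by every contraction sequence
to a desingularization without such curves. -/
theorem const_of_exc {Y : Scheme.{u}} [IsIntegral Y] [IsNoetherian Y] (hY : Pi1.IsNormalScheme Y)
    (hdY : topologicalKrullDim Y ≤ 2) {W X : Scheme.{u}} {q : W ⟶ X} (hq : Models.IsContractionSeq q) :
    ∀ [IsIntegral X] [IsNoetherian X] (π : X ⟶ Y) [IsProper π],
      (∀ x : X, IsRegularLocalRing (X.presheaf.stalk x)) →
      (∀ (U : Y.Opens), (U : Set Y).Nonempty → IsIso (π ∣_ U) →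
        (∀ (E : Scheme.{u}) (ι : E ⟶ X) [IsClosedImmersion ι], Models.IsExcCurve ι →
          ¬ ∃ y : Y, Set.range ((ι ≫ π).base : E → Y) = {y}) →
        ∀ {E : Scheme.{u}} (ι : E ⟶ W) [IsClosedImmersion ι], Models.IsExcCurve ι →
          ∀ y : Y, Set.range ((ι ≫ q ≫ π).base : E → Y) = {y} → ∃ x : X, Set.range ((ι ≫ q).base : E → X) = {x}) := by
  induction hq with
  | @iso W X e =>
    intro _ _ π _ hX U hU hUi hexc E ι _ hE y hy
    exfalso
    obtain ⟨hC, k, _, e', ⟨hcon⟩⟩ := hE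
    haveI : IsClosedImmersion (ι ≫ e.hom) := inferInstance
    have hk₀ : (ι ≫ e.hom).ker = ι.ker.comap e.inv := AlmostBlow.ker_of_isPullback
      (IsPullback.of_horiz_isIso ⟨by simp⟩ : IsPullback (𝟙 E) (ι ≫ e.hom) ι e.inv)
    obtain ⟨θ⟩ := Nakai.nonempty_pullback_idealMod e.inv hC (BlowUpLib.cartier_comap_flat hC _)
    refine hexc E (ι ≫ e.hom) ⟨?_, k, inferInstance, e', ⟨?_⟩⟩ ⟨y, by rw [Category.assoc]; exact hy⟩
    · have hk : (ι ≫ e.hom).ker = ι.ker.comap e.inv := AlmostBlow.ker_of_isPullback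
        (IsPullback.of_horiz_isIso ⟨by simp⟩ : IsPullback (𝟙 E) (ι ≫ e.hom) ι e.inv)
      rw [hk]
      exact BlowUpLib.cartier_comap_flat hC _
    · have hk : (ι ≫ e.hom).ker = ι.ker.comap e.inv := AlmostBlow.ker_of_isPullback
        (IsPullback.of_horiz_isIso ⟨by simp⟩ : IsPullback (𝟙 E) (ι ≫ e.hom) ι e.inv)
      exact (Scheme.Modules.pullback _).mapIso (eqToIso (congrArg ClSub.idealMod hk) ≪≫ θ.symm) ≪≫
        (Scheme.Modules.pullbackComp _ _).app _ ≪≫ (Scheme.Modules.pullbackCongr (by simp)).app _ ≪≫ hcon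
  | @step W Z X E₀ ι₀ b r hι₀ hE₀ hb hr ih =>
    intro _ _ π _ hX U hU hUi hexc E ι _ hE y hy
    obtain ⟨hZi, hZN, hZr, hrp, V, hV, hVr⟩ := props_of_contractionSeq hr hX
    haveI := hZi
    haveI := hZN
    haveI := hrp
    obtain ⟨-, hbp, p, hp, hp₀, hreg, hdim, hbl⟩ := hb
    haveI := hbp
    have hp' : IsRegPt Z p := ⟨hp, hreg, hdim⟩
    haveI := isNoetherian_blowUp hp' hbl
    haveI := W7Fib.isIntegral_blowUp (pt_ne_bot hp') hbl
    obtain ⟨hC, k, _, e, hcon⟩ := hE
    haveI : IsIntegral (CohB1.ProjSpace 1 k) := Horrocks.isIntegral_projSpace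
    by_cases hfib : Set.range ι = b ⁻¹' {p}
    · refine ⟨r p, Set.eq_singleton_iff_unique_mem.2 ⟨?_, ?_⟩⟩
      · refine ⟨e.hom (genericPoint _), ?_⟩
        show r (b (ι (e.hom (genericPoint _)))) = r p
        rw [show b (ι (e.hom (genericPoint _))) = p from hfib.subset ⟨_, rfl⟩]
      · rintro _ ⟨z, rfl⟩
        show r (b (ι z)) = r p
        rw [show b (ι z) = p from hfib.subset ⟨_, rfl⟩]
    have hbir : ∃ V' : Y.Opens, (V' : Set Y).Nonempty ∧ IsIso ((r ≫ π) ∣_ V') := by
      haveI := hUi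
      haveI := hVr
      have hηU : genericPoint Y ∈ U := ((genericPoint_spec Y).mem_open_set_iff U.2).2 (by simpa using hU)
      refine ⟨U ⊓ ⟨(π '' (V : Set X)ᶜ)ᶜ, (π.isClosedMap _ V.2.isClosed_compl).isOpen_compl⟩,
        ⟨genericPoint Y, hηU, ?_⟩, ?_⟩
      · rintro ⟨x, hx, hxη⟩
        refine hx ?_
        have hπη : π (genericPoint X) = genericPoint Y := by
          obtain ⟨w, hw⟩ := (π ∣_ U).surjective ⟨_, hηU⟩
          have hw' : π w.1 = genericPoint Y := (morphismRestrict_base_coe π U w).symm.trans (congrArg Subtype.val hw)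
          exact ((genericPoint_specializes _).antisymm (hw' ▸ (genericPoint_specializes w.1).map π.continuous)).eq.symm
        have := (π ∣_ U).isOpenEmbedding.injective (a₁ := ⟨x, show π x ∈ U from hxη ▸ hηU⟩)
          (a₂ := ⟨genericPoint X, show π (genericPoint X) ∈ U from hπη ▸ hηU⟩)
          (Subtype.ext (by rw [morphismRestrict_base_coe, morphismRestrict_base_coe]; exact hxη.trans hπη.symm))
        rw [show x = _ from congrArg Subtype.val this]
        exact ((genericPoint_spec X).mem_open_set_iff V.2).2 (by simpa using hV)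
      · rw [morphismRestrict_comp]
        haveI := isIso_restrict_le π (V := U)
          (inf_le_left : U ⊓ ⟨(π '' (V : Set X)ᶜ)ᶜ, (π.isClosedMap _ V.2.isClosed_compl).isOpen_compl⟩ ≤ U) hUi
        haveI := isIso_restrict_le r (V := V) (V' := π ⁻¹ᵁ (U ⊓
          ⟨(π '' (V : Set X)ᶜ)ᶜ, (π.isClosedMap _ V.2.isClosed_compl).isOpen_compl⟩))
          (fun x hx => by_contra fun h => hx.2 ⟨x, h, rfl⟩) hVr
        infer_instance
    have hy' : ∀ z, (r ≫ π) (b (ι z)) = y := fun z => hy.subset ⟨z, rfl⟩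
    have hoff := ne_of_contracted (hp := hp') ι e hbl (r ≫ π) hZr hY hdY hbir hbp hC hcon hfib hy'
    obtain ⟨hci, hexc'⟩ := isExcCurve_comp (hp := hp') ι e hbl hZr hbp hC hcon hoff
    haveI := hci
    obtain ⟨x, hx⟩ := ih π hX U hU hUi hexc (ι ≫ b) hexc' y (by simpa only [Category.assoc] using hy)
    exact ⟨x, by simpa only [Category.assoc] using hx⟩

/-- Descending a morphism along a contraction sequence. -/
theorem exists_desc_of_seq {Y X : Scheme.{u}} [IsIntegral Y] [IsNoetherian Y] (hY : Pi1.IsNormalScheme Y)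
    (hdY : topologicalKrullDim Y ≤ 2) [IsIntegral X] [IsNoetherian X] (g : X ⟶ Y) [IsProper g]
    (hX : ∀ x : X, IsRegularLocalRing (X.presheaf.stalk x)) (hdX : topologicalKrullDim X ≤ 2)
    (U : Y.Opens) (hU : (U : Set Y).Nonempty) (hgU : IsIso (g ∣_ U))
    (hexc : ∀ (E : Scheme.{u}) (ι : E ⟶ X) [IsClosedImmersion ι], Models.IsExcCurve ι →
      ¬ ∃ y : Y, Set.range ((ι ≫ g).base : E → Y) = {y})
    {W X' : Scheme.{u}} {p : W ⟶ X'} (hp : Models.IsContractionSeq p) :
    ∀ [IsIntegral X'] [IsNoetherian X'] (g' : X' ⟶ Y) [IsProper g'],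
      (∀ x : X', IsRegularLocalRing (X'.presheaf.stalk x)) → IsIso ((p ≫ g') ∣_ U) → topologicalKrullDim X' ≤ 2 →
      ∀ (q : W ⟶ X), q ≫ g = p ≫ g' → ∃ h : X' ⟶ X, p ≫ h = q ∧ h ≫ g = g' := by
  induction hp with
  | @iso W X' e =>
    intro _ _ g' _ _ _ _ q hq
    exact ⟨e.inv ≫ q, by simp, by rw [Category.assoc, hq, Iso.inv_hom_id_assoc]⟩
  | @step W Z X' E ι b r hι hE hb hr ih =>
    intro _ _ g' _ hX' hiso hdX' q hq
    obtain ⟨hZi, hZN, hZr, hrp, hrbir⟩ := props_of_contractionSeq hr hX'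
    haveI := hZi
    haveI := hZN
    haveI := hrp
    have hb₀ := hb
    obtain ⟨-, hbp, z, hz, hz₀, hreg, hdim, hbl⟩ := hb₀
    haveI := hbp
    have hz' : IsRegPt Z z := ⟨hz, hreg, hdim⟩
    haveI := isNoetherian_blowUp hz' hbl
    haveI := W7Fib.isIntegral_blowUp (pt_ne_bot hz') hbl
    have hWr := isRegular_blowUp hz' hbl hZr
    haveI := hgU
    haveI := hiso
    haveI : IsProper (q ≫ g) := hq ▸ inferInstance
    haveI : IsProper q := IsProper.of_comp q g
    have hdZ : topologicalKrullDim Z ≤ 2 := dim_le_of_birational r hrbir hdX'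
    have hqU : IsIso (q ∣_ g ⁻¹ᵁ U) := isIso_restrict_left hq U hiso hgU
    have hηz : genericPoint Z ≠ z := genericPoint_ne hz'
    have hdW : topologicalKrullDim W ≤ 2 := dim_le_of_birational b
      ⟨(pt hz').support.compl, ⟨genericPoint Z, by
        show genericPoint Z ∉ ((pt hz').support : Set Z)
        rw [coe_support_pt hz']; exact hηz⟩, BlowUpLib.isIso_restrict hbl⟩ hdZ
    have hqseq : Models.IsContractionSeq q := isContractionSeq_of_birational q hWr hdW hX hdX
      ⟨g ⁻¹ᵁ U, nonempty_preimage hU hgU, hqU⟩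
    obtain ⟨k, _, e, -⟩ := hE.2
    haveI : IsIntegral (CohB1.ProjSpace 1 k) := Horrocks.isIntegral_projSpace
    have hrange : Set.range ((ι ≫ q ≫ g).base : E → Y) = {g' (r z)} := by
      have hq' : ι ≫ q ≫ g = ι ≫ b ≫ r ≫ g' := by rw [hq, Category.assoc]
      rw [hq']
      refine Set.eq_singleton_iff_unique_mem.2 ⟨⟨e.hom (genericPoint _), ?_⟩, ?_⟩
      · show g' (r ((ι ≫ b) (e.hom (genericPoint _)))) = _
        rw [show (ι ≫ b) (e.hom (genericPoint _)) = z from hz₀.subset ⟨_, rfl⟩]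
      · rintro _ ⟨w, rfl⟩
        show g' (r ((ι ≫ b) w)) = _
        rw [show (ι ≫ b) w = z from hz₀.subset ⟨_, rfl⟩]
    obtain ⟨x, hx⟩ := const_of_exc hY hdY hqseq g hX U hU hgU hexc ι hE _ hrange
    obtain ⟨q', hq', -⟩ := existsUnique_desc ι hE b hb q x hx
    have hq'' : q' ≫ g = r ≫ g' := epi_blowUp hz' hbl (by rw [reassoc_of% hq', hq, Category.assoc])
    have hzU : z ∉ (r ≫ g') ⁻¹ᵁ U := by
      intro hzU
      let a : W := ι (e.hom (genericPoint (CohB1.ProjSpace 1 k)))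
      obtain ⟨k₀, _, ι₀, _, -, -, -, hr₀⟩ := exists_contraction' hz' hbl
      have hfib : Set.range ι = b ⁻¹' {z} := range_eq_preimage hz' hbl ι e fun w => hz₀.subset ⟨w, rfl⟩
      have hall : ∀ w : W, b w = z → w = a := fun w hw => by
        have hb1 : b a = z := hz₀.subset ⟨_, rfl⟩
        have hU' : ∀ v : W, b v = z → ((b ≫ r) ≫ g') v ∈ U := fun v hv => by
          show g' (r (b v)) ∈ U
          rw [hv]; exact hzU
        have := (((b ≫ r) ≫ g') ∣_ U).isOpenEmbedding.injective (a₁ := ⟨w, hU' w hw⟩) (a₂ := ⟨a, hU' a hb1⟩)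
          (Subtype.ext (by
            rw [morphismRestrict_base_coe, morphismRestrict_base_coe]
            show g' (r (b w)) = g' (r (b a))
            rw [hw, hb1]))
        exact congrArg Subtype.val this
      haveI : Subsingleton (CohB1.ProjSpace 1 k) := ⟨fun s t => e.hom.isOpenEmbedding.injective
        (ι.isClosedEmbedding.injective ((hall _ (hfib.subset ⟨_, rfl⟩)).trans (hall _ (hfib.subset ⟨_, rfl⟩)).symm))⟩
      refine ProjMor.not_isAffine_projLine k ?_
      obtain ⟨O, hO, hgO, -⟩ := exists_isAffineOpen_mem_and_subset (x := genericPoint (CohB1.ProjSpace 1 k)) (U := ⊤) trivial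
      have : O = ⊤ := eq_top_iff.2 fun t _ => Subsingleton.elim (genericPoint _) t ▸ hgO
      haveI : IsAffine ((⊤ : (CohB1.ProjSpace 1 k).Opens) : Scheme.{u}) := this ▸ hO
      exact IsAffine.of_isIso (CohB1.ProjSpace 1 k).topIso.inv
    have hrU : IsIso ((r ≫ g') ∣_ U) := by
      haveI hbU : IsIso (b ∣_ (r ≫ g') ⁻¹ᵁ U) := isIso_restrict_le b (V := (pt hz').support.compl)
        (fun v hv => by
          show v ∉ ((pt hz').support : Set Z)
          rw [coe_support_pt hz']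
          intro h
          exact hzU (Set.mem_singleton_iff.1 h ▸ hv)) (BlowUpLib.isIso_restrict hbl)
      have h1 : IsIso ((b ≫ r ≫ g') ∣_ U) := by
        rw [← Category.assoc]; exact hiso
      rw [morphismRestrict_comp] at h1
      exact @IsIso.of_isIso_comp_left _ _ _ _ _ (b ∣_ (r ≫ g') ⁻¹ᵁ U) _ hbU h1
    obtain ⟨h, hh, hh'⟩ := ih g' hX' hrU hdX' q' hq''
    exact ⟨h, by rw [Category.assoc, hh, hq'], hh'⟩

/-- **Minimality.** A desingularization of a normal surface without contracted exceptional curves is minimal. -/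
theorem existsUnique_hom_of_no_exc {Y X X' : Scheme.{u}} [IsIntegral Y] [IsNoetherian Y]
    (hY : Pi1.IsNormalScheme Y) (hdY : topologicalKrullDim Y ≤ 2)
    [IsIntegral X] [IsNoetherian X] (g : X ⟶ Y) [IsProper g]
    (hX : ∀ x : X, IsRegularLocalRing (X.presheaf.stalk x)) (hdX : topologicalKrullDim X ≤ 2)
    (hbir : ∃ U : Y.Opens, (U : Set Y).Nonempty ∧ IsIso (g ∣_ U))
    (hexc : ∀ (E : Scheme.{u}) (ι : E ⟶ X) [IsClosedImmersion ι], Models.IsExcCurve ι →
      ¬ ∃ y : Y, Set.range ((ι ≫ g).base : E → Y) = {y})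
    [IsIntegral X'] [IsNoetherian X'] (g' : X' ⟶ Y) [IsProper g']
    (hX' : ∀ x : X', IsRegularLocalRing (X'.presheaf.stalk x)) (hdX' : topologicalKrullDim X' ≤ 2)
    (hbir' : ∃ U : Y.Opens, (U : Set Y).Nonempty ∧ IsIso (g' ∣_ U)) :
    ∃! h : X' ⟶ X, h ≫ g = g' := by
  obtain ⟨U₁, hU₁, hg₁⟩ := hbir
  obtain ⟨U₂, hU₂, hg₂⟩ := hbir'
  let U₀ := U₁ ⊓ U₂
  have hη₁ : genericPoint Y ∈ U₁ := ((genericPoint_spec Y).mem_open_set_iff U₁.2).2 (by simpa using hU₁)
  have hη₂ : genericPoint Y ∈ U₂ := ((genericPoint_spec Y).mem_open_set_iff U₂.2).2 (by simpa using hU₂)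
  haveI hgU : IsIso (g ∣_ U₀) := isIso_restrict_le g (V := U₁) inf_le_left hg₁
  haveI hg'U : IsIso (g' ∣_ U₀) := isIso_restrict_le g' (V := U₂) inf_le_right hg₂
  have hne' : ((g' ⁻¹ᵁ U₀ : X'.Opens) : Set X').Nonempty := nonempty_preimage ⟨genericPoint Y, hη₁, hη₂⟩ hg'U
  let φ : (g' ⁻¹ᵁ U₀ : Scheme.{u}) ⟶ X := g' ∣_ U₀ ≫ inv (g ∣_ U₀) ≫ (g ⁻¹ᵁ U₀).ι
  have hφ : φ ≫ g = (g' ⁻¹ᵁ U₀).ι ≫ g' := by
    simp only [φ, Category.assoc, ← morphismRestrict_ι, IsIso.inv_hom_id_assoc]
  obtain ⟨W, pW, q, hseq, hq, -⟩ := exists_morphism hX' hdX' g' g (g' ⁻¹ᵁ U₀) hne' φ hφ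
  obtain ⟨hWi, hWN, hWr, hpp, V, hV, hpV⟩ := props_of_contractionSeq hseq.isContractionSeq hX'
  haveI := hpV
  let U : Y.Opens := U₀ ⊓ ⟨(g' '' (V : Set X')ᶜ)ᶜ, (g'.isClosedMap _ V.2.isClosed_compl).isOpen_compl⟩
  have hU : (U : Set Y).Nonempty := by
    refine ⟨genericPoint Y, ⟨hη₁, hη₂⟩, ?_⟩
    rintro ⟨x, hx, hxη⟩
    refine hx ?_
    have hπη : g' (genericPoint X') = genericPoint Y := by
      obtain ⟨w, hw⟩ := (g' ∣_ U₀).surjective ⟨_, ⟨hη₁, hη₂⟩⟩
      have hw' : g' w.1 = genericPoint Y := (morphismRestrict_base_coe g' U₀ w).symm.trans (congrArg Subtype.val hw)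
      exact ((genericPoint_specializes _).antisymm (hw' ▸ (genericPoint_specializes w.1).map g'.continuous)).eq.symm
    have hm : genericPoint Y ∈ U₀ := ⟨hη₁, hη₂⟩
    have := (g' ∣_ U₀).isOpenEmbedding.injective (a₁ := ⟨x, show g' x ∈ U₀ from hxη ▸ hm⟩)
      (a₂ := ⟨genericPoint X', show g' (genericPoint X') ∈ U₀ from hπη ▸ hm⟩)
      (Subtype.ext (by rw [morphismRestrict_base_coe, morphismRestrict_base_coe]; exact hxη.trans hπη.symm))
    rw [show x = _ from congrArg Subtype.val this]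
    exact ((genericPoint_spec X').mem_open_set_iff V.2).2 (by simpa using hV)
  have hgU' : IsIso (g ∣_ U) := isIso_restrict_le g (V := U₀) inf_le_left hgU
  have hpU : IsIso ((pW ≫ g') ∣_ U) := by
    rw [morphismRestrict_comp]
    haveI := isIso_restrict_le g' (V := U₀) (inf_le_left : U ≤ U₀) hg'U
    haveI := isIso_restrict_le pW (V := V) (V' := g' ⁻¹ᵁ U) (fun x hx => by_contra fun h => hx.2 ⟨x, h, rfl⟩) hpV
    infer_instance
  obtain ⟨h, -, hh⟩ := exists_desc_of_seq hY hdY g hX hdX U hU hgU' hexc hseq.isContractionSeq g' hX' hpU hdX' q hq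
  refine ⟨h, hh, fun h' hh' => ?_⟩
  haveI : IsDominant (g' ⁻¹ᵁ U₀).ι := ⟨by
    rw [DenseRange, Scheme.Opens.range_ι]
    exact (g' ⁻¹ᵁ U₀).2.dense hne'⟩
  refine ext_of_isDominant_of_isSeparated g (hh'.trans hh.symm) (g' ⁻¹ᵁ U₀).ι ?_
  have key : ∀ k : X' ⟶ X, k ≫ g = g' → (g' ⁻¹ᵁ U₀).ι ≫ k = φ := fun k hk => by
    subst hk
    have hr : k ∣_ g ⁻¹ᵁ U₀ ≫ g ∣_ U₀ = (k ≫ g) ∣_ U₀ := (morphismRestrict_comp k g U₀).symm
    show _ = (k ≫ g) ∣_ U₀ ≫ inv (g ∣_ U₀) ≫ (g ⁻¹ᵁ U₀).ι
    rw [← hr, Category.assoc, IsIso.hom_inv_id_assoc, morphismRestrict_ι]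
    rfl
  rw [key h hh, key h' hh']

end Groth.Agent.PtBlow
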