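import Groth.Agent.PlaneCurve.Hyp
import Groth.Agent.Nakai.CartierMul
import Groth.Agent.Horrocks.Main
import Groth.Agent.SurfAmple.Main
import Groth.Agent.PicPn.Main
import Groth.Agent.W7Fib.Birat
import Groth.Agent.ProjMor.ProjSpaceBase

/-!
Signs of effective divisors on the projective line.
-/

set_option autoImplicit false
set_option backward.isDefEq.respectTransparency false
set_option backward.isDefEq.respectTransparency.types false
set_option linter.style.haveILetI false

universe u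

open CategoryTheory CategoryTheory.Limits AlgebraicGeometry TopologicalSpace

noncomputable section

namespace Groth.Agent.PtBlow.Line

variable {k : Type u} [Field k]

theorem tensor_twist (a b c : ℤ) (h : a + b = c) :
    Nonempty (CohB1.tensorMod (Twist.twistProjSpace 1 k a) (Twist.twistProjSpace 1 k b) ≅ Twist.twistProjSpace 1 k c) :=
  RegCx.twist_twist (k := k) (n := 1) a b c h

theorem eq_of_iso {a b : ℤ} (e : Twist.twistProjSpace 1 k a ≅ Twist.twistProjSpace 1 k b) : a = b :=
  (PicPn.existsUnique_iso (K := k) le_rfl (Twist.twistProjSpace 1 k a)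
    (GrT.isInvertible_twist_of_gens (PlaneCurve.hasFracGens _))).unique ⟨Iso.refl _⟩ ⟨e⟩

theorem support_empty {A : (CohB1.ProjSpace 1 k).IdealSheafData} (hA : BlowUp.IsEffCartierIdeal A)
    (e : Nonempty (ClSub.idealMod A ≅ Twist.twistProjSpace 1 k 0)) : (A.support : Set (CohB1.ProjSpace 1 k)) = ∅ := by
  haveI : IsIntegral (CohB1.ProjSpace 1 k) := Horrocks.isIntegral_projSpace
  haveI := ProjMor.isProper_toSpec (n := 1) (R := k)
  letI : (CohB1.ProjSpace 1 k).Over (Spec (CommRingCat.of k)) := ⟨CohB1.ProjSpace.toSpec 1 k⟩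
  haveI : IsProper ((CohB1.ProjSpace 1 k) ↘ Spec (CommRingCat.of k)) :=
    (inferInstance : IsProper (CohB1.ProjSpace.toSpec 1 k))
  obtain ⟨t⟩ := Horrocks.Om_zero (k := k) (d := 1)
  refine SurfAmple.support_empty_of_iso_one k hA ?_ ⟨e.some ≪≫ t⟩
  exact BlowUpLib.notMem_support_of_maximalPt hA fun y hy => hy.antisymm (genericPoint_specializes y) |>.eq

theorem exists_hyperplane (m : ℕ) : ∃ H : (CohB1.ProjSpace 1 k).IdealSheafData, BlowUp.IsEffCartierIdeal H ∧
    Nonempty (ClSub.idealMod H ≅ Twist.twistProjSpace 1 k (-(m : ℤ))) := by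
  let G : LefPen.Form 1 k m := ⟨MvPolynomial.X 0 ^ m, by
    simpa [CohB1.polyGrading] using ((MvPolynomial.isHomogeneous_X k (0 : Fin 2)).pow m)⟩
  have hG : G ≠ 0 := fun h => pow_ne_zero m (MvPolynomial.X_ne_zero (0 : Fin 2)) (congrArg Subtype.val h)
  obtain ⟨e⟩ := PlaneCurve.nonempty_ideal_iso_twist G hG
  exact ⟨_, (S8914.result _).1 (ParaFLib.isInvertible_of_iso e.symm
    (GrT.isInvertible_twist_of_gens (PlaneCurve.hasFracGens _))), ⟨e⟩⟩

/-- A nonzero effective divisor on the projective line has positive degree. -/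
theorem neg_of_idealMod_iso {A : (CohB1.ProjSpace 1 k).IdealSheafData} (hA : BlowUp.IsEffCartierIdeal A)
    (hne : (A.support : Set (CohB1.ProjSpace 1 k)).Nonempty) {m : ℤ}
    (e : Nonempty (ClSub.idealMod A ≅ Twist.twistProjSpace 1 k m)) : m < 0 := by
  by_contra hm
  obtain ⟨n, rfl⟩ := Int.eq_ofNat_of_zero_le (not_lt.1 hm)
  obtain ⟨H, hH, ⟨eH⟩⟩ := exists_hyperplane (k := k) n
  obtain ⟨μ⟩ := Nakai.nonempty_idealMod_mul hA hH
  obtain ⟨t⟩ := tensor_twist (k := k) (n : ℤ) (-(n : ℤ)) 0 (by ring)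
  have h0 := support_empty (BlowUpLib.cartier_mul hA hH)
    ⟨μ.symm ≪≫ PicGrp.tensorModIso e.some eH ≪≫ t⟩
  rw [Scheme.IdealSheafData.support_mul, Closeds.coe_sup, Set.union_empty_iff] at h0
  exact hne.ne_empty h0.1

end Groth.Agent.PtBlow.Line
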