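import Groth.Agent.PtBlow.Chart
import Groth.Agent.BlowAmp.Chart
import Groth.Agent.KoszBlow.Scheme
import Groth.Agent.RegLocus.Normal

/-!
Good neighbourhoods of regular closed points of dimension two, and the two charts of the blow-up there.
-/

set_option autoImplicit false
set_option backward.isDefEq.respectTransparency false
set_option backward.isDefEq.respectTransparency.types false

universe u

open CategoryTheory CategoryTheory.Limits AlgebraicGeometry TopologicalSpace HomogeneousLocalization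

noncomputable section

namespace Groth.Agent.PtBlow

open Groth.Agent.BlowUpExist

theorem Chart.map_equiv {A R S : Type u} [CommRing A] [CommRing R] [Algebra A R] [CommRing S] [Algebra A S]
    {x y : A} {τ : R} (h : Chart x y R τ) (e : R ≃ₐ[A] S) : Chart x y S (e τ) where
  nzd := by
    refine mem_nonZeroDivisors_iff_right.2 fun z hz => ?_
    refine e.symm.injective ((mem_nonZeroDivisors_iff_right.1 h.nzd (e.symm z) ?_).trans (map_zero _).symm)
    rw [← e.symm.commutes x, ← map_mul, hz, map_zero]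
  rel := by rw [← e.commutes, ← e.commutes x, ← map_mul, h.rel]
  gen s := by
    obtain ⟨p, hp⟩ := h.gen (e.symm s)
    refine ⟨p, ?_⟩
    have h1 := Polynomial.aeval_algHom_apply e.toAlgHom τ p
    exact h1.trans ((congrArg e hp).trans (e.apply_symm_apply s))
  inj z w hzw := h.inj (e.injective (by rw [e.commutes, e.commutes, hzw]))

/-- the chart ring of the Rees algebra -/
theorem exists_chart_away {A : Type u} [CommRing A] [IsDomain A] {I : Ideal A} {x y : A}
    (hI : I = Ideal.span {x, y}) (hx0 : x ≠ 0) (hx : x ∈ I) :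
    letI := (fromA I x hx).toAlgebra
    ∃ τ, Chart x y (HomogeneousLocalization.Away (Rees.deg (reesAlgebra I)) (tt I x hx)) τ := by
  letI := (fromA I x hx).toAlgebra
  let a : Fin 2 → A := ![x, y]
  have ha : I = Ideal.span (Set.range a) := by
    rw [hI]; congr 1; simp [a, Set.pair_comm]
  have hy : y ∈ I := hI ▸ Ideal.subset_span (by simp)
  obtain ⟨τ, hτ⟩ := Ideal.mem_span_singleton.1 (fromA_mem_span I x hx hy)
  refine ⟨τ, fromA_mem_nonZeroDivisors I x hx, ?_, fun z => ?_, fun u v huv => ?_⟩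
  · exact hτ
  · obtain ⟨n, w, hw, rfl⟩ := Away.mk_surjective _ (tt_mem I x hx) z
    obtain ⟨p, hp, hpc⟩ := exists_hom hI n (c := ev1 I w) (by
      rw [eq_mono_of_mem I (x := w) (n := n) (by simpa using hw), ev1_mono]; exact coeff_mem I n w)
    have h1 : fromA I x hx (hom x y n p) = fromA I x hx x ^ n * Polynomial.aeval τ p :=
      PtBlow.map_hom (fromA I x hx) x y hτ hp
    have h2 := val_mul_pow I x hx n w hw
    rw [map_pow, ← hpc, h1] at h2
    refine ⟨p, ?_⟩
    refine (mul_cancel_right_mem_nonZeroDivisors (pow_mem (fromA_mem_nonZeroDivisors I x hx) n)).1 ?_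
    have hcomm : ∀ u v : Away (Rees.deg (reesAlgebra I)) (tt I x hx), u * v = v * u :=
      fun u v => HomogeneousLocalization.val_injective _ (by simp only [HomogeneousLocalization.val_mul]; exact _root_.mul_comm _ _)
    exact (hcomm _ _).trans h2.symm
  · let K := FractionRing A
    obtain ⟨χ, hχ⟩ := exists_chartHom I x hx (algebraMap A K)
      (mem_nonZeroDivisors_of_ne_zero (by simpa using hx0))
      (by
        have hu : IsUnit (algebraMap A K x) :=
          isUnit_iff_ne_zero.2 (by simpa using hx0)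
        rw [Ideal.span_singleton_eq_top.2 hu]
        exact Ideal.eq_top_of_isUnit_mem _ (Ideal.mem_map_of_mem _ hx) hu)
    refine IsFractionRing.injective A K ?_
    rw [← hχ]
    exact congrArg χ huv

/-- ideal of a closed point on an affine open -/
theorem vanishingIdeal_ideal_eq {X : Scheme.{u}} {x : X} (hx : IsClosed ({x} : Set X)) (W : X.affineOpens)
    (hxW : x ∈ W.1) :
    (Scheme.IdealSheafData.vanishingIdeal ⟨{x}, hx⟩).ideal W = (W.2.primeIdealOf ⟨x, hxW⟩).asIdeal := by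
  rw [Scheme.IdealSheafData.vanishingIdeal_ideal]
  show PrimeSpectrum.vanishingIdeal (W.2.fromSpec ⁻¹' (({x} : Set X))) = _
  rw [show W.2.fromSpec ⁻¹' (({x} : Set X)) = {W.2.primeIdealOf ⟨x, hxW⟩} from ?_,
    PrimeSpectrum.vanishingIdeal_singleton]
  ext p
  simp only [Set.mem_preimage, Set.mem_singleton_iff]
  exact ⟨fun h => W.2.fromSpec.isOpenEmbedding.injective (h.trans (W.2.fromSpec_primeIdealOf ⟨x, hxW⟩).symm),
    fun h => h ▸ W.2.fromSpec_primeIdealOf ⟨x, hxW⟩⟩

/-- A regular closed point of dimension two has arbitrarily small good neighbourhoods. -/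
theorem exists_goodNbhd {X : Scheme.{u}} [IsLocallyNoetherian X] (x : X) (hx : IsClosed ({x} : Set X))
    (hreg : IsRegularLocalRing (X.presheaf.stalk x)) (hdim : ringKrullDim (X.presheaf.stalk x) = 2)
    (O : X.Opens) (hxO : x ∈ O) :
    ∃ W : X.affineOpens, W.1 ≤ O ∧ x ∈ W.1 ∧ IsDomain Γ(X, W.1) ∧ IsNoetherianRing Γ(X, W.1) ∧
      ((Scheme.IdealSheafData.vanishingIdeal ⟨{x}, hx⟩).ideal W).IsMaximal ∧
      ∃ a b, Good ((Scheme.IdealSheafData.vanishingIdeal ⟨{x}, hx⟩).ideal W) a b := by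
  haveI := hreg
  haveI := RegLoc.isDomain (X.presheaf.stalk x)
  obtain ⟨U, hU, hxU, hUO⟩ := exists_isAffineOpen_mem_and_subset (x := x) (U := O) hxO
  haveI := IsLocallyNoetherian.component_noetherian (⟨U, hU⟩ : X.affineOpens)
  let P := hU.primeIdealOf ⟨x, hxU⟩
  haveI hPdom : IsDomain (Localization.AtPrime P.asIdeal) := by
    letI := (X.presheaf.germ U x hxU).hom.toAlgebra
    haveI := hU.isLocalization_stalk ⟨x, hxU⟩
    exact MulEquiv.isDomain (X.presheaf.stalk x)
      (IsLocalization.algEquiv P.asIdeal.primeCompl (Localization.AtPrime P.asIdeal) (X.presheaf.stalk x)).toMulEquiv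
  obtain ⟨g, hg, hgdom⟩ := RegLocus.exists_isDomain_away P
  have hmemP : ∀ (c : Γ(X, U)), x ∈ X.basicOpen c ↔ c ∉ P.asIdeal := fun c => by
    have h : P ∈ hU.fromSpec ⁻¹ᵁ X.basicOpen c ↔ c ∉ P.asIdeal := by
      rw [hU.fromSpec_preimage_basicOpen]; rfl
    change hU.fromSpec P ∈ X.basicOpen c ↔ _ at h
    rwa [hU.fromSpec_primeIdealOf] at h
  let V : X.affineOpens := ⟨X.basicOpen g, hU.basicOpen g⟩
  have hxV : x ∈ V.1 := (hmemP g).2 hg
  haveI : IsDomain Γ(X, V.1) := by
    letI := (X.presheaf.map (homOfLE (X.basicOpen_le g)).op).hom.toAlgebra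
    haveI := hU.isLocalization_basicOpen g
    exact MulEquiv.isDomain (Localization.Away g)
      (IsLocalization.algEquiv (Submonoid.powers g) Γ(X, V.1) (Localization.Away g)).toMulEquiv
  haveI := IsLocallyNoetherian.component_noetherian V
  let Q := V.2.primeIdealOf ⟨x, hxV⟩
  haveI hQ : Q.asIdeal.IsMaximal := V.2.primeIdealOf_isMaximal_of_isClosed ⟨x, hxV⟩ hx
  letI := (X.presheaf.germ V.1 x hxV).hom.toAlgebra
  haveI := V.2.isLocalization_stalk ⟨x, hxV⟩
  let e := (IsLocalization.algEquiv Q.asIdeal.primeCompl (Localization.AtPrime Q.asIdeal) (X.presheaf.stalk x))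
  have hregL : IsRegularLocalRing (Localization.AtPrime Q.asIdeal) :=
    IsRegularLocalRing.of_ringEquiv e.symm.toRingEquiv
  have hdimL : ringKrullDim (Localization.AtPrime Q.asIdeal) = 2 := by
    rw [ringKrullDim_eq_of_ringEquiv e.toRingEquiv]; exact hdim
  -- two generators near `x`
  let L := Localization.AtPrime Q.asIdeal
  obtain ⟨d, w, hw, hwd⟩ := RegLoc.exists_rsop (A := L)
  obtain rfl : d = 2 := by exact_mod_cast hwd.symm.trans hdimL
  have hnum : ∀ i, ∃ c ∈ Q.asIdeal, ∃ s : L, IsUnit s ∧ algebraMap _ L c = w i * s := fun i => by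
    obtain ⟨⟨c, s⟩, hcs⟩ := IsLocalization.surj Q.asIdeal.primeCompl (w i)
    refine ⟨c, ?_, algebraMap Γ(X, V.1) L s.1, IsLocalization.map_units L s, hcs.symm⟩
    rw [← IsLocalization.AtPrime.to_map_mem_maximal_iff L Q.asIdeal, ← hcs]
    exact Ideal.mul_mem_right _ _ (hw ▸ Ideal.subset_span ⟨i, rfl⟩)
  choose c hcQ s hs hcs using hnum
  let K : Ideal Γ(X, V.1) := Ideal.span {c 0, c 1}
  have hKL : K.map (algebraMap _ L) = IsLocalRing.maximalIdeal L := by
    refine le_antisymm ?_ ?_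
    · rw [← Localization.AtPrime.map_eq_maximalIdeal]
      refine Ideal.map_mono (Ideal.span_le.2 ?_)
      rintro z (rfl | rfl) <;> exact hcQ _
    · rw [← hw, Ideal.span_le]
      rintro _ ⟨i, rfl⟩
      obtain ⟨v, hv⟩ := (hs i).exists_left_inv
      have hci : algebraMap _ L (c i) ∈ K.map (algebraMap _ L) :=
        Ideal.mem_map_of_mem _ (Ideal.subset_span (by fin_cases i <;> simp))
      have := Ideal.mul_mem_left _ v hci
      rwa [hcs, mul_left_comm, hv, mul_one] at this
  obtain ⟨S, hS⟩ : Q.asIdeal.FG := IsNoetherian.noetherian _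
  have hkill : ∀ z : S, ∃ t : Q.asIdeal.primeCompl, (t : Γ(X, V.1)) * z.1 ∈ K := fun z => by
    have hz : algebraMap _ L z.1 ∈ K.map (algebraMap _ L) := by
      rw [hKL, IsLocalization.AtPrime.to_map_mem_maximal_iff L Q.asIdeal]
      exact hS ▸ Ideal.subset_span z.2
    obtain ⟨t, ht, htz⟩ := (IsLocalization.algebraMap_mem_map_algebraMap_iff Q.asIdeal.primeCompl L K z.1).1 hz
    exact ⟨⟨t, ht⟩, htz⟩
  choose t ht using hkill
  let G : Γ(X, V.1) := ∏ z : S, (t z : Γ(X, V.1))
  have hGQ : G ∈ Q.asIdeal.primeCompl := Submonoid.prod_mem _ fun z _ => (t z).2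
  let W : X.affineOpens := ⟨X.basicOpen G, V.2.basicOpen G⟩
  have hxW : x ∈ W.1 := by
    have h : Q ∈ V.2.fromSpec ⁻¹ᵁ X.basicOpen G := by
      rw [V.2.fromSpec_preimage_basicOpen]; exact hGQ
    change V.2.fromSpec Q ∈ X.basicOpen G at h
    rwa [V.2.fromSpec_primeIdealOf] at h
  let ρ := (X.presheaf.map (homOfLE (X.basicOpen_le G)).op).hom
  letI := ρ.toAlgebra
  haveI : IsLocalization.Away G Γ(X, W.1) := V.2.isLocalization_basicOpen G
  have hG0 : Submonoid.powers G ≤ nonZeroDivisors Γ(X, V.1) :=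
    powers_le_nonZeroDivisors_of_noZeroDivisors fun h0 => hGQ (h0 ▸ zero_mem _)
  haveI : IsDomain Γ(X, W.1) := IsLocalization.isDomain_of_le_nonZeroDivisors _ hG0
  let I := Scheme.IdealSheafData.vanishingIdeal (⟨{x}, hx⟩ : Closeds X)
  have hIW : I.ideal W = Q.asIdeal.map ρ := by
    rw [← vanishingIdeal_ideal_eq hx V hxV]
    exact (I.map_ideal_basicOpen V G).symm
  haveI hmax : (I.ideal W).IsMaximal := by
    rw [vanishingIdeal_ideal_eq hx W hxW]
    exact W.2.primeIdealOf_isMaximal_of_isClosed ⟨x, hxW⟩ hx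
  have hspan : I.ideal W = Ideal.span {ρ (c 0), ρ (c 1)} := by
    rw [hIW]
    refine le_antisymm ?_ ?_
    · rw [Ideal.map_le_iff_le_comap, ← hS]
      refine Submodule.span_le.2 fun z hz => ?_
      have hGz : G * z ∈ K := by
        obtain ⟨r, hr⟩ : (t ⟨z, hz⟩ : Γ(X, V.1)) ∣ G :=
          Finset.dvd_prod_of_mem (fun z : S => (t z : Γ(X, V.1))) (Finset.mem_univ (⟨z, hz⟩ : S))
        rw [hr, mul_right_comm]
        exact Ideal.mul_mem_right _ _ (ht _)
      obtain ⟨v, hv⟩ := (IsLocalization.Away.algebraMap_isUnit (S := Γ(X, W.1)) G).exists_left_inv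
      have h1 := Ideal.mem_map_of_mem ρ hGz
      rw [Ideal.map_span, Set.image_pair, map_mul] at h1
      have h2 := Ideal.mul_mem_left _ v h1
      rw [← mul_assoc, show v * ρ G = 1 from hv, one_mul] at h2
      exact h2
    · rw [Ideal.span_le]
      rintro z (rfl | rfl) <;> exact Ideal.mem_map_of_mem _ (hcQ _)
  refine ⟨W, (X.basicOpen_le G).trans ((X.basicOpen_le g).trans hUO), hxW, inferInstance,
    IsLocallyNoetherian.component_noetherian W, hmax, ρ (c 0), ρ (c 1), ?_⟩
  haveI := IsLocallyNoetherian.component_noetherian W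
  letI : Algebra Γ(X, W.1) (X.presheaf.stalk x) := (X.presheaf.germ W.1 x hxW).hom.toAlgebra
  haveI : IsLocalization.AtPrime (X.presheaf.stalk x) (I.ideal W) := by
    have := W.2.isLocalization_stalk ⟨x, hxW⟩
    have key := vanishingIdeal_ideal_eq hx W hxW
    convert this using 2 <;> first | exact key | rfl
  let e' := IsLocalization.algEquiv (I.ideal W).primeCompl (Localization.AtPrime (I.ideal W)) (X.presheaf.stalk x)
  exact good_of_regular (IsRegularLocalRing.of_ringEquiv e'.symm.toRingEquiv)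
    (by rw [ringKrullDim_eq_of_ringEquiv e'.toRingEquiv]; exact hdim) hspan

variable {X X' : Scheme.{u}} {b : X' ⟶ X}

/-- the two charts of a blow-up over an affine open where the centre has two generators -/
theorem exists_charts {I : X.IdealSheafData} (hb : BlowUp.IsBlowUp b I) (W : X.affineOpens)
    [IsDomain Γ(X, W.1)] {x y : Γ(X, W.1)} (hI : I.ideal W = Ideal.span {x, y}) (hx : x ≠ 0) (hy : y ≠ 0) :
    ∃ (G₀ G₁ : X'.affineOpens) (hG₀ : G₀.1 ≤ b ⁻¹ᵁ W.1) (hG₁ : G₁.1 ≤ b ⁻¹ᵁ W.1),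
      (∀ p ∈ b ⁻¹ᵁ W.1, p ∈ G₀.1 ∨ p ∈ G₁.1) ∧
      (letI := (b.appLE W.1 G₀.1 hG₀).hom.toAlgebra; ∃ τ, Chart x y Γ(X', G₀.1) τ) ∧
      (letI := (b.appLE W.1 G₁.1 hG₁).hom.toAlgebra; ∃ τ, Chart y x Γ(X', G₁.1) τ) := by
  obtain ⟨μ, hμ, hμr, hμb⟩ := BlowAmp.exists_model hb W
  let J := I.ideal W
  let j := fun (z : Γ(X, W.1)) (hz : z ∈ J) => chart J z hz ≫ μ
  have key : ∀ (z z' : Γ(X, W.1)) (hz : z ∈ J), J = Ideal.span {z, z'} → z ≠ 0 →
      ∃ (G : X'.affineOpens) (hG : G.1 ≤ b ⁻¹ᵁ W.1), G.1 = (j z hz).opensRange ∧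
        (letI := (b.appLE W.1 G.1 hG).hom.toAlgebra; ∃ τ, Chart z z' Γ(X', G.1) τ) := by
    intro z z' hz hJ hz0
    let f := j z hz
    let φ := fromA J z hz
    have hle : f.opensRange ≤ b ⁻¹ᵁ W.1 := by
      rintro _ ⟨q, rfl⟩
      exact hμr.subset ⟨chart J z hz q, (Scheme.Hom.comp_apply _ _ _).symm⟩
    have hj : f ≫ b = Spec.map (CommRingCat.ofHom φ) ≫ W.2.fromSpec := by
      rw [Category.assoc, hμb, ← Category.assoc, chart_structMap]
    refine ⟨⟨f.opensRange, isAffineOpen_opensRange f⟩, hle, rfl, ?_⟩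
    have htop : (⊤ : (Spec _).Opens) ≤ f ⁻¹ᵁ f.opensRange := fun q _ => ⟨q, rfl⟩
    let θ := f.appLE f.opensRange ⊤ htop ≫ (Scheme.ΓSpecIso _).hom
    have hθ : Function.Bijective θ.hom := by
      haveI : IsIso (f.appLE f.opensRange ⊤ htop) := by
        have := Scheme.Hom.isIso_app f f.opensRange le_rfl
        rw [Scheme.Hom.appLE]
        haveI : IsIso (homOfLE htop) :=
          ⟨homOfLE (le_top : f ⁻¹ᵁ f.opensRange ≤ ⊤), Subsingleton.elim _ _, Subsingleton.elim _ _⟩
        infer_instance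
      exact ConcreteCategory.bijective_of_isIso θ
    have hkey : ∀ c : Γ(X, W.1), θ (b.appLE W.1 f.opensRange hle c) = φ c := fun c => by
      have e1 := congr($(Scheme.Hom.appLE_comp_appLE f b W.1 f.opensRange ⊤ hle htop) c)
      have e2 := QC.appLE_specMap_comp W.2.fromSpec (CommRingCat.ofHom φ) W.1
        (by rw [W.2.fromSpec_preimage_self]) _ hj (fun q _ => hle (htop (Set.mem_univ q))) c
      refine (congrArg (Scheme.ΓSpecIso _).hom e1).trans (e2.trans ?_)
      refine congrArg φ ?_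
      rw [Scheme.Hom.appLE, W.2.fromSpec_app_self]
      simp only [Category.assoc, ← Functor.map_comp, CommRingCat.comp_apply]
      simp
    letI := (b.appLE W.1 f.opensRange hle).hom.toAlgebra
    letI := φ.toAlgebra
    obtain ⟨τ, hτ⟩ := exists_chart_away hJ hz0 hz
    let e : Γ(X', f.opensRange) ≃ₐ[Γ(X, W.1)] Away (Rees.deg (reesAlgebra J)) (tt J z hz) :=
      AlgEquiv.ofRingEquiv (f := RingEquiv.ofBijective θ.hom hθ) hkey
    exact ⟨_, hτ.map_equiv e.symm⟩
  have hxJ : x ∈ J := by rw [show J = _ from hI]; exact Ideal.subset_span (by simp)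
  have hyJ : y ∈ J := by rw [show J = _ from hI]; exact Ideal.subset_span (by simp)
  obtain ⟨G₀, hG₀, he₀, hc₀⟩ := key x y hxJ hI hx
  obtain ⟨G₁, hG₁, he₁, hc₁⟩ := key y x hyJ (hI.trans (by rw [Set.pair_comm])) hy
  refine ⟨G₀, G₁, hG₀, hG₁, fun p hp => ?_, hc₀, hc₁⟩
  obtain ⟨p', rfl⟩ := hμr.symm.subset hp
  have hrange : J = Ideal.span (Set.range ![x, y]) := by
    rw [show J = _ from hI]; congr 1; simp [Set.pair_comm]
  let 𝒰 := (Proj.affineOpenCoverOfIrrelevantLESpan (Rees.deg (reesAlgebra J))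
    (fun i : Fin 2 => tt J (![x, y] i) (hrange ▸ Ideal.subset_span ⟨i, rfl⟩)) (m := fun _ => 1)
    (fun i => tt_mem J _ _) (fun _ => one_pos) (KoszBlow.irrelevant_le_gens ![x, y] hrange)).openCover
  have hi : ∀ i : Fin 2, p' ∈ (chart J (![x, y] i) (hrange ▸ Ideal.subset_span ⟨i, rfl⟩)).opensRange →
      μ p' ∈ G₀.1 ∨ μ p' ∈ G₁.1 := by
    intro i hp'
    obtain ⟨q, rfl⟩ := hp'
    fin_cases i
    · exact Or.inl (he₀ ▸ ⟨q, Scheme.Hom.comp_apply _ _ _⟩)
    · exact Or.inr (he₁ ▸ ⟨q, Scheme.Hom.comp_apply _ _ _⟩)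
  exact hi (𝒰.idx p') (𝒰.covers p')

end Groth.Agent.PtBlow
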