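import Groth.Agent.PtBlow.Contraction
import Groth.Agent.RZExt.Descend

/-!
Sequences of blow-ups of regular two-dimensional closed points, and principalisation of ideals with finite support.
-/

set_option autoImplicit false
set_option backward.isDefEq.respectTransparency false
set_option backward.isDefEq.respectTransparency.types false
set_option linter.style.haveILetI false

universe u

open CategoryTheory CategoryTheory.Limits AlgebraicGeometry TopologicalSpace

noncomputable section

namespace Groth.Agent.PtBlow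

theorem isIso_restrict_le {X Y : Scheme.{u}} (f : X ⟶ Y) {V V' : Y.Opens} (h : V' ≤ V) (hV : IsIso (f ∣_ V)) :
    IsIso (f ∣_ V') := by
  have h1 : IsIso ((f ∣_ V) ∣_ (V.ι ⁻¹ᵁ V')) := inferInstance
  have h2 := ((MorphismProperty.isomorphisms Scheme.{u}).arrow_mk_iso_iff (morphismRestrictRestrict f V _)).1 h1
  have e : V.ι ''ᵁ (V.ι ⁻¹ᵁ V') = V' := by
    rw [Scheme.Hom.image_preimage_eq_opensRange_inf, Scheme.Opens.opensRange_ι, inf_eq_right.2 h]
  rw [e] at h2
  exact h2

/-- composites of blow-ups of regular closed points of dimension two -/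
inductive Seq : ∀ {Y X : Scheme.{u}}, (Y ⟶ X) → Prop
  | id (X : Scheme.{u}) : Seq (𝟙 X)
  | step {Y Z X : Scheme.{u}} (b : Y ⟶ Z) (r : Z ⟶ X) (z : Z) (hz : IsRegPt Z z) (hN : IsNoetherian Z)
      (hb : BlowUp.IsBlowUp b (pt hz)) (hr : Seq r) : Seq (b ≫ r)

theorem Seq.comp {W Y X : Scheme.{u}} {g : W ⟶ Y} {h : Y ⟶ X} (hg : Seq g) (hh : Seq h) : Seq (g ≫ h) := by
  induction hg with
  | id Y => rwa [Category.id_comp]
  | step b r z hz hN hb hr ih => rw [Category.assoc]; exact Seq.step b _ z hz hN hb (ih hh)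

theorem Seq.single {Y X : Scheme.{u}} [IsNoetherian X] {b : Y ⟶ X} {x : X} (hx : IsRegPt X x)
    (hb : BlowUp.IsBlowUp b (pt hx)) : Seq b :=
  Category.comp_id b ▸ Seq.step b (𝟙 X) x hx ‹_› hb (Seq.id X)

theorem Seq.isContractionSeq {Y X : Scheme.{u}} {g : Y ⟶ X} (hg : Seq g) : Models.IsContractionSeq g := by
  induction hg with
  | id X => exact Models.IsContractionSeq.iso (Iso.refl X)
  | step b r z hz hN hb hr ih =>
    haveI := hN
    obtain ⟨E, ι, hι, hE, hc⟩ := exists_contraction hz hb
    exact Models.IsContractionSeq.step ι b r hι hE hc ih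

theorem Seq.isNoetherian {Y X : Scheme.{u}} {g : Y ⟶ X} (hg : Seq g) (hX : IsNoetherian X) : IsNoetherian Y := by
  induction hg with
  | id X => exact hX
  | step b r z hz hN hb hr ih => haveI := hN; exact isNoetherian_blowUp hz hb

theorem Seq.isProper {Y X : Scheme.{u}} {g : Y ⟶ X} (hg : Seq g) : IsProper g := by
  induction hg with
  | id X => infer_instance
  | step b r z hz hN hb hr ih =>
    haveI := hN
    haveI := isProper_blowUp hz hb
    infer_instance

theorem Seq.cartier_comap {Y X : Scheme.{u}} {g : Y ⟶ X} (hg : Seq g) {K : X.IdealSheafData}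
    (hK : BlowUp.IsEffCartierIdeal K) : BlowUp.IsEffCartierIdeal (K.comap g) := by
  induction hg with
  | id X => rwa [Scheme.IdealSheafData.comap_id]
  | step b r z hz hN hb hr ih =>
    rw [Scheme.IdealSheafData.comap_comp]
    exact BlowUpLib.cartier_comap_blowUp hb (ih hK)

theorem wt_ne_top {X : Scheme.{u}} [IsNoetherian X] {x : X} (hx : IsRegPt X x) (I : X.IdealSheafData)
    (hxI : x ∈ I.support) {O : X.Opens} (hxO : x ∈ O) (hO : ∀ z ∈ I.support, z ∈ O → z = x) : wt I x ≠ ⊤ := by
  obtain ⟨W, hW, hxW, hWO⟩ := exists_isAffineOpen_mem_and_subset (x := x) (U := O) hxO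
  haveI := IsLocallyNoetherian.component_noetherian (⟨W, hW⟩ : X.affineOpens)
  let q := hW.primeIdealOf ⟨x, hxW⟩
  letI : Algebra Γ(X, W) (X.presheaf.stalk x) := (X.presheaf.germ W x hxW).hom.toAlgebra
  haveI : IsLocalization.AtPrime (X.presheaf.stalk x) q.asIdeal := hW.isLocalization_stalk ⟨x, hxW⟩
  let J := I.ideal ⟨W, hW⟩
  have hartin : IsArtinianRing (Γ(X, W) ⧸ J) := by
    rw [isArtinianRing_iff_krullDimLE_zero, Ring.krullDimLE_zero_iff]
    intro P hP
    let P' : Spec Γ(X, W) := (⟨P.comap (Ideal.Quotient.mk J), inferInstance⟩ : PrimeSpectrum Γ(X, W))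
    have hPW : hW.fromSpec P' ∈ W := hW.range_fromSpec.le ⟨P', rfl⟩
    have hpp : hW.primeIdealOf ⟨hW.fromSpec P', hPW⟩ = P' :=
      hW.fromSpec.isOpenEmbedding.injective (hW.fromSpec_primeIdealOf ⟨_, hPW⟩)
    have heq : hW.fromSpec P' = x := hO _ ((FittLib.mem_support_iff I ⟨W, hW⟩ hPW).2 (by
      rw [hpp]
      exact fun z hz => Ideal.mem_comap.2 ((Ideal.Quotient.eq_zero_iff_mem.2 hz).symm ▸ zero_mem P))) (hWO hPW)
    haveI : P'.asIdeal.IsMaximal := by
      rw [← hpp, show (⟨hW.fromSpec P', hPW⟩ : W) = ⟨x, hxW⟩ from Subtype.ext heq]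
      exact hW.primeIdealOf_isMaximal_of_isClosed ⟨x, hxW⟩ hx.closed
    rw [← Ideal.map_comap_of_surjective (Ideal.Quotient.mk J) Ideal.Quotient.mk_surjective P]
    exact (Ideal.map_eq_top_or_isMaximal_of_surjective _ Ideal.Quotient.mk_surjective
      (show (P.comap (Ideal.Quotient.mk J)).IsMaximal from ‹P'.asIdeal.IsMaximal›)).resolve_left
      (by rw [Ideal.map_comap_of_surjective _ Ideal.Quotient.mk_surjective]; exact hP.ne_top)
  haveI : IsArtinian Γ(X, W) (Γ(X, W) ⧸ J) :=
    isArtinian_of_surjective_algebraMap (S := Γ(X, W)) (R := Γ(X, W) ⧸ J) (M := Γ(X, W) ⧸ J)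
      (Ideal.Quotient.mk_surjective (I := J))
  have hfin : Module.length Γ(X, W) (Γ(X, W) ⧸ J) ≠ ⊤ := Module.length_ne_top
  rw [wt, DiagTor.stalkIdeal_chart I hxI ⟨W, hW⟩ hxW]
  exact ne_top_of_le_ne_top hfin (length_quot_localization_le q.asIdeal (X.presheaf.stalk x) J hfin)

theorem exists_isolated {X : Scheme.{u}} (S : Set X) (hS : S.Finite) (hcl : ∀ z ∈ S, IsClosed ({z} : Set X)) (x : X) :
    ∃ O : X.Opens, x ∈ O ∧ ∀ z ∈ S, z ∈ O → z = x := by
  have h : IsClosed (S \ {x}) := by
    rw [← Set.biUnion_of_singleton (S \ {x})]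
    exact (hS.diff).isClosed_biUnion fun z hz => hcl z hz.1
  refine ⟨⟨(S \ {x})ᶜ, h.isOpen_compl⟩, fun hx => hx.2 rfl, fun z hz hzO => ?_⟩
  by_contra hne
  exact hzO ⟨hz, hne⟩

theorem principalise_aux : ∀ (n : ℕ) (X : Scheme.{u}) (I : X.IdealSheafData), IsNoetherian X →
    (I.support : Set X).Finite → (∀ x ∈ (I.support : Set X), IsRegPt X x) →
    (∀ x ∈ (I.support : Set X), wt I x < (n : ℕ∞)) →
    ∃ (X' : Scheme.{u}) (g : X' ⟶ X), Seq g ∧
      (∀ U : X.Opens, Disjoint (U : Set X) (I.support : Set X) → IsIso (g ∣_ U)) ∧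
      BlowUp.IsEffCartierIdeal (I.comap g) := by
  intro n
  induction n with
  | zero =>
    intro X I hN hfin hreg hlt
    refine ⟨X, 𝟙 X, Seq.id X, fun U _ => inferInstance, ?_⟩
    rw [Scheme.IdealSheafData.comap_id]
    have : I = ⊤ := by
      rw [← Scheme.IdealSheafData.support_eq_bot_iff]
      exact Closeds.ext (Set.eq_empty_of_forall_notMem fun x hx => by simpa using hlt x hx)
    rw [this]
    exact BlowUpLib.cartier_top
  | succ n ihn =>
    suffices h : ∀ (c : ℕ) (X : Scheme.{u}) (I : X.IdealSheafData), IsNoetherian X →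
        (I.support : Set X).Finite → (∀ x ∈ (I.support : Set X), IsRegPt X x) →
        (∀ x ∈ (I.support : Set X), wt I x < ((n + 1 : ℕ) : ℕ∞)) →
        {x ∈ (I.support : Set X) | wt I x = (n : ℕ∞)}.ncard ≤ c →
        ∃ (X' : Scheme.{u}) (g : X' ⟶ X), Seq g ∧
          (∀ U : X.Opens, Disjoint (U : Set X) (I.support : Set X) → IsIso (g ∣_ U)) ∧
          BlowUp.IsEffCartierIdeal (I.comap g) from fun X I hN hfin hreg hlt => h _ X I hN hfin hreg hlt le_rfl
    intro c
    induction c with
    | zero =>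
      intro X I hN hfin hreg hlt hc
      refine ihn X I hN hfin hreg fun x hx => lt_of_le_of_ne ?_ fun heq => ?_
      · exact ENat.lt_coe_add_one_iff.1 (by exact_mod_cast hlt x hx)
      · have := (Set.ncard_pos (s := {x ∈ (I.support : Set X) | wt I x = (n : ℕ∞)}) (hfin.subset fun z hz => hz.1)).2 ⟨x, hx, heq⟩
        omega
    | succ c ihc =>
      intro X I hN hfin hreg hlt hc
      let S := {x ∈ (I.support : Set X) | wt I x = (n : ℕ∞)}
      by_cases hS : S.Nonempty
      swap
      · exact ihc X I hN hfin hreg hlt (by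
          rw [show {x ∈ (I.support : Set X) | wt I x = (n : ℕ∞)} = ∅ from Set.not_nonempty_iff_eq_empty.1 hS,
            Set.ncard_empty]
          exact Nat.zero_le c)
      obtain ⟨x, hxI, hxn⟩ := hS
      have hx := hreg x hxI
      obtain ⟨O, hxO, hO⟩ := exists_isolated _ hfin (fun z hz => (hreg z hz).closed) x
      obtain ⟨X₁, b, hb⟩ := exists_blowUp hx
      haveI := isNoetherian_blowUp hx hb
      obtain ⟨o, I', hmul, hfib, hover, hoff⟩ := exists_residual hx hb I hxI hxO hO
      have hinj : Set.InjOn b {y : X₁ | y ∈ I'.support ∧ b y ≠ x} := by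
        intro y hy y' hy' he
        have hmem : ∀ z : X₁, b z ≠ x → b z ∈ (pt hx).support.compl := fun z hz => by
          show b z ∉ ((pt hx).support : Set X)
          rw [coe_support_pt hx]; exact hz
        haveI := BlowUpLib.isIso_restrict hb
        have := (b ∣_ (pt hx).support.compl).homeomorph.injective (a₁ := ⟨y, hmem y hy.2⟩)
          (a₂ := ⟨y', hmem y' hy'.2⟩) (Subtype.ext (by simpa using he))
        exact congrArg Subtype.val this
      have hfin' : (I'.support : Set X₁).Finite := by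
        have h2 : {y : X₁ | y ∈ I'.support ∧ b y ≠ x}.Finite :=
          Set.Finite.of_finite_image (hfin.subset (by
            rintro _ ⟨y, ⟨hy, hne⟩, rfl⟩
            exact (hoff y hne).1.1 hy)) hinj
        refine (hfib.union h2).subset fun y hy => ?_
        by_cases h : b y = x
        · exact Or.inl ⟨hy, h⟩
        · exact Or.inr ⟨hy, h⟩
      have hreg' : ∀ y ∈ (I'.support : Set X₁), IsRegPt X₁ y := fun y hy => by
        by_cases h : b y = x
        · exact (hover y hy h).1
        · exact (hoff y h).2.2 (hreg _ ((hoff y h).1.1 hy))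
      have hsmall : ∀ y ∈ (I'.support : Set X₁), b y = x → wt I' y < (n : ℕ∞) := fun y hy h =>
        hxn ▸ (hover y hy h).2
      have hlt' : ∀ y ∈ (I'.support : Set X₁), wt I' y < ((n + 1 : ℕ) : ℕ∞) := fun y hy => by
        by_cases h : b y = x
        · exact (hsmall y hy h).trans (by exact_mod_cast Nat.lt_succ_self n)
        · rw [(hoff y h).2.1 ((hoff y h).1.1 hy)]; exact hlt _ ((hoff y h).1.1 hy)
      have hc' : {y ∈ (I'.support : Set X₁) | wt I' y = (n : ℕ∞)}.ncard ≤ c := by
        have hsub : ∀ y ∈ {y ∈ (I'.support : Set X₁) | wt I' y = (n : ℕ∞)}, b y ≠ x := fun y hy h =>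
          (hsmall y hy.1 h).ne hy.2
        have h1 := Set.ncard_le_ncard_of_injOn (s := {y ∈ (I'.support : Set X₁) | wt I' y = (n : ℕ∞)})
          (t := S \ {x}) (fun y => b y) (fun y hy => by
            have h := hsub y hy
            exact ⟨⟨(hoff y h).1.1 hy.1, ((hoff y h).2.1 ((hoff y h).1.1 hy.1)).symm.trans hy.2⟩, h⟩)
          (fun y hy y' hy' he => hinj ⟨hy.1, hsub y hy⟩ ⟨hy'.1, hsub y' hy'⟩ he)
          ((hfin.subset fun z hz => hz.1).diff)
        have h2 : (S \ {x}).ncard + 1 = S.ncard :=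
          Set.ncard_diff_singleton_add_one (show x ∈ S from ⟨hxI, hxn⟩) (hfin.subset fun z hz => hz.1)
        have h3 : S.ncard ≤ c + 1 := hc
        omega
      obtain ⟨X', g', hg', hiso', hcart'⟩ := ihc X₁ I' inferInstance hfin' hreg' hlt' hc'
      refine ⟨X', g' ≫ b, hg'.comp (Seq.single hx hb), fun U hU => ?_, ?_⟩
      · haveI : IsIso (b ∣_ U) := isIso_restrict_le b (V := (pt hx).support.compl) (fun z hz => by
          show z ∉ ((pt hx).support : Set X)
          rw [coe_support_pt hx]
          rintro rfl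
          exact Set.disjoint_left.1 hU hz hxI) (BlowUpLib.isIso_restrict hb)
        haveI : IsIso (g' ∣_ (b ⁻¹ᵁ U)) := hiso' _ (Set.disjoint_left.2 fun y hy hyI => by
          by_cases h : b y = x
          · exact Set.disjoint_left.1 hU (h ▸ hy : x ∈ U) hxI
          · exact Set.disjoint_left.1 hU hy ((hoff y h).1.1 hyI))
        rw [morphismRestrict_comp]
        infer_instance
      · rw [Scheme.IdealSheafData.comap_comp, hmul, BlowUpLib.comap_mul]
        exact BlowUpLib.cartier_mul hcart' (hg'.cartier_comap (RZExt.cartier_pow hb.1 o))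

/-- Principalisation of an ideal with finite support in regular closed points of dimension two. -/
theorem exists_principalisation (X : Scheme.{u}) [IsNoetherian X] (I : X.IdealSheafData)
    (hfin : (I.support : Set X).Finite) (hreg : ∀ x ∈ (I.support : Set X), IsRegPt X x) :
    ∃ (X' : Scheme.{u}) (g : X' ⟶ X), Seq g ∧
      (∀ U : X.Opens, Disjoint (U : Set X) (I.support : Set X) → IsIso (g ∣_ U)) ∧
      BlowUp.IsEffCartierIdeal (I.comap g) := by
  classical
  have hne : ∀ x ∈ (I.support : Set X), wt I x ≠ ⊤ := fun x hx => by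
    obtain ⟨O, hxO, hO⟩ := exists_isolated _ hfin (fun z hz => (hreg z hz).closed) x
    exact wt_ne_top (hreg x hx) I hx hxO hO
  refine principalise_aux ((hfin.toFinset.sup fun x => (wt I x).toNat) + 1) X I inferInstance hfin hreg fun x hx => ?_
  rw [← ENat.coe_toNat (hne x hx)]
  exact_mod_cast Nat.lt_succ_of_le (Finset.le_sup (f := fun x => (wt I x).toNat) (hfin.mem_toFinset.2 hx))

end Groth.Agent.PtBlow
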