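import Groth.Agent.PtBlow.Pair
import Groth.Agent.BlowReg.Max

/-!
The chart `A[y/x]` of the blow-up of a maximal ideal generated by a quasi-regular pair: structure of
the exceptional line, regularity, dimension, and the drop of colength of the residual ideal.
-/

set_option autoImplicit false

universe u

open Polynomial

namespace Groth.Agent.PtBlow

variable {A : Type u} [CommRing A]

/-- `R` is the chart `A[y/x]` -/
structure Chart (x y : A) (R : Type u) [CommRing R] [Algebra A R] (τ : R) : Prop where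
  nzd : algebraMap A R x ∈ nonZeroDivisors R
  rel : algebraMap A R y = algebraMap A R x * τ
  gen : Function.Surjective (aeval (R := A) τ)
  inj : Function.Injective (algebraMap A R)

variable {m : Ideal A} {x y : A} {R : Type u} [CommRing R] [Algebra A R] {τ : R}

theorem Chart.map_hom (h : Chart x y R τ) {n : ℕ} {p : A[X]} (hp : p.natDegree ≤ n) :
    algebraMap A R (hom x y n p) = algebraMap A R x ^ n * aeval τ p := by
  rw [PtBlow.map_hom _ x y h.rel hp, aeval_def]

theorem Chart.map_eq (hG : Good m x y) (h : Chart x y R τ) :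
    m.map (algebraMap A R) = Ideal.span {algebraMap A R x} := by
  refine le_antisymm (Ideal.map_le_iff_le_comap.2 ?_) ?_
  · rw [hG.span, Ideal.span_le]
    rintro z (rfl | rfl)
    · exact Ideal.mem_span_singleton_self _
    · exact Ideal.mem_span_singleton.2 ⟨τ, h.rel⟩
  · rw [Ideal.span_le, Set.singleton_subset_iff]
    exact Ideal.mem_map_of_mem _ hG.left_mem

theorem Chart.isDomain [IsDomain A] (h : Chart x y R τ) (hx : x ≠ 0) : IsDomain R := by
  haveI : Nontrivial R := h.inj.nontrivial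
  suffices NoZeroDivisors R from NoZeroDivisors.to_isDomain R
  refine ⟨fun {r s} hrs => ?_⟩
  obtain ⟨p, rfl⟩ := h.gen r
  obtain ⟨q, rfl⟩ := h.gen s
  let n := p.natDegree
  let k := q.natDegree
  have h0 : hom x y n p * hom x y k q = 0 := h.inj (by
    rw [map_mul, h.map_hom le_rfl, h.map_hom le_rfl, map_zero, mul_mul_mul_comm, hrs, mul_zero])
  have key : ∀ (j : ℕ) (f : A[X]), f.natDegree ≤ j → hom x y j f = 0 → aeval τ f = 0 := fun j f hf h1 =>
    (mem_nonZeroDivisors_iff_right.1 (pow_mem h.nzd j)) _ (by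
      rw [mul_comm, ← h.map_hom hf, h1, map_zero])
  rcases mul_eq_zero.1 h0 with h1 | h1
  · exact Or.inl (key _ _ le_rfl h1)
  · exact Or.inr (key _ _ le_rfl h1)

theorem Chart.coeff_mem (hG : Good m x y) (h : Chart x y R τ) {p : A[X]}
    (hp : aeval τ p ∈ Ideal.span {algebraMap A R x}) (j : ℕ) : p.coeff j ∈ m := by
  obtain ⟨r, hr⟩ := Ideal.mem_span_singleton.1 hp
  obtain ⟨q, rfl⟩ := h.gen r
  let n := max p.natDegree q.natDegree
  have e : hom x y n p = x * hom x y n q := h.inj (by
    rw [map_mul, h.map_hom (le_max_left _ _), h.map_hom (le_max_right _ _), hr]; ring)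
  refine hG.qr n p (le_max_left _ _) ?_ j
  rw [e, pow_succ']
  exact Ideal.mul_mem_mul hG.left_mem (hom_mem hG.left_mem hG.right_mem _ _)

theorem Chart.mem_span_iff (hG : Good m x y) (h : Chart x y R τ) (p : A[X]) :
    aeval τ p ∈ Ideal.span {algebraMap A R x} ↔ ∀ j, p.coeff j ∈ m := by
  refine ⟨fun hp j => h.coeff_mem hG hp j, fun hp => ?_⟩
  rw [aeval_eq_sum_range]
  refine Ideal.sum_mem _ fun j _ => ?_
  rw [Algebra.smul_def]
  exact Ideal.mul_mem_right _ _ (h.map_eq hG ▸ Ideal.mem_map_of_mem _ (hp j))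

/-- the exceptional line in the chart -/
theorem Chart.exists_quotEquiv (hG : Good m x y) (h : Chart x y R τ) :
    ∃ e : (A ⧸ m)[X] ≃+* (R ⧸ Ideal.span {algebraMap A R x}),
      ∀ p : A[X], e (p.map (Ideal.Quotient.mk m)) = Ideal.Quotient.mk _ (aeval τ p) := by
  let π : A[X] →+* (A ⧸ m)[X] := mapRingHom (Ideal.Quotient.mk m)
  have hπ : Function.Surjective π := map_surjective _ Ideal.Quotient.mk_surjective
  let f : A[X] →+* R ⧸ Ideal.span {algebraMap A R x} := (Ideal.Quotient.mk _).comp (aeval τ).toRingHom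
  have hker : ∀ p, f p = 0 ↔ π p = 0 := fun p => by
    show Ideal.Quotient.mk _ (aeval τ p) = 0 ↔ p.map _ = 0
    rw [Ideal.Quotient.eq_zero_iff_mem, h.mem_span_iff hG, Polynomial.ext_iff]
    simp [Ideal.Quotient.eq_zero_iff_mem]
  let e : (A ⧸ m)[X] →+* R ⧸ Ideal.span {algebraMap A R x} :=
    RingHom.liftOfSurjective π hπ ⟨f, fun p hp => (hker p).2 hp⟩
  have he : ∀ p, e (π p) = f p := fun p => RingHom.liftOfSurjective_comp_apply π hπ ⟨f, _⟩ p
  refine ⟨RingEquiv.ofBijective e ⟨?_, ?_⟩, he⟩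
  · rw [injective_iff_map_eq_zero]
    intro z hz
    obtain ⟨p, rfl⟩ := hπ z
    exact (hker p).1 ((he p).symm.trans hz)
  · intro z
    obtain ⟨r, rfl⟩ := Ideal.Quotient.mk_surjective z
    obtain ⟨p, rfl⟩ := h.gen r
    exact ⟨π p, he p⟩

theorem Chart.isNoetherianRing [IsNoetherianRing A] (h : Chart x y R τ) : IsNoetherianRing R :=
  isNoetherianRing_of_surjective _ _ (aeval τ).toRingHom h.gen

theorem Chart.isRegularLocalRing [IsNoetherianRing A] [m.IsMaximal] (hG : Good m x y) (h : Chart x y R τ)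
    (q : Ideal R) [q.IsPrime] (hq : algebraMap A R x ∈ q) :
    IsRegularLocalRing (Localization.AtPrime q) := by
  letI := Ideal.Quotient.field m
  haveI := h.isNoetherianRing
  obtain ⟨e, -⟩ := h.exists_quotEquiv hG
  haveI : IsRegularRing (R ⧸ Ideal.span {algebraMap A R x}) := IsRegularRing.of_ringEquiv e
  exact BlowReg.isRegularLocalRing_atPrime_of_quot _
    (isSMulRegular_iff_mem_nonZeroSMulDivisors.mpr fun z hz => h.nzd.1 z hz) q hq

theorem Chart.ringKrullDim_eq_two [IsNoetherianRing A] [IsDomain A] [m.IsMaximal] (hG : Good m x y)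
    (h : Chart x y R τ) (q : Ideal R) [hq' : q.IsMaximal] (hq : algebraMap A R x ∈ q) :
    ringKrullDim (Localization.AtPrime q) = 2 := by
  letI := Ideal.Quotient.field m
  haveI := h.isNoetherianRing
  have hx0 : x ≠ 0 := hG.left_ne_zero (Ideal.IsMaximal.ne_top ‹_›)
  haveI := h.isDomain hx0
  obtain ⟨e, -⟩ := h.exists_quotEquiv hG
  let α := algebraMap A R x
  let π := Ideal.Quotient.mk (Ideal.span {α})
  have hα0 : α ≠ 0 := fun h0 => hx0 (h.inj (h0.trans (map_zero _).symm))
  haveI : IsDomain (R ⧸ Ideal.span {α}) := MulEquiv.isDomain (A ⧸ m)[X] e.symm.toMulEquiv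
  haveI hP : (Ideal.span {α}).IsPrime := (Ideal.Quotient.isDomain_iff_prime _).1 ‹_›
  have hle : Ideal.span {α} ≤ q := (Ideal.span_singleton_le_iff_mem _).2 hq
  have hne : Ideal.span {α} ≠ q := fun h1 => by
    haveI : (Ideal.span {α}).IsMaximal := h1.symm ▸ hq'
    exact Polynomial.not_isField (A ⧸ m)
      (MulEquiv.isField (Ideal.Quotient.field (Ideal.span {α})).toIsField e.toMulEquiv)
  rw [IsLocalization.AtPrime.ringKrullDim_eq_height q (Localization.AtPrime q)]
  have hlow : (2 : ℕ∞) ≤ q.height := by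
    have h1 : (1 : ℕ∞) ≤ (Ideal.span {α}).height := by
      have := Ideal.height_strict_mono_of_isPrime (I := (⊥ : Ideal R)) (J := Ideal.span {α})
        (bot_lt_iff_ne_bot.2 (by simpa using hα0))
      exact Order.one_le_iff_pos.2 (lt_of_le_of_lt zero_le this)
    have h2 := Ideal.height_strict_mono_of_isPrime (I := Ideal.span {α}) (J := q) (lt_of_le_of_ne hle hne)
    calc (2 : ℕ∞) = 1 + 1 := rfl
      _ ≤ (Ideal.span {α}).height + 1 := by gcongr
      _ ≤ q.height := Order.add_one_le_of_lt h2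
  have hup : q.height ≤ 2 := by
    obtain ⟨g, hg⟩ := (IsPrincipalIdealRing.principal ((q.map π).comap e)).principal
    obtain ⟨r, hr⟩ := Ideal.Quotient.mk_surjective (e g)
    have hmap : q.map π = Ideal.span {π r} := by
      rw [← Ideal.map_comap_of_surjective (e : (A ⧸ m)[X] →+* _) e.surjective (q.map π)]
      change Ideal.map _ ((q.map π).comap e) = _
      rw [hg]
      exact (Ideal.map_span _ _).trans (by rw [Set.image_singleton, hr]; rfl)
    have hq2 : q = Ideal.span {α, r} := by
      have := congrArg (Ideal.comap π) hmap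
      rw [show Ideal.span {π r} = (Ideal.span {r}).map π from ((Ideal.map_span π _).trans (by rw [Set.image_singleton])).symm,
        Ideal.comap_map_of_surjective π Ideal.Quotient.mk_surjective,
        Ideal.comap_map_of_surjective π Ideal.Quotient.mk_surjective, ← RingHom.ker_eq_comap_bot,
        Ideal.mk_ker, sup_eq_left.2 hle, sup_comm] at this
      rw [this, ← Ideal.span_union, Set.singleton_union]
    refine (Ideal.height_le_spanFinrank q hq'.ne_top).trans ?_
    rw [hq2]
    exact_mod_cast (Submodule.spanFinrank_span_le_ncard_of_finite (by simp)).trans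
      ((Set.ncard_insert_le _ _).trans (by simp))
  rw [le_antisymm hup hlow]
  rfl

/-- colength drops -/
theorem Chart.residual [IsNoetherianRing A] [IsDomain A] [m.IsMaximal] (hG : Good m x y)
    (h : Chart x y R τ) {J : Ideal A} {N o : ℕ} (hJN : m ^ N ≤ J) (hJo : J ≤ m ^ o)
    (hJo' : ¬ J ≤ m ^ (o + 1)) (ho : 1 ≤ o) (K : Ideal R)
    (hK : ∀ r, r ∈ K ↔ algebraMap A R x ^ o * r ∈ J.map (algebraMap A R)) :
    (∀ q : Ideal R, q.IsPrime → K ≤ q → algebraMap A R x ∈ q ∧ q.IsMaximal) ∧
      Module.length A (R ⧸ K) < Module.length A (A ⧸ J) := by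
  letI := Ideal.Quotient.field m
  let α := algebraMap A R x
  have hαN : α ^ N ∈ K := by
    rw [hK]
    exact Ideal.mul_mem_left _ _ (map_pow (algebraMap A R) x N ▸
      Ideal.mem_map_of_mem _ (hJN (Ideal.pow_mem_pow hG.left_mem N)))
  obtain ⟨f, hfJ, hfo⟩ : ∃ f ∈ J, f ∉ m ^ (o + 1) := Set.not_subset.1 hJo'
  obtain ⟨p, hp, rfl⟩ := exists_hom hG.span o (hJo hfJ)
  have hpK : aeval τ p ∈ K := by
    rw [hK, ← h.map_hom hp]
    exact Ideal.mem_map_of_mem _ hfJ
  have hex : ∃ j, p.coeff j ∉ m := by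
    by_contra hcon
    push Not at hcon
    refine hfo (Ideal.sum_mem _ fun j hj => ?_)
    have hj' : j ≤ o := Nat.lt_succ_iff.1 (Finset.mem_range.1 hj)
    have h1 := Ideal.mul_mem_mul (Ideal.pow_mem_pow hG.right_mem j) (Ideal.pow_mem_pow hG.left_mem (o - j))
    rw [← pow_add, Nat.add_sub_cancel' hj'] at h1
    rw [mul_assoc, pow_succ']
    exact Ideal.mul_mem_mul (hcon j) h1
  refine ⟨fun q hq hKq => ?_, ?_⟩
  · have hαq : α ∈ q := hq.mem_of_pow_mem N (hKq hαN)
    refine ⟨hαq, ?_⟩
    obtain ⟨e, he⟩ := h.exists_quotEquiv hG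
    let π := Ideal.Quotient.mk (Ideal.span {α})
    have hle : Ideal.span {α} ≤ q := (Ideal.span_singleton_le_iff_mem _).2 hαq
    haveI hP : (q.map π).IsPrime :=
      Ideal.map_isPrime_of_surjective Ideal.Quotient.mk_surjective (by rwa [Ideal.mk_ker])
    haveI hP' : ((q.map π).comap e).IsPrime := Ideal.IsPrime.comap _
    have hne : (q.map π).comap e ≠ ⊥ := fun h0 => by
      obtain ⟨j, hj⟩ := hex
      have : p.map (Ideal.Quotient.mk m) ∈ (q.map π).comap e := by
        rw [Ideal.mem_comap, he]; exact Ideal.mem_map_of_mem _ (hKq hpK)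
      rw [h0, Submodule.mem_bot] at this
      refine hj (Ideal.Quotient.eq_zero_iff_mem.1 ?_)
      simpa using congrArg (fun g => g.coeff j) this
    haveI : ((q.map π).comap (e : (A ⧸ m)[X] →+* _)).IsMaximal := hP'.isMaximal hne
    haveI : (q.map π).IsMaximal := by
      rw [← Ideal.map_comap_of_surjective (e : (A ⧸ m)[X] →+* _) e.surjective (q.map π)]
      exact Ideal.map_isMaximal_of_equiv e
    have := Ideal.comap_isMaximal_of_surjective π Ideal.Quotient.mk_surjective (K := q.map π)
    rwa [Ideal.comap_map_of_surjective π Ideal.Quotient.mk_surjective, ← RingHom.ker_eq_comap_bot,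
      Ideal.mk_ker, sup_eq_left.2 hle] at this
  -- `m ^ o` maps onto `R / K`
  have hdvd : ∀ c : (m ^ o : Ideal A), ∃ r : R, algebraMap A R c = α ^ o * r := fun c => by
    obtain ⟨g, hg, hgc⟩ := exists_hom hG.span o c.2
    exact ⟨aeval τ g, by rw [← hgc, h.map_hom hg]⟩
  choose r hr using hdvd
  have hc : ∀ {s t : R}, α ^ o * s = α ^ o * t → s = t := fun he =>
    (mul_cancel_left_mem_nonZeroDivisors (pow_mem h.nzd o)).1 he
  let Φ : (m ^ o : Ideal A) →ₗ[A] R ⧸ K :=
    { toFun := fun c => Ideal.Quotient.mk K (r c)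
      map_add' := fun c d => by
        rw [← map_add]; congr 1
        exact hc (by rw [mul_add, ← hr, ← hr, ← hr, Submodule.coe_add, map_add])
      map_smul' := fun a c => by
        show Ideal.Quotient.mk K (r (a • c)) = a • Ideal.Quotient.mk K (r c)
        rw [← Ideal.Quotient.mkₐ_eq_mk A K, ← map_smul]
        congr 1
        exact hc (by rw [Algebra.smul_def, mul_left_comm, ← hr, ← hr, Submodule.coe_smul, smul_eq_mul, map_mul]) }
  let S : Submodule A (R ⧸ K) := LinearMap.range Φ
  let mk := Ideal.Quotient.mkₐ A K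
  obtain ⟨d, hdm, hdmax⟩ : ∃ d, p.coeff d ∉ m ∧ ∀ j, d < j → p.coeff j ∈ m := by
    classical
    obtain ⟨j, hj⟩ := hex
    have hne : (p.support.filter fun j => p.coeff j ∉ m).Nonempty :=
      ⟨j, Finset.mem_filter.2 ⟨mem_support_iff.2 fun h0 => hj (h0 ▸ zero_mem m), hj⟩⟩
    refine ⟨_, (Finset.mem_filter.1 (Finset.max'_mem _ hne)).2, fun i hi => ?_⟩
    by_contra hcon
    exact absurd (Finset.le_max' _ i (Finset.mem_filter.2
      ⟨mem_support_iff.2 fun h0 => hcon (h0 ▸ zero_mem m), hcon⟩)) (not_le.2 hi)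
  have hdo : d ≤ o := le_of_not_gt fun hgt => hdm (by
    rw [coeff_eq_zero_of_natDegree_lt (lt_of_le_of_lt hp hgt)]; exact zero_mem m)
  let T : Submodule A (R ⧸ K) := S ⊔ ((Ideal.span {α}).restrictScalars A).map mk.toLinearMap
  have hT : ∀ j, mk (τ ^ j) ∈ T := by
    intro j
    induction j using Nat.strong_induction_on with
    | _ j ih =>
    by_cases hj : j ≤ o
    · refine Submodule.mem_sup_left ⟨⟨hom x y o (X ^ j), hom_mem hG.left_mem hG.right_mem _ _⟩, ?_⟩
      show Ideal.Quotient.mk K (r _) = mk (τ ^ j)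
      rw [Ideal.Quotient.mkₐ_eq_mk]
      congr 1
      refine hc ((hr _).symm.trans ?_)
      show algebraMap A R (hom x y o (X ^ j)) = _
      rw [h.map_hom ((natDegree_X_pow_le j).trans hj), map_pow, aeval_X]
    · obtain ⟨u, hu⟩ := (Ideal.IsMaximal.exists_inv ‹m.IsMaximal› hdm)
      obtain ⟨w, hw, huw⟩ := hu
      have hα' : ∀ z ∈ Ideal.span {α}, mk z ∈ T := fun z hz => Submodule.mem_sup_right ⟨z, hz, rfl⟩
      have hm' : ∀ a ∈ m, ∀ z : R, algebraMap A R a * z ∈ Ideal.span {α} := fun a ha z =>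
        Ideal.mul_mem_right _ _ (h.map_eq hG ▸ Ideal.mem_map_of_mem _ ha)
      have hexp : aeval τ p = algebraMap A R (p.coeff d) * τ ^ d +
          ∑ i ∈ (Finset.range (o + 1)).erase d, algebraMap A R (p.coeff i) * τ ^ i := by
        rw [Finset.add_sum_erase _ (fun i => algebraMap A R (p.coeff i) * τ ^ i) (Finset.mem_range.2 (Nat.lt_succ_of_le hdo)),
          aeval_eq_sum_range' (Nat.lt_succ_of_le hp)]
        exact Finset.sum_congr rfl fun i _ => Algebra.smul_def _ _
      have hid : τ ^ j = algebraMap A R w * τ ^ j + algebraMap A R u * τ ^ (j - d) * aeval τ p -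
          ∑ i ∈ (Finset.range (o + 1)).erase d, algebraMap A R (u * p.coeff i) * τ ^ (j - d + i) := by
        have e1 : algebraMap A R u * algebraMap A R (p.coeff d) + algebraMap A R w = 1 := by
          rw [← map_mul, ← map_add, huw, map_one]
        have e2 : τ ^ j = τ ^ (j - d) * τ ^ d := by rw [← pow_add, Nat.sub_add_cancel (by omega)]
        rw [hexp, mul_add, Finset.mul_sum, Finset.sum_congr rfl (fun i _ => show
          algebraMap A R (u * p.coeff i) * τ ^ (j - d + i) =
            algebraMap A R u * τ ^ (j - d) * (algebraMap A R (p.coeff i) * τ ^ i) by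
          rw [map_mul, pow_add]; ring)]
        linear_combination -(τ ^ j) * e1 + algebraMap A R u * algebraMap A R (p.coeff d) * e2
      rw [hid, map_sub, map_add]
      refine T.sub_mem (T.add_mem (hα' _ (hm' w hw _)) ?_) ?_
      · rw [Ideal.Quotient.mkₐ_eq_mk, Ideal.Quotient.eq_zero_iff_mem.2 (K.mul_mem_left _ hpK)]
        exact T.zero_mem
      · rw [map_sum]
        refine T.sum_mem fun i hi => ?_
        by_cases hid' : i < d
        · rw [← Algebra.smul_def, map_smul]
          exact T.smul_mem _ (ih _ (by omega))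
        · refine hα' _ (hm' _ (Ideal.mul_mem_left _ _ (hdmax i ?_)) _)
          have := (Finset.mem_erase.1 hi).1
          omega
  have hall : ∀ z : R, mk z ∈ T := fun z => by
    obtain ⟨g, rfl⟩ := h.gen z
    rw [aeval_eq_sum_range, map_sum]
    exact T.sum_mem fun i _ => by rw [map_smul]; exact T.smul_mem _ (hT i)
  have hS : ∀ (k : ℕ) (z : R), ∃ s ∈ S, ∃ z' : R, mk z = s + mk (α ^ k * z') := by
    intro k
    induction k with
    | zero => exact fun z => ⟨0, S.zero_mem, z, by rw [zero_add, pow_zero, one_mul]⟩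
    | succ k ih =>
      intro z
      obtain ⟨s, hs, z', hz'⟩ := ih z
      obtain ⟨s', hs', _, ⟨w, hw, rfl⟩, hsw⟩ := Submodule.mem_sup.1 (hall z')
      obtain ⟨v, rfl⟩ := Ideal.mem_span_singleton.1 hw
      refine ⟨s + x ^ k • s', S.add_mem hs (S.smul_mem _ hs'), v, ?_⟩
      rw [hz', add_assoc]
      congr 1
      rw [map_mul, ← hsw, mul_add, show mk (α ^ k) = algebraMap A (R ⧸ K) (x ^ k) by
        rw [← AlgHom.commutes mk, ← map_pow], Algebra.smul_def]
      congr 1
      show _ * mk (α * v) = _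
      rw [← AlgHom.commutes mk, ← map_mul, map_pow, pow_succ, mul_assoc]
  have hsurj : Function.Surjective Φ := fun z => by
    obtain ⟨z, rfl⟩ := Ideal.Quotient.mk_surjective z
    obtain ⟨s, hs, z', hz'⟩ := hS N z
    rw [Ideal.Quotient.mkₐ_eq_mk, Ideal.Quotient.eq_zero_iff_mem.2 (K.mul_mem_right _ hαN), add_zero] at hz'
    exact hz' ▸ hs
  let J' : Submodule A (m ^ o : Ideal A) := Submodule.comap (m ^ o).subtype J
  let ι : (m ^ o : Ideal A) →ₗ[A] A ⧸ J := J.mkQ.comp (m ^ o).subtype
  have hker : LinearMap.ker ι = J' := by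
    show LinearMap.ker (J.mkQ.comp (m ^ o).subtype) = _
    rw [LinearMap.ker_comp, Submodule.ker_mkQ]
  have hJ' : J' ≤ LinearMap.ker Φ := fun c hc' => Ideal.Quotient.eq_zero_iff_mem.2 <| (hK _).2 <| by
    rw [← hr]; exact Ideal.mem_map_of_mem _ hc'
  haveI : IsArtinianRing (A ⧸ J) := by
    rw [isArtinianRing_iff_krullDimLE_zero, Ring.krullDimLE_zero_iff]
    intro P hP
    haveI := Ideal.IsPrime.comap (Ideal.Quotient.mk J) (K := P)
    have hmP : m ≤ P.comap (Ideal.Quotient.mk J) := fun z hz => by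
      refine Ideal.IsPrime.mem_of_pow_mem inferInstance N ?_
      rw [Ideal.mem_comap, Ideal.Quotient.eq_zero_iff_mem.2 (hJN (Ideal.pow_mem_pow hz N))]
      exact zero_mem P
    haveI : (P.comap (Ideal.Quotient.mk J)).IsMaximal :=
      (Ideal.IsMaximal.eq_of_le ‹m.IsMaximal› (Ideal.IsPrime.ne_top inferInstance) hmP) ▸ ‹m.IsMaximal›
    rw [← Ideal.map_comap_of_surjective (Ideal.Quotient.mk J) Ideal.Quotient.mk_surjective P]
    exact (Ideal.map_eq_top_or_isMaximal_of_surjective _ Ideal.Quotient.mk_surjective inferInstance).resolve_left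
      (by rw [Ideal.map_comap_of_surjective _ Ideal.Quotient.mk_surjective]; exact hP.ne_top)
  haveI : IsArtinian A (A ⧸ J) :=
    isArtinian_of_surjective_algebraMap (S := A) (R := A ⧸ J) (M := A ⧸ J) (Ideal.Quotient.mk_surjective (I := J))
  calc Module.length A (R ⧸ K)
      ≤ Module.length A ((m ^ o : Ideal A) ⧸ J') :=
        Module.length_le_of_surjective (J'.liftQ Φ hJ') fun z => by
          obtain ⟨c, rfl⟩ := hsurj z; exact ⟨Submodule.Quotient.mk c, rfl⟩
    _ = Module.length A (LinearMap.range ι) := (Submodule.quotEquivOfEq _ _ hker.symm ≪≫ₗ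
        ι.quotKerEquivRange).length_eq
    _ < Module.length A (A ⧸ J) := Submodule.length_lt fun htop => by
        obtain ⟨c, hc'⟩ := htop.ge (Submodule.mem_top (x := J.mkQ 1))
        have h1 := (Submodule.Quotient.eq J).1 (show J.mkQ (c : A) = J.mkQ 1 from hc')
        refine Ideal.IsMaximal.ne_top ‹m.IsMaximal› ((Ideal.eq_top_iff_one _).2 ?_)
        have h2 : m ^ o ≤ m := Ideal.pow_le_self (by omega)
        simpa using Ideal.sub_mem m (h2 c.2) (h2 (hJo h1))

end Groth.Agent.PtBlow
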