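import Groth.Agent.PtBlow.Model
import Groth.Agent.ProjLib.ClosedSub
import Groth.Agent.RelProjLib.ProjMap
import Groth.Agent.ProjMor.Sym
import Groth.Agent.ProjMor.IsoOfGens
import Groth.Agent.Nakai.PullIdeal
import Groth.Agent.MeroLib.Special
import Groth.Agent.ModPairCoprod.Basic
import Groth.Agent.BlowAmp.Ample
import Groth.Agent.S3554
import Groth.Agent.S4406
import Groth.Agent.S8914
import Groth.Prelude.Def_CohB1
import Groth.Prelude.Def_Twist2

/-!
The exceptional line of the blow-up of a maximal ideal generated by a quasi-regular pair: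
it is the projective line, with conormal sheaf `O(1)`.
-/

set_option autoImplicit false
set_option backward.isDefEq.respectTransparency false
set_option backward.isDefEq.respectTransparency.types false
set_option linter.style.haveILetI false

universe u

open CategoryTheory CategoryTheory.Limits AlgebraicGeometry TopologicalSpace HomogeneousLocalization
open Groth.Agent.QC (res resO app_res res_self res_res res_smul)

noncomputable section

namespace Groth.Agent.PtBlow

open Groth.Agent.BlowUpExist

theorem resO_mem_nonZeroDivisors {X : Scheme.{u}} {D V : X.Opens} (hD : IsAffineOpen D) (hV : IsAffineOpen V)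
    (h : V ≤ D) {f : Γ(X, D)} (hf : f ∈ nonZeroDivisors Γ(X, D)) : resO X h f ∈ nonZeroDivisors Γ(X, V) :=
  BlowUpLib.mem_nonZeroDivisors_map_of_flat _ (BlowUpLib.flat_res hD hV h) hf

/-- a section of an invertible ideal sheaf with the value of a generator is a generator -/
theorem isGen_of_ideal {X : Scheme.{u}} {E : X.IdealSheafData} (hE : BlowUp.IsEffCartierIdeal E)
    {D : X.affineOpens} {t : Γ(ClSub.idealMod E, D.1)} {f : Γ(X, D.1)}
    (hf : f = (ClSub.idealModι E).app D.1 t) (hnzd : f ∈ nonZeroDivisors Γ(X, D.1))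
    (hid : E.ideal D = Ideal.span {f}) : TMul.IsGen t := by
  refine MeroLib.isGen_of_locally t fun x hx => ?_
  obtain ⟨O, g, hxO, hg⟩ := TMul.exists_isGen ((Groth.Agent.S8914.result E).2 hE) x
  obtain ⟨V, hV, hxV, hVle⟩ := exists_isAffineOpen_mem_and_subset (x := x) (U := D.1 ⊓ O) ⟨hx, hxO⟩
  replace hVle : V ≤ D.1 ⊓ O := hVle
  have hVD : V ≤ D.1 := hVle.trans inf_le_left
  refine ⟨V, hVD, hxV, ?_⟩
  have hgV := hg.res (hVle.trans inf_le_right)
  obtain ⟨f', hf'⟩ : ∃ f' : Γ(X, V),
      f' = (ClSub.idealModι E).app V (res (ClSub.idealMod E) (hVle.trans inf_le_right) g) := ⟨_, rfl⟩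
  have h1 := ResDesc.ideal_eq_span_of_isGen E hV hgV hf'
  have h2 : E.ideal ⟨V, hV⟩ = Ideal.span {resO X hVD f} := by
    rw [← E.map_ideal (U := ⟨V, hV⟩) (V := D) hVD, hid, Ideal.map_span, Set.image_singleton]
    rfl
  obtain ⟨d, hd⟩ := (hgV V le_rfl).2 (res _ hVD t)
  simp only [res_self] at hd
  have hd' : resO X hVD f = d * f' := by
    rw [hf, hf']
    refine (app_res (ClSub.idealModι E) hVD t).trans ?_
    rw [← hd]
    exact BlowAmp.app_smul_ι E d _
  obtain ⟨e, he⟩ : ∃ e, e * resO X hVD f = f' :=
    Ideal.mem_span_singleton'.mp (h2 ▸ h1 ▸ Ideal.mem_span_singleton_self f')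
  have hu : IsUnit d := IsUnit.of_mul_eq_one_right e
    ((mul_cancel_right_mem_nonZeroDivisors (BlowAmp.mem_nonZeroDivisors_of_isGen E hgV hf')).mp
      (by rw [one_mul, mul_assoc, ← hd', he]))
  have h5 := TMul.isGen_smul hgV hu
  rwa [hd] at h5

variable {A : Type u} [CommRing A] {m : Ideal A} {x y : A}

/-- the generators -/
def gens (x y : A) : Fin 2 → A := ![x, y]

theorem gens_mem (hG : Good m x y) (i : Fin 2) : gens x y i ∈ m := by
  fin_cases i
  · exact hG.left_mem
  · exact hG.right_mem

theorem span_gens (hG : Good m x y) : m = Ideal.span (Set.range (gens x y)) := by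
  rw [hG.span]; congr 1; simp [gens, Set.pair_comm]

theorem pres_decompose (φ : CohB1.polyGrading 1 A →+*ᵍ Rees.deg (reesAlgebra m)) (F : MvPolynomial (Fin 2) A)
    (n : ℕ) : φ (DirectSum.decompose (CohB1.polyGrading 1 A) F n : MvPolynomial (Fin 2) A) =
      (DirectSum.decompose (Rees.deg (reesAlgebra m)) (φ F) n : reesAlgebra m) :=
  GradedRingHom.map_directSumDecompose (𝒜 := CohB1.polyGrading 1 A) (ℬ := Rees.deg (reesAlgebra m)) φ

local notation "𝒜" => Rees.deg (reesAlgebra m)

/-- the generators of the Rees algebra -/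
def tGen (hG : Good m x y) (i : Fin 2) : reesAlgebra m := tt m (gens x y i) (gens_mem hG i)

theorem aeval_mem_deg (hG : Good m x y) {n : ℕ} {F : MvPolynomial (Fin 2) A} (hF : F.IsHomogeneous n) :
    MvPolynomial.aeval (tGen hG) F ∈ 𝒜 n := by
  rw [MvPolynomial.as_sum F, map_sum]
  refine Submodule.sum_mem _ fun d hd => ?_
  rw [MvPolynomial.aeval_monomial, ← Algebra.smul_def]
  refine Submodule.smul_mem _ _ ?_
  rw [Finsupp.prod_fintype _ _ fun _ => pow_zero _, Fin.prod_univ_two]
  have h0 := SetLike.pow_mem_graded (A := 𝒜) (d 0) (tt_mem m (gens x y 0) (gens_mem hG 0))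
  have h1 := SetLike.pow_mem_graded (A := 𝒜) (d 1) (tt_mem m (gens x y 1) (gens_mem hG 1))
  have h := SetLike.mul_mem_graded h0 h1
  have hn : n = d 0 • 1 + d 1 • 1 := by
    rw [hF.degree_eq_sum_deg_support hd]
    rw [Finset.sum_subset (Finset.subset_univ d.support) (fun i _ h => Finsupp.notMem_support_iff.1 h), Fin.sum_univ_two]
    simp
  rw [hn]
  exact h

/-- the presentation of the Rees algebra -/
def reesPres (hG : Good m x y) : CohB1.polyGrading 1 A →+*ᵍ 𝒜 :=
  { (MvPolynomial.aeval (tGen hG)).toRingHom with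
    map_mem := fun {_} _ hz => aeval_mem_deg hG hz }

theorem reesPres_surjective (hG : Good m x y) : Function.Surjective (reesPres hG) := by
  intro w
  have hle : reesAlgebra m ≤ ((reesAlgebra m).val.comp (MvPolynomial.aeval (tGen hG))).range := by
    refine (adjoin_monomial_eq_reesAlgebra m).symm.le.trans (Algebra.adjoin_le ?_)
    rintro _ ⟨c, hc, rfl⟩
    obtain ⟨u, v, rfl⟩ := Ideal.mem_span_pair.1 (hG.span ▸ hc : c ∈ Ideal.span {x, y})
    refine ⟨MvPolynomial.C u * MvPolynomial.X 0 + MvPolynomial.C v * MvPolynomial.X 1, ?_⟩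
    simp [tGen, gens, tt, mono, Polynomial.C_mul_monomial]
  obtain ⟨F, hF⟩ := hle w.2
  exact ⟨F, Subtype.ext hF⟩

theorem map_eq_zero_of_reesPres_eq_zero (hG : Good m x y) {k : Type u} [CommRing k] (π : A →+* k)
    (hπ : RingHom.ker π = m) {F : MvPolynomial (Fin 2) A} (hF : reesPres hG F = 0) :
    MvPolynomial.map π F = 0 := by
  have hcomp : ∀ n, MvPolynomial.map π (MvPolynomial.homogeneousComponent n F) = 0 := by
    intro n
    set G := MvPolynomial.homogeneousComponent n F with hGdef
    have hGn : G.IsHomogeneous n := MvPolynomial.homogeneousComponent_isHomogeneous n F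
    have h0 : MvPolynomial.aeval (tGen hG) G = 0 := by
      have h1 := pres_decompose (reesPres hG) F n
      have h2 : (DirectSum.decompose (CohB1.polyGrading 1 A) F n : MvPolynomial (Fin 2) A) = G :=
        MvPolynomial.decomposition.decompose'_apply F n
      rw [h2, hF] at h1
      have h1' : reesPres hG G = 0 := by simpa using h1
      exact h1'
    have h3 : MvPolynomial.eval (gens x y) G = 0 := by
      have h4 : (ev1 m).comp (MvPolynomial.aeval (tGen hG)).toRingHom = MvPolynomial.eval (gens x y) :=
        MvPolynomial.ringHom_ext (fun c => by simp [ev1_algebraMap]) (fun i => by simp [tGen, ev1_tt])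
      rw [← h4, RingHom.comp_apply]
      show ev1 m (MvPolynomial.aeval (tGen hG) G) = 0
      rw [h0, map_zero]
    let p : Polynomial A := ∑ d ∈ G.support, Polynomial.monomial (d 1) (G.coeff d)
    have hdeg : ∀ d ∈ G.support, d 0 + d 1 = n := fun d hd => by
      rw [hGn.degree_eq_sum_deg_support hd, Finset.sum_subset (Finset.subset_univ d.support) (fun i _ h => Finsupp.notMem_support_iff.1 h), Fin.sum_univ_two]
    have hpcoeff : ∀ d ∈ G.support, p.coeff (d 1) = G.coeff d := fun d hd => by
      rw [Polynomial.finset_sum_coeff, Finset.sum_eq_single d]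
      · rw [Polynomial.coeff_monomial, if_pos rfl]
      · intro d' hd' hne
        rw [Polynomial.coeff_monomial, if_neg]
        refine fun h => hne (Finsupp.ext fun i => ?_)
        have h5 := hdeg d hd
        have h6 := hdeg d' hd'
        fin_cases i
        · show d' 0 = d 0; omega
        · exact h
      · exact fun h => absurd hd h
    have hpn : p.natDegree ≤ n := Polynomial.natDegree_sum_le_of_forall_le _ _ fun d hd =>
      (Polynomial.natDegree_monomial_le _).trans (by have := hdeg d hd; omega)
    have hhom : hom x y n p = MvPolynomial.eval (gens x y) G := by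
      rw [MvPolynomial.eval_eq']
      simp only [hom, p, Polynomial.finset_sum_coeff, Finset.sum_mul]
      rw [Finset.sum_comm]
      refine Finset.sum_congr rfl fun d hd => ?_
      have h5 := hdeg d hd
      rw [Finset.sum_eq_single (d 1)]
      · rw [Polynomial.coeff_monomial, if_pos rfl, Fin.prod_univ_two, show n - d 1 = d 0 by omega]
        simp [gens]; ring
      · intro j _ hj
        rw [Polynomial.coeff_monomial, if_neg (Ne.symm hj), zero_mul, zero_mul]
      · intro h; exact absurd (Finset.mem_range.2 (by omega)) h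
    have hmem : hom x y n p ∈ m ^ (n + 1) := by rw [hhom, h3]; exact zero_mem _
    have hcoeff := hG.qr n p hpn hmem
    refine MvPolynomial.ext _ _ fun d => ?_
    rw [MvPolynomial.coeff_map, MvPolynomial.coeff_zero, ← RingHom.mem_ker, hπ]
    by_cases hd : d ∈ G.support
    · exact hpcoeff d hd ▸ hcoeff (d 1)
    · rw [MvPolynomial.notMem_support_iff.1 hd]; exact zero_mem _
  rw [← MvPolynomial.sum_homogeneousComponent F, map_sum]
  exact Finset.sum_eq_zero fun n _ => hcomp n

variable {k : Type u} [CommRing k] (π : A →+* k)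

theorem ker_specMap_of_surjective {R S : Type u} [CommRing R] [CommRing S] (γ : R →+* S)
    (hγ : Function.Surjective γ) : (Spec.map (CommRingCat.ofHom γ)).ker = sheafOf (RingHom.ker γ) := by
  let e := RingHom.quotientKerEquivOfSurjective hγ
  have h : CommRingCat.ofHom γ = CommRingCat.ofHom (Ideal.Quotient.mk (RingHom.ker γ)) ≫ e.toCommRingCatIso.hom := by
    refine CommRingCat.hom_ext (RingHom.ext fun a => ?_)
    rfl
  rw [h, Spec.map_comp]
  exact (Scheme.Hom.ker_comp_of_isIso _ _).trans (BlowExc.ker_specMap_mk _)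

/-- reduction of a polynomial ring -/
def mapGrad : CohB1.polyGrading 1 A →+*ᵍ CohB1.polyGrading 1 k :=
  { MvPolynomial.map π with map_mem := fun {_} _ hz => MvPolynomial.IsHomogeneous.map hz π }

theorem exists_reduction (hG : Good m x y) (hπ : Function.Surjective π) (hker : RingHom.ker π = m) :
    ∃ ψ : 𝒜 →+*ᵍ CohB1.polyGrading 1 k, Function.Surjective ψ ∧ ψ.comp (reesPres hG) = mapGrad π := by
  have hs := reesPres_surjective hG
  let α : MvPolynomial (Fin 2) A →+* reesAlgebra m := (MvPolynomial.aeval (tGen hG)).toRingHom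
  have hs' : Function.Surjective α := hs
  let e : reesAlgebra m →+* MvPolynomial (Fin 2) k :=
    RingHom.liftOfSurjective α hs'
      ⟨MvPolynomial.map π, fun F hF => map_eq_zero_of_reesPres_eq_zero hG π hker hF⟩
  have he : ∀ F, e (reesPres hG F) = MvPolynomial.map π F := fun F =>
    RingHom.liftOfSurjective_comp_apply α hs' _ F
  have hmem : ∀ {n : ℕ} {w : reesAlgebra m}, w ∈ 𝒜 n → e w ∈ CohB1.polyGrading 1 k n := by
    intro n w hw
    obtain ⟨F, rfl⟩ := hs w
    have h1 := pres_decompose (reesPres hG) F n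
    rw [DirectSum.decompose_of_mem_same _ hw] at h1
    rw [← h1, he]
    exact MvPolynomial.IsHomogeneous.map (DirectSum.decompose (CohB1.polyGrading 1 A) F n).2 π
  refine ⟨{ e with map_mem := fun {_} _ hw => hmem hw }, fun F => ?_, ?_⟩
  · obtain ⟨G, rfl⟩ := MvPolynomial.map_surjective π hπ F
    exact ⟨reesPres hG G, he G⟩
  · exact GradedRingHom.ext fun F => he F

/-- The exceptional line. -/
theorem exists_line [IsDomain A] [IsNoetherianRing A] [IsDomain k] (hG : Good m x y) (hm : m ≠ ⊤)
    (hπ : Function.Surjective π) (hker : RingHom.ker π = m) :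
    ∃ (c : CohB1.ProjSpace 1 k ⟶ Proj 𝒜) (r : Proj 𝒜 ⟶ CohB1.ProjSpace 1 A),
      IsClosedImmersion c ∧ IsClosedImmersion r ∧ r ≫ CohB1.ProjSpace.toSpec 1 A = structMap m ∧
      c ≫ structMap m = CohB1.ProjSpace.toSpec 1 k ≫ Spec.map (CommRingCat.ofHom π) ∧
      c.ker = (sheafOf m).comap (structMap m) ∧
      Nonempty ((Scheme.Modules.pullback r).obj (Twist.twistProjSpace 1 A 1) ≅
        ClSub.idealMod ((sheafOf m).comap (structMap m))) ∧
      Nonempty ((Scheme.Modules.pullback c).obj (ClSub.idealMod ((sheafOf m).comap (structMap m))) ≅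
        Twist.twistProjSpace 1 k 1) := by
  obtain ⟨ψ, hψs, hψ⟩ := exists_reduction π hG hπ hker
  let φ := reesPres hG
  have hφs : Function.Surjective φ := reesPres_surjective hG
  have hφi := ProjLib.irrelevant_le_map_of_surjective (CohB1.polyGrading 1 A) φ hφs
  have hψi := ProjLib.irrelevant_le_map_of_surjective 𝒜 ψ hψs
  let r := Proj.map φ hφi
  let c := Proj.map ψ hψi
  letI := π.toAlgebra
  letI : Algebra (MvPolynomial (Fin 2) A) (MvPolynomial (Fin 2) k) := MvPolynomial.algebraMvPolynomial
  have hr : r ≫ CohB1.ProjSpace.toSpec 1 A = structMap m := by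
    have h := RelProjLib.map_toBase φ hφi
      (CommRingCat.ofHom (algebraMap A (CohB1.polyGrading 1 A 0)))
      (CommRingCat.ofHom (algebraMap A (𝒜 0))) (𝟙 (CommRingCat.of A))
      (by
        refine CommRingCat.hom_ext (RingHom.ext fun a => Subtype.ext ?_)
        exact (MvPolynomial.aeval (tGen hG)).commutes a)
    rw [Spec.map_id, Category.comp_id] at h
    exact h
  have hcomp : c ≫ r = Proj.map (mapGrad π) (
      ProjLib.irrelevant_le_map_of_surjective (CohB1.polyGrading 1 A) (mapGrad π) (MvPolynomial.map_surjective π hπ)) := by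
    have key : ∀ (χ : CohB1.polyGrading 1 A →+*ᵍ CohB1.polyGrading 1 k) (hχ), χ = ψ.comp φ →
        Proj.map χ hχ = c ≫ r := by
      rintro χ hχ rfl
      exact Proj.map_comp φ ψ hφi hψi
    exact (key _ _ hψ.symm).symm
  have hbc := Groth.Agent.S3554.result (R := k) (R' := A) (CohB1.polyGrading 1 A) (CohB1.polyGrading 1 k)
    (mapGrad π) (fun _ => rfl)
    (ProjLib.irrelevant_le_map_of_surjective (CohB1.polyGrading 1 A) (mapGrad π) (MvPolynomial.map_surjective π hπ))
  have hc : c ≫ structMap m = CohB1.ProjSpace.toSpec 1 k ≫ Spec.map (CommRingCat.ofHom π) := by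
    rw [← hr, ← Category.assoc, hcomp]
    exact hbc.w
  let S := structMap m
  let E := (sheafOf m).comap S
  have hE : BlowUp.IsEffCartierIdeal E := cartier_comap_structMap m
  -- kernel of `c`
  have hkerc : c.ker = E := by
    let 𝒰 := (Proj.affineOpenCoverOfIrrelevantLESpan 𝒜
      (fun i : Fin 2 => tt m (gens x y i) (gens_mem hG i)) (m := fun _ => 1)
      (fun i => tt_mem m _ _) (fun _ => one_pos) (KoszBlow.irrelevant_le_gens (gens x y) (span_gens hG))).openCover
    have key : ∀ i : Fin 2, c.ker.comap (chart m (gens x y i) (gens_mem hG i)) =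
        E.comap (chart m (gens x y i) (gens_mem hG i)) := by
      intro i
      haveI := ProjLib.isClosedImmersion_map 𝒜 ψ hψi hψs
      have hP := ProjLib.isPullback_awayι 𝒜 ψ hψi (tt_mem m (gens x y i) (gens_mem hG i)) one_pos
      rw [← show _ = c.ker.comap (chart m (gens x y i) (gens_mem hG i)) from
        AlmostBlow.ker_of_isPullback hP.flip]
      rw [← Scheme.IdealSheafData.comap_comp, chart_structMap]
      let γ := HomogeneousLocalization.Away.map ψ (tt m (gens x y i) (gens_mem hG i))
      let α := fromA m (gens x y i) (gens_mem hG i) (gens x y i)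
      have hψa : ∀ a : A, ψ (algebraMap A (reesAlgebra m) a) = MvPolynomial.C (π a) := fun a => by
        have e1 : φ (MvPolynomial.C a) = algebraMap A (reesAlgebra m) a :=
          (MvPolynomial.aeval (tGen hG)).commutes a
        rw [← e1, ← GradedRingHom.comp_apply, hψ]
        exact MvPolynomial.map_C π a
      have hψt : ψ (tt m (gens x y i) (gens_mem hG i)) = MvPolynomial.X i := by
        have e1 : φ (MvPolynomial.X i) = tt m (gens x y i) (gens_mem hG i) := MvPolynomial.aeval_X _ i
        rw [← e1, ← GradedRingHom.comp_apply, hψ]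
        exact MvPolynomial.map_X π i
      have hγ : RingHom.ker γ = m.map (fromA m (gens x y i) (gens_mem hG i)) := by
        rw [map_fromA_eq]
        refine le_antisymm (fun z hz => ?_) ?_
        · obtain ⟨n, w, hw, rfl⟩ := Away.mk_surjective 𝒜 (tt_mem m (gens x y i) (gens_mem hG i)) z
          obtain ⟨j, hj⟩ := (ProjLib.away_map_mk_eq_zero_iff 𝒜 ψ _ n w hw).1 hz
          rw [map_mul, map_pow, hψt, mul_eq_zero, or_iff_right (pow_ne_zero _ (MvPolynomial.X_ne_zero i))] at hj
          have hw' : w ∈ 𝒜 n := by simpa using hw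
          have hcn : ev1 m w ∈ m ^ n := by rw [eq_mono_of_mem m hw', ev1_mono]; exact coeff_mem m n w
          obtain ⟨F, hF⟩ := hφs w
          have hFz : MvPolynomial.map π F = 0 := by
            rw [← hj, ← hF, ← GradedRingHom.comp_apply, hψ]; rfl
          have h1 : ev1 m w ∈ m ^ (n + 1) := by
            have e := pres_decompose φ F n
            rw [hF, DirectSum.decompose_of_mem_same _ hw'] at e
            set G := (DirectSum.decompose (CohB1.polyGrading 1 A) F n : MvPolynomial (Fin 2) A) with hGdef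
            have hGhom : G.IsHomogeneous n := (DirectSum.decompose (CohB1.polyGrading 1 A) F n).2
            have h4 : (ev1 m).comp (MvPolynomial.aeval (tGen hG)).toRingHom = MvPolynomial.eval (gens x y) :=
              MvPolynomial.ringHom_ext (fun c => by simp [ev1_algebraMap]) (fun i => by simp [tGen, ev1_tt])
            rw [← e]
            show (ev1 m).comp (MvPolynomial.aeval (tGen hG)).toRingHom G ∈ _
            rw [h4, MvPolynomial.eval_eq']
            refine Ideal.sum_mem _ fun d hd => ?_
            rw [pow_succ']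
            refine Ideal.mul_mem_mul ?_ ?_
            · rw [← hker, RingHom.mem_ker]
              have hdn : Finsupp.degree d = n := (hGhom.degree_eq_sum_deg_support hd).symm
              have hc : G.coeff d = F.coeff d := by
                rw [show G = MvPolynomial.homogeneousComponent n F from MvPolynomial.decomposition.decompose'_apply F n,
                  MvPolynomial.coeff_homogeneousComponent, if_pos hdn]
              rw [hc, ← MvPolynomial.coeff_map, hFz, MvPolynomial.coeff_zero]
            · rw [Fin.prod_univ_two]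
              have := Ideal.mul_mem_mul (Ideal.pow_mem_pow (gens_mem hG 0) (d 0)) (Ideal.pow_mem_pow (gens_mem hG 1) (d 1))
              rw [← pow_add] at this
              have hdn : n = d 0 + d 1 := by
                rw [hGhom.degree_eq_sum_deg_support hd, Finset.sum_subset (Finset.subset_univ d.support) (fun i _ h => Finsupp.notMem_support_iff.1 h), Fin.sum_univ_two]
              rwa [hdn]
          obtain ⟨q, hq⟩ := Ideal.mem_span_singleton'.1
            (pow_mem_span m _ (map_fromA_eq m (gens x y i) (gens_mem hG i)).le h1)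
          have h2 := val_mul_pow m (gens x y i) (gens_mem hG i) n w hw
          rw [Ideal.mem_span_singleton']
          refine ⟨q, (mul_cancel_right_mem_nonZeroDivisors (pow_mem (fromA_mem_nonZeroDivisors m (gens x y i) (gens_mem hG i)) n)).1 ?_⟩
          rw [map_pow] at h2
          rw [h2, ← hq, pow_succ, mul_assoc]
          congr 1
          exact HomogeneousLocalization.val_injective _ (by
            simp only [HomogeneousLocalization.val_mul]; exact _root_.mul_comm _ _)
        · rw [Ideal.span_le, Set.singleton_subset_iff, SetLike.mem_coe, RingHom.mem_ker]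
          refine HomogeneousLocalization.val_injective _ ?_
          simp only [γ, fromA, RingHom.comp_apply, RelProjLib.away_map_fromZero, HomogeneousLocalization.val_zero,
            RelProjLib.val_fromZero]
          have h0 : (ψ (algebraMap A (reesAlgebra m) (gens x y i))) = 0 := by
            rw [hψa, RingHom.mem_ker.1 (hker ▸ gens_mem hG i : gens x y i ∈ RingHom.ker π), map_zero]
          show algebraMap _ _ (ψ (algebraMap A (reesAlgebra m) (gens x y i))) = 0
          rw [h0, map_zero]
      rw [ker_specMap_of_surjective γ (ProjLib.away_map_surjective 𝒜 ψ hψs (tt_mem m _ _)), hγ]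
      exact (Scheme.IdealSheafData.equivOfIsAffine).injective
        ((ideal_comap_specMap m (fromA m (gens x y i) (gens_mem hG i))).trans
          ((Scheme.IdealSheafData.equivOfIsAffine).apply_symm_apply _).symm).symm
    exact le_antisymm (ModPairCoprod.le_of_cover 𝒰 fun i => (key i).le)
      (ModPairCoprod.le_of_cover 𝒰 fun i => (key i).ge)
  -- the line bundle
  have hsec : ∀ i : Fin 2, ∃ t : Γ(ClSub.idealMod E, ⊤),
      (ClSub.idealModι E).app ⊤ t = ProjUP.toGlobal S (gens x y i) := by
    intro i
    let W : (Spec (CommRingCat.of A)).affineOpens := ⟨⊤, isAffineOpen_top _⟩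
    have hmem : (Scheme.ΓSpecIso (CommRingCat.of A)).inv.hom (gens x y i) ∈ (sheafOf m).ideal W := by
      rw [show (sheafOf m).ideal W = _ from (Scheme.IdealSheafData.equivOfIsAffine).apply_symm_apply _]
      exact Ideal.mem_map_of_mem _ (gens_mem hG i)
    obtain ⟨t, ht⟩ := BlowAmp.exists_section (b := S) W ⟨_, hmem⟩
    exact ⟨t, ht⟩
  choose t ht using hsec
  have hX : ∀ i : Fin 2, (MvPolynomial.X i : MvPolynomial (Fin 2) A) ∈ CohB1.polyGrading 1 A 1 :=
    MvPolynomial.isHomogeneous_X A
  have hA1 := ProjMor.genDegOne_projSpace 1 A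
  let U : Fin 2 → (Proj 𝒜).Opens := fun i => Proj.basicOpen 𝒜 (tt m (gens x y i) (gens_mem hG i))
  have hrU : ∀ i, r ⁻¹ᵁ Proj.basicOpen (CohB1.polyGrading 1 A) (MvPolynomial.X i) = U i := fun i => by
    rw [Proj.map_preimage_basicOpen]
    exact congrArg _ (MvPolynomial.aeval_X _ i)
  -- the ratio on a chart
  let co : ∀ i j : Fin 2, Γ(Proj 𝒜, U i) := fun i j =>
    GrT.deh 𝒜 (tt_mem m (gens x y i) (gens_mem hG i)) (tt m (gens x y j) (gens_mem hG j))
  have hco : ∀ i j, ProjMor.ev r _ (U i) (hrU i).ge
      (GrT.deh (CohB1.polyGrading 1 A) (hX i) (MvPolynomial.X j)) = co i j := by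
    intro i j
    have key : ∀ (g : reesAlgebra m) (hg : g ∈ 𝒜 1) (hgeq : φ (MvPolynomial.X i) = g)
        (hle : Proj.basicOpen 𝒜 g ≤ r ⁻¹ᵁ Proj.basicOpen (CohB1.polyGrading 1 A) (MvPolynomial.X i)),
        ProjMor.ev r _ _ hle (GrT.deh (CohB1.polyGrading 1 A) (hX i) (MvPolynomial.X j)) =
          GrT.deh 𝒜 hg (φ (MvPolynomial.X j)) := by
      rintro g hg rfl hle
      rw [GrT.deh_of_mem _ (hX i) (hX j), GrT.deh_of_mem _ hg (Graded.map_mem φ (hX j))]
      have h := congr($(Proj.awayToSection_comp_appLE φ hφi (hX i))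
        (HomogeneousLocalization.Away.mk _ (hX i) 1 (MvPolynomial.X j) (GrT.mem_smul_one _ (hX j))))
      rw [ConcreteCategory.comp_apply, ConcreteCategory.comp_apply] at h
      erw [HomogeneousLocalization.Away.map_mk] at h
      exact h
    have e1 : φ (MvPolynomial.X j) = tt m (gens x y j) (gens_mem hG j) := MvPolynomial.aeval_X _ j
    have := key _ (tt_mem m (gens x y i) (gens_mem hG i)) (MvPolynomial.aeval_X _ i) (hrU i).ge
    rw [e1] at this
    exact this
  have hconst : ∀ (i : Fin 2) (a : A), resO (Proj 𝒜) le_top (ProjUP.toGlobal S a) =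
      GrT.deh 𝒜 (tt_mem m (gens x y i) (gens_mem hG i)) (algebraMap A (reesAlgebra m) a) :=
    fun i a => ProjMor.res_toGlobal_base 𝒜 (tt_mem m (gens x y i) (gens_mem hG i)) a
  have hmul : ∀ i j, resO (Proj 𝒜) le_top (ProjUP.toGlobal S (gens x y j)) =
      co i j * resO (Proj 𝒜) (le_top : U i ≤ ⊤) (ProjUP.toGlobal S (gens x y i)) := by
    intro i j
    rw [hconst i, hconst i, ← map_mul]
    have e : tt m (gens x y j) (gens_mem hG j) * algebraMap A (reesAlgebra m) (gens x y i) =
        tt m (gens x y i) (gens_mem hG i) * algebraMap A (reesAlgebra m) (gens x y j) := Subtype.ext (by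
      simp [tt, mono, Polynomial.monomial_mul_C, mul_comm])
    rw [e, map_mul, GrT.deh_self, one_mul]
  have hUaff : ∀ i, IsAffineOpen (U i) := fun i => ProjLib.isAffineOpen_basicOpen 𝒜 (tt_mem m _ _) one_pos
  have hιt : ∀ (i : Fin 2) (D : (Proj 𝒜).Opens), (ClSub.idealModι E).app D (res _ (le_top : D ≤ ⊤) (t i)) =
      resO (Proj 𝒜) le_top (ProjUP.toGlobal S (gens x y i)) := fun i D =>
    ((app_res (ClSub.idealModι E) (le_top : D ≤ ⊤) (t i)).symm).trans (congrArg _ (ht i))
  have hid : ∀ i, E.ideal ⟨U i, hUaff i⟩ =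
      Ideal.span {resO (Proj 𝒜) (le_top : U i ≤ ⊤) (ProjUP.toGlobal S (gens x y i))} := by
    intro i
    rw [FpqcDescent.ideal_comap_appLE (sheafOf m) S ⟨⊤, isAffineOpen_top _⟩ ⟨U i, hUaff i⟩ le_top,
      show (sheafOf m).ideal ⟨⊤, isAffineOpen_top _⟩ = _ from (Scheme.IdealSheafData.equivOfIsAffine).apply_symm_apply _,
      Ideal.map_map]
    have hb : ∀ a, ((S.appLE ⊤ (U i) le_top).hom.comp (Scheme.ΓSpecIso (CommRingCat.of A)).inv.hom) a =
        resO (Proj 𝒜) le_top (ProjUP.toGlobal S a) := fun a => by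
      simp only [RingHom.comp_apply, ProjUP.toGlobal, Scheme.Hom.appTop, Scheme.Hom.appLE, resO]
      rfl
    refine le_antisymm (Ideal.map_le_iff_le_comap.2 ?_) ((Ideal.span_singleton_le_iff_mem _).2 ?_)
    · conv_lhs => rw [span_gens hG]
      rw [Ideal.span_le]
      rintro _ ⟨j, rfl⟩
      rw [SetLike.mem_coe, Ideal.mem_comap, hb, hmul i j]
      exact Ideal.mul_mem_left _ _ (Ideal.mem_span_singleton_self _)
    · rw [← hb]; exact Ideal.mem_map_of_mem _ (gens_mem hG i)
  have hgen : ∀ i, TMul.IsGen (res (ClSub.idealMod E) (le_top : U i ≤ ⊤) (t i)) := fun i => by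
    refine isGen_of_ideal hE (D := ⟨U i, hUaff i⟩) (hιt i (U i)).symm ?_ (hid i)
    rw [hconst i, GrT.deh_of_mem 𝒜 _ (n := 0) (SetLike.algebraMap_mem_graded 𝒜 _)]
    have hb := ProjLib.awayToSection_bijective 𝒜 (tt_mem m (gens x y i) (gens_mem hG i)) one_pos
    refine mem_nonZeroDivisors_iff_right.2 fun z hz => ?_
    obtain ⟨w, rfl⟩ := hb.2 z
    rw [← (Proj.awayToSection 𝒜 (tt m (gens x y i) (gens_mem hG i))).hom.map_zero]
    refine congrArg _ ((fromA_mem_nonZeroDivisors m (gens x y i) (gens_mem hG i)).2 w (hb.1 ?_))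
    rw [map_mul, map_zero]
    refine Eq.trans ?_ hz
    congr 1
  let P : TMul.GenPair ((Scheme.Modules.pullback r).obj (Twist.twistProjSpace 1 A 1)) (ClSub.idealMod E)
      (ULift.{u} (Fin 2)) :=
    { U := fun i => U i.down
      cover := fun p => by
        have := (Proj.iSup_basicOpen_eq_top 𝒜 _ (KoszBlow.irrelevant_le_gens (gens x y) (span_gens hG))).ge
          (Set.mem_univ p)
        obtain ⟨i, hi⟩ := TopologicalSpace.Opens.mem_iSup.1 this
        exact ⟨⟨i⟩, hi⟩
      e := fun i => ProjMor.pull1 r (hX i.down)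
      f := fun i => t i.down
      he := fun i => ProjMor.isGen_pull1 hA1 r (hX i.down) (hrU i.down).ge
      hf := fun i => hgen i.down
      hc := fun ⟨i⟩ ⟨j⟩ => by
        refine ⟨resO (Proj 𝒜) inf_le_left (co i j), ?_, ?_⟩
        · have h := congrArg (res _ (inf_le_left : U i ⊓ U j ≤ U i))
            (ProjMor.res_pull1 r (hX i) (hX j) (hrU i).ge)
          rw [res_res, res_smul, res_res, hco i j] at h
          exact h
        · refine QC.app_injective_of_mono (ClSub.idealModι E) _ ?_
          refine (hιt j _).trans (Eq.trans ?_ (BlowAmp.app_smul_ι E _ _).symm)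
          rw [hιt i]
          have h := congrArg (resO (Proj 𝒜) (inf_le_left : U i ⊓ U j ≤ U i)) (hmul i j)
          rw [map_mul, QC.resO_resO, QC.resO_resO] at h
          exact h }
  obtain ⟨hpb⟩ : Nonempty ((Scheme.Modules.pullback (Proj.map (mapGrad π)
      (ProjLib.irrelevant_le_map_of_surjective (CohB1.polyGrading 1 A) (mapGrad π) (MvPolynomial.map_surjective π hπ)))).obj
      (Twist.twistProjSpace 1 A 1) ≅ Twist.twistProjSpace 1 k 1) :=
    Groth.Agent.S4406.result (R := k) (R' := A) (CohB1.polyGrading 1 A) (CohB1.polyGrading 1 k)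
      (mapGrad π) (fun _ => rfl) _ 1
  refine ⟨c, r, ProjLib.isClosedImmersion_map 𝒜 ψ hψi hψs, ProjLib.isClosedImmersion_map _ φ hφi hφs, hr, hc,
    hkerc, ⟨P.iso⟩, ⟨?_⟩⟩
  exact (Scheme.Modules.pullback c).mapIso P.iso.symm ≪≫ (Scheme.Modules.pullbackComp c r).app _ ≪≫
    (Scheme.Modules.pullbackCongr hcomp).app _ ≪≫ hpb

end Groth.Agent.PtBlow
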