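import Groth.Agent.PtBlow.Birat

/-!
A proper birational morphism of regular surfaces which is not an isomorphism over a point factors through the
blow-up of that point.
-/

set_option autoImplicit false
set_option backward.isDefEq.respectTransparency false
set_option backward.isDefEq.respectTransparency.types false
set_option linter.style.haveILetI false

universe u

open CategoryTheory CategoryTheory.Limits AlgebraicGeometry TopologicalSpace

noncomputable section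

namespace Groth.Agent.PtBlow

theorem appLE_congr_hom {A B : Scheme.{u}} {f g : A ⟶ B} (h : f = g) (U : B.Opens) (V : A.Opens)
    (e : V ≤ f ⁻¹ᵁ U) (e' : V ≤ g ⁻¹ᵁ U) (a : Γ(B, U)) : f.appLE U V e a = g.appLE U V e' a := by
  subst h; rfl

/-- two sections agreeing upstairs: membership in the square of the maximal ideal descends along an iso stalk map -/
theorem mem_sq_of_eq {W X Z : Scheme.{u}} (h : W ⟶ X) (p : W ⟶ Z) (w : W) {x : X} (hwx : h w = x)
    {V : X.Opens} (hxV : x ∈ V) {G : Z.Opens} (hwG : p w ∈ G) {O : W.Opens} (hwO : w ∈ O)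
    (e₁ : O ≤ h ⁻¹ᵁ V) (e₂ : O ≤ p ⁻¹ᵁ G) (a : Γ(X, V)) (b : Γ(Z, G))
    (heq : h.appLE V O e₁ a = p.appLE G O e₂ b) [IsIso (p.stalkMap w)]
    (ha : X.presheaf.germ V x hxV a ∈ IsLocalRing.maximalIdeal (X.presheaf.stalk x) ^ 2) :
    Z.presheaf.germ G (p w) hwG b ∈ IsLocalRing.maximalIdeal (Z.presheaf.stalk (p w)) ^ 2 := by
  subst hwx
  have hle : (IsLocalRing.maximalIdeal (X.presheaf.stalk (h w))).map (h.stalkMap w).hom ≤
      IsLocalRing.maximalIdeal (W.presheaf.stalk w) := Ideal.map_le_iff_le_comap.2 fun z hz => fun hu => hz (isUnit_of_map_unit (h.stalkMap w).hom z hu)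
  have h1 : W.presheaf.germ O w hwO (h.appLE V O e₁ a) ∈ IsLocalRing.maximalIdeal (W.presheaf.stalk w) ^ 2 := by
    have := Ideal.mem_map_of_mem (h.stalkMap w).hom ha
    rw [Ideal.map_pow, Scheme.Hom.germ_stalkMap_apply] at this
    rw [Scheme.Hom.appLE, CommRingCat.comp_apply, TopCat.Presheaf.germ_res_apply]
    exact Ideal.pow_right_mono hle 2 this
  rw [heq, Scheme.Hom.appLE, CommRingCat.comp_apply, TopCat.Presheaf.germ_res_apply,
    ← Scheme.Hom.germ_stalkMap_apply p G w hwG] at h1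
  let e := (asIso (p.stalkMap w)).commRingCatIsoToRingEquiv
  have h2 : (IsLocalRing.maximalIdeal (W.presheaf.stalk w)).map e.symm.toRingHom ≤
      IsLocalRing.maximalIdeal (Z.presheaf.stalk (p w)) :=
    Ideal.map_le_iff_le_comap.2 fun z hz => fun hu => hz ((MulEquiv.isUnit_map e.symm).1 hu)
  have h3 := Ideal.mem_map_of_mem e.symm.toRingHom h1
  rw [Ideal.map_pow] at h3
  have h4 := Ideal.pow_right_mono h2 2 h3
  rwa [show e.symm.toRingHom (p.stalkMap w (Z.presheaf.germ G (p w) hwG b)) = Z.presheaf.germ G (p w) hwG b from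
    e.symm_apply_apply _] at h4

section

variable {X Y Y' Z : Scheme.{u}} [IsIntegral X] [IsIntegral Y'] [IsIntegral Z] [IsNoetherian Z] [IsNoetherian Y]
  {b : Z ⟶ Y} {f : X ⟶ Y} {h : Y' ⟶ X} {p : Y' ⟶ Z} [IsProper p] [IsProper h]

/-- the part of the image over a chart -/
theorem finite_image_inter {y : Y} (hy : IsRegPt Y y) (hcomm : h ≫ f = p ≫ b)
    (hZ : Pi1.IsNormalScheme Z) (hpbir : ∃ V : Z.Opens, (V : Set Z).Nonempty ∧ IsIso (p ∣_ V))
    {x : X} (hx : IsClosed ({x} : Set X)) (hfx : f x = y) (W : Y.affineOpens) [IsDomain Γ(Y, W.1)]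
    (hxW : x ∈ f ⁻¹ᵁ W.1) {u v : Γ(Y, W.1)} (hmax : ((pt hy).ideal W).IsMaximal) (hG : Good ((pt hy).ideal W) u v)
    (hu : X.presheaf.germ (f ⁻¹ᵁ W.1) x hxW (f.app W.1 u) ∈ IsLocalRing.maximalIdeal (X.presheaf.stalk x) ^ 2)
    (G : Z.affineOpens) (hle : G.1 ≤ b ⁻¹ᵁ W.1)
    (hc : letI := (b.appLE W.1 G.1 hle).hom.toAlgebra; ∃ τ, Chart u v Γ(Z, G.1) τ) :
    (p '' (h ⁻¹' {x}) ∩ (G.1 : Set Z)).Finite ∧
      ∀ q ∈ p '' (h ⁻¹' {x}), ∀ hqG : q ∈ G.1, (G.2.primeIdealOf ⟨q, hqG⟩).asIdeal.IsMaximal := by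
  haveI := IsLocallyNoetherian.component_noetherian W
  haveI := hmax
  letI := Ideal.Quotient.field ((pt hy).ideal W)
  let φ := (b.appLE W.1 G.1 hle).hom
  letI := φ.toAlgebra
  obtain ⟨τ, hC⟩ := hc
  haveI := hC.isNoetherianRing
  have hu0 : u ≠ 0 := hG.left_ne_zero hmax.ne_top
  haveI := hC.isDomain hu0
  let α := φ u
  have hα0 : α ≠ 0 := fun h0 => hu0 (hC.inj (h0.trans (map_zero _).symm))
  obtain ⟨e, -⟩ := hC.exists_quotEquiv hG
  haveI : IsDomain (Γ(Z, G.1) ⧸ Ideal.span {α}) := MulEquiv.isDomain (Polynomial (Γ(Y, W.1) ⧸ (pt hy).ideal W)) e.symm.toMulEquiv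
  haveI hP : (Ideal.span {α}).IsPrime := (Ideal.Quotient.isDomain_iff_prime _).1 ‹_›
  have hEG : ((pt hy).comap b).ideal G = Ideal.span {α} := by
    rw [FpqcDescent.ideal_comap_appLE (pt hy) b W G hle]
    exact hC.map_eq hG
  let D := p '' (h ⁻¹' {x})
  have hDcl : IsClosed D := p.isClosedMap _ (hx.preimage h.continuous)
  have hDy : ∀ q ∈ D, b q = y := by
    rintro _ ⟨w, hw, rfl⟩
    rw [← Scheme.Hom.comp_apply, ← hcomm, Scheme.Hom.comp_apply, show h w = x from hw, hfx]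
  let η₀ : Spec Γ(Z, G.1) := (⟨Ideal.span {α}, hP⟩ : PrimeSpectrum Γ(Z, G.1))
  let η := G.2.fromSpec η₀
  have hηG : η ∈ G.1 := G.2.range_fromSpec.le ⟨η₀, rfl⟩
  have hηp : G.2.primeIdealOf ⟨η, hηG⟩ = η₀ :=
    G.2.fromSpec.isOpenEmbedding.injective (G.2.fromSpec_primeIdealOf ⟨_, hηG⟩)
  have hηD : η ∉ D := by
    rintro ⟨w, hw, hwη⟩
    letI : Algebra Γ(Z, G.1) (Z.presheaf.stalk η) := (Z.presheaf.germ G.1 η hηG).hom.toAlgebra
    haveI hloc : IsLocalization.AtPrime (Z.presheaf.stalk η) (Ideal.span {α}) := by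
      have := G.2.isLocalization_stalk ⟨η, hηG⟩
      rw [hηp] at this
      exact this
    haveI : IsLocalRing (Z.presheaf.stalk η) := inferInstance
    have hdim : ¬ 2 ≤ ringKrullDim (Z.presheaf.stalk η) := by
      rw [IsLocalization.AtPrime.ringKrullDim_eq_height (Ideal.span {α}) (Z.presheaf.stalk η)]
      intro h2
      have h1 : (Ideal.span {α}).height ≤ 1 := (Ideal.height_le_spanFinrank _ hP.ne_top).trans (by
        exact_mod_cast (Submodule.spanFinrank_span_le_ncard_of_finite (by simp)).trans (by simp))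
      exact absurd (h2.trans (WithBot.coe_le_coe.2 h1)) (by decide)
    obtain ⟨V, hV, hVp⟩ := hpbir
    haveI := hVp
    obtain ⟨N, hηN, hN⟩ := BiratCodimTwo.exists_nhd p ⟨V, hV, hVp⟩ (bijective_app_of_birational p hZ V hV) η hdim
    haveI := hN
    clear_value η
    subst hwη
    haveI : IsIso (p.stalkMap w) := by
      rw [← MorphismProperty.isomorphisms.iff, ← (MorphismProperty.isomorphisms CommRingCat).arrow_mk_iso_iff
        (morphismRestrictStalkMap p N ⟨w, hηN⟩)]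
      exact inferInstanceAs (IsIso ((p ∣_ N).stalkMap _))
    have hmaxη : IsLocalRing.maximalIdeal (Z.presheaf.stalk (p w)) =
        Ideal.span {algebraMap Γ(Z, G.1) (Z.presheaf.stalk (p w)) α} := by
      rw [← IsLocalization.AtPrime.map_eq_maximalIdeal (Ideal.span {α}) (Z.presheaf.stalk (p w)),
        Ideal.map_span, Set.image_singleton]
    have hsq : algebraMap Γ(Z, G.1) (Z.presheaf.stalk (p w)) α ∈
        IsLocalRing.maximalIdeal (Z.presheaf.stalk (p w)) ^ 2 := by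
      let O : Y'.Opens := p ⁻¹ᵁ G.1
      have e₁ : O ≤ h ⁻¹ᵁ f ⁻¹ᵁ W.1 := fun z hz => by
        show (h ≫ f) z ∈ W.1
        rw [hcomm]
        exact hle hz
      refine mem_sq_of_eq h p w (O := O) (V := f ⁻¹ᵁ W.1) hw hxW hηG hηG e₁ le_rfl (f.app W.1 u) α ?_ hu
      show (f.app W.1 ≫ h.appLE (f ⁻¹ᵁ W.1) O e₁) u = (b.appLE W.1 G.1 hle ≫ p.appLE G.1 O le_rfl) u
      rw [← Scheme.Hom.appLE_eq_app f, Scheme.Hom.appLE_comp_appLE, Scheme.Hom.appLE_comp_appLE]
      exact appLE_congr_hom hcomm _ _ _ _ u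
    have hbot : IsLocalRing.maximalIdeal (Z.presheaf.stalk (p w)) = ⊥ := by
      haveI : IsNoetherianRing (Z.presheaf.stalk (p w)) := inferInstance
      refine Submodule.eq_bot_of_le_smul_of_le_jacobson_bot (IsLocalRing.maximalIdeal (Z.presheaf.stalk (p w))) _ (IsNoetherian.noetherian _) ?_ (IsLocalRing.maximalIdeal_le_jacobson _)
      rw [smul_eq_mul, ← pow_two]
      conv_lhs => rw [hmaxη]
      exact (Ideal.span_singleton_le_iff_mem _).2 hsq
    haveI : Nonempty G.1 := ⟨⟨p w, hηG⟩⟩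
    rw [hmaxη, Ideal.span_singleton_eq_bot] at hbot
    exact hα0 (germ_injective_of_isIntegral Z (p w) hηG (hbot.trans (map_zero _).symm))
  have hmax' : ∀ q ∈ D, ∀ hqG : q ∈ G.1, (G.2.primeIdealOf ⟨q, hqG⟩).asIdeal.IsMaximal := by
    intro q hq hqG
    let P := G.2.primeIdealOf ⟨q, hqG⟩
    have hle' : Ideal.span {α} ≤ P.asIdeal := hEG ▸
      (FittLib.mem_support_iff ((pt hy).comap b) G hqG).1 ((mem_support_comap_pt b hy).2 (hDy q hq))
    have hne : P.asIdeal ≠ Ideal.span {α} := fun heq => hηD (by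
      have : P = η₀ := PrimeSpectrum.ext heq
      have h1 : η = q := by
        show G.2.fromSpec η₀ = q
        rw [← this, G.2.fromSpec_primeIdealOf]
      rwa [h1])
    let π := Ideal.Quotient.mk (Ideal.span {α})
    haveI : (P.asIdeal.map π).IsPrime :=
      Ideal.map_isPrime_of_surjective Ideal.Quotient.mk_surjective (by rwa [Ideal.mk_ker])
    haveI hP' : ((P.asIdeal.map π).comap e).IsPrime := Ideal.IsPrime.comap _
    have hne' : (P.asIdeal.map π).comap e ≠ ⊥ := fun h0 => hne (le_antisymm (fun r hr => by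
      obtain ⟨z, hz⟩ := e.surjective (π r)
      have : z ∈ (P.asIdeal.map π).comap e := by
        exact Ideal.mem_comap.2 ((congrArg (· ∈ P.asIdeal.map π) hz).mpr (Ideal.mem_map_of_mem _ hr))
      rw [h0, Submodule.mem_bot] at this
      rw [this, map_zero] at hz
      exact Ideal.Quotient.eq_zero_iff_mem.1 hz.symm) hle')
    haveI : ((P.asIdeal.map π).comap (e : (Polynomial (Γ(Y, W.1) ⧸ (pt hy).ideal W)) →+* _)).IsMaximal := hP'.isMaximal hne'
    haveI : (P.asIdeal.map π).IsMaximal := by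
      rw [← Ideal.map_comap_of_surjective (e : (Polynomial (Γ(Y, W.1) ⧸ (pt hy).ideal W)) →+* _) e.surjective (P.asIdeal.map π)]
      exact Ideal.map_isMaximal_of_equiv e
    have := Ideal.comap_isMaximal_of_surjective π Ideal.Quotient.mk_surjective (K := P.asIdeal.map π)
    rwa [Ideal.comap_map_of_surjective π Ideal.Quotient.mk_surjective, ← RingHom.ker_eq_comap_bot,
      Ideal.mk_ker, sup_eq_left.2 hle'] at this
  refine ⟨?_, hmax'⟩
  let T : Set (PrimeSpectrum Γ(Z, G.1)) := G.2.fromSpec ⁻¹' D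
  have hT : T.Finite := by
    refine finite_of_isClosed_singletons (hDcl.preimage G.2.fromSpec.continuous) fun P hP => ?_
    rw [PrimeSpectrum.isClosed_singleton_iff_isMaximal]
    have hPG : G.2.fromSpec P ∈ G.1 := G.2.range_fromSpec.le ⟨P, rfl⟩
    have := hmax' _ hP hPG
    rwa [show G.2.primeIdealOf ⟨G.2.fromSpec P, hPG⟩ = P from
      G.2.fromSpec.isOpenEmbedding.injective (G.2.fromSpec_primeIdealOf ⟨_, hPG⟩)] at this
  refine (hT.image G.2.fromSpec).subset ?_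
  rintro q ⟨hq, hqG⟩
  exact ⟨G.2.primeIdealOf ⟨q, hqG⟩, by
    show G.2.fromSpec _ ∈ D
    rw [G.2.fromSpec_primeIdealOf]; exact hq, G.2.fromSpec_primeIdealOf ⟨q, hqG⟩⟩

theorem exists_dvd_of_subset (hcomm : h ≫ f = p ≫ b) (hO : ∀ U : X.Opens, Function.Bijective (h.app U))
    {x : X} (W : Y.affineOpens) (hxW : x ∈ f ⁻¹ᵁ W.1) {u v : Γ(Y, W.1)}
    (G : Z.affineOpens) (hle : G.1 ≤ b ⁻¹ᵁ W.1)
    (hc : letI := (b.appLE W.1 G.1 hle).hom.toAlgebra; ∃ τ, Chart u v Γ(Z, G.1) τ)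
    (hsub : h ⁻¹' {x} ⊆ p ⁻¹' (G.1 : Set Z)) :
    ∃ t, X.presheaf.germ (f ⁻¹ᵁ W.1) x hxW (f.app W.1 v) =
      X.presheaf.germ (f ⁻¹ᵁ W.1) x hxW (f.app W.1 u) * t := by
  letI := (b.appLE W.1 G.1 hle).hom.toAlgebra
  obtain ⟨τ, hC⟩ := hc
  let V : X.Opens := ⟨(h '' (p ⁻¹ᵁ G.1 : Set Y')ᶜ)ᶜ,
    (h.isClosedMap _ (p ⁻¹ᵁ G.1).isOpen.isClosed_compl).isOpen_compl⟩ ⊓ f ⁻¹ᵁ W.1
  have hxV : x ∈ V := ⟨fun ⟨w, hw, hwx⟩ => hw (hsub hwx), hxW⟩
  have hVle : V ≤ f ⁻¹ᵁ W.1 := inf_le_right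
  have eG : h ⁻¹ᵁ V ≤ p ⁻¹ᵁ G.1 := fun w hw => by
    by_contra hcon
    exact hw.1 ⟨w, hcon, rfl⟩
  obtain ⟨t, ht⟩ := (hO V).2 (p.appLE G.1 (h ⁻¹ᵁ V) eG τ)
  have hvt : f.appLE W.1 V hVle v = f.appLE W.1 V hVle u * t := by
    refine (hO V).1 ?_
    rw [map_mul, ht, ← Scheme.Hom.appLE_eq_app, ← CommRingCat.comp_apply, ← CommRingCat.comp_apply,
      Scheme.Hom.appLE_comp_appLE]
    rw [appLE_congr_hom hcomm W.1 (h ⁻¹ᵁ V) _ (fun w hw => hle (eG hw)) v,
      appLE_congr_hom hcomm W.1 (h ⁻¹ᵁ V) _ (fun w hw => hle (eG hw)) u,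
      ← Scheme.Hom.appLE_comp_appLE p b W.1 G.1 (h ⁻¹ᵁ V) hle eG, CommRingCat.comp_apply, CommRingCat.comp_apply,
      ← map_mul]
    exact congrArg _ hC.rel
  refine ⟨X.presheaf.germ V x hxV t, ?_⟩
  have h1 := congrArg (X.presheaf.germ V x hxV) hvt
  rw [map_mul, Scheme.Hom.appLE, CommRingCat.comp_apply, CommRingCat.comp_apply, TopCat.Presheaf.germ_res_apply,
    TopCat.Presheaf.germ_res_apply] at h1
  exact h1

end

theorem isMaximal_of_coprime_mem {S : Type u} [CommRing S] [IsLocalRing S] [IsNoetherianRing S] [IsDomain S]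
    [UniqueFactorizationMonoid S] (hdim : ringKrullDim S ≤ 2) {a b : S} (ha : a ≠ 0) (hab : IsRelPrime a b)
    (Q : Ideal S) [Q.IsPrime] (haQ : a ∈ Q) (hbQ : b ∈ Q) : Q = IsLocalRing.maximalIdeal S := by
  by_contra hne
  obtain ⟨F, hF, w, hw⟩ := UniqueFactorizationMonoid.exists_prime_factors a ha
  have hmem : F.prod ∈ Q := (Ideal.mul_unit_mem_iff_mem Q w.isUnit).1 (by rw [hw]; exact haQ)
  obtain ⟨π, hπF, hπQ⟩ := (Ideal.IsPrime.multiset_prod_mem_iff_exists_mem ‹_› F).1 hmem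
  have hπ := hF π hπF
  haveI : (Ideal.span {π}).IsPrime := (Ideal.span_singleton_prime hπ.ne_zero).2 hπ
  have h0 : (⊥ : Ideal S) < Ideal.span {π} := bot_lt_iff_ne_bot.2 (by simpa using hπ.ne_zero)
  have h2 : Q < IsLocalRing.maximalIdeal S := lt_of_le_of_ne (IsLocalRing.le_maximalIdeal (Ideal.IsPrime.ne_top ‹_›)) hne
  rcases ((Ideal.span_singleton_le_iff_mem _).2 hπQ : Ideal.span {π} ≤ Q).eq_or_lt with heq | hlt
  · refine hπ.not_unit (hab ?_ (Ideal.mem_span_singleton.1 (heq ▸ hbQ)))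
    exact Ideal.mem_span_singleton.1 (heq ▸ haQ)
  · have e0 := Ideal.height_strict_mono_of_isPrime h0
    have e1 := Ideal.height_strict_mono_of_isPrime hlt
    have e2 := Ideal.height_strict_mono_of_isPrime h2
    have e3 : (IsLocalRing.maximalIdeal S).height ≤ 2 :=
      WithBot.coe_le_coe.1 (IsLocalRing.maximalIdeal_height_eq_ringKrullDim (R := S) ▸ hdim)
    have f1 : (1 : ℕ∞) ≤ (Ideal.span {π}).height := Order.one_le_iff_pos.2 (lt_of_le_of_lt zero_le e0)
    have f2 : (2 : ℕ∞) ≤ Q.height := le_trans (le_of_eq (by rfl)) ((add_le_add f1 (le_refl 1)).trans (Order.add_one_le_of_lt e1))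
    exact absurd (f2.trans_lt e2) (not_lt.2 e3)

/-- The maximal ideal of a fundamental point becomes invertible. -/
theorem cartier_comap_pt {X Y : Scheme.{u}} [IsIntegral X] [IsNoetherian X] [IsIntegral Y] [IsNoetherian Y]
    (f : X ⟶ Y) [IsProper f] (hX : ∀ x : X, IsRegularLocalRing (X.presheaf.stalk x))
    (hdX : topologicalKrullDim X ≤ 2) (hY : ∀ y : Y, IsRegularLocalRing (Y.presheaf.stalk y))
    (hdY : topologicalKrullDim Y ≤ 2) (hbir : ∃ V : Y.Opens, (V : Set Y).Nonempty ∧ IsIso (f ∣_ V))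
    {y : Y} (hy : IsRegPt Y y) (hyf : y ∉ isoLocus f) : BlowUp.IsEffCartierIdeal ((pt hy).comap f) := by
  have hYn : Pi1.IsNormalScheme Y := fun z => by haveI := hY z; exact isNormal_of_regular
  have hXn : Pi1.IsNormalScheme X := fun z => by haveI := hX z; exact isNormal_of_regular
  obtain ⟨hTfin, hT⟩ := compl_isoLocus f hYn hdY hbir
  obtain ⟨V₀, hV₀, hV₀f⟩ := hbir
  haveI := hV₀f
  have hOf := bijective_app_of_birational f hYn V₀ hV₀
  let U := isoLocus f
  haveI hUf : IsIso (f ∣_ U) := BiratCodimTwo.isIso_iSup f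
  have hU : (U : Set Y).Nonempty := hV₀.mono (le_isoLocus hV₀f)
  have hJ : (pt hy).comap f ≠ ⊥ := by
    intro h0
    obtain ⟨z, hz⟩ := nonempty_preimage hV₀ hV₀f
    have hmem : z ∈ ((pt hy).comap f).support := by
      rw [h0, Scheme.IdealSheafData.support_bot]; trivial
    exact hyf (((mem_support_comap_pt f hy).1 hmem) ▸ le_isoLocus hV₀f hz)
  intro x
  suffices hx : x ∈ invLocus ((pt hy).comap f) by
    obtain ⟨⟨W, c, hc, he⟩, hxW⟩ := Opens.mem_iSup.1 hx
    exact ⟨W, hxW, c, hc, he⟩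
  by_cases hfx : f x ≠ y
  · obtain ⟨V, hV, hxV, hVle⟩ := exists_isAffineOpen_mem_and_subset (x := x)
      (U := f ⁻¹ᵁ ⟨{y}ᶜ, hy.closed.isOpen_compl⟩) hfx
    refine Opens.mem_iSup.2 ⟨⟨⟨V, hV⟩, 1, one_mem _, ?_⟩, hxV⟩
    rw [ideal_eq_top (V := ⟨V, hV⟩) fun z hz hzS => hVle hz ((mem_support_comap_pt f hy).1 hzS), Ideal.span_singleton_one]
  rw [not_not] at hfx
  haveI := hX x
  rcases le_or_gt (ringKrullDim (X.presheaf.stalk x)) 1 with hdim | hdim
  · exact mem_invLocus hJ (hX x) hdim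
  have hdim2 : ringKrullDim (X.presheaf.stalk x) = 2 := by
    refine le_antisymm ((RegDual.ringKrullDim_stalk_le_topologicalKrullDim x).trans hdX) ?_
    rw [ringKrullDim_stalk_eq_coheight] at hdim ⊢
    exact WithBot.coe_le_coe.2 (Order.add_one_le_of_lt (WithBot.coe_lt_coe.1 hdim) : (1 : ℕ∞) + 1 ≤ _)
  have hxcl := isClosed_of_dim_two hdX hdim2
  haveI := RegLoc.isDomain (X.presheaf.stalk x)
  haveI := UFDLib.ufd_of_isRegularLocalRing (X.presheaf.stalk x)
  -- a good neighbourhood of `y`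
  obtain ⟨W, -, hyW, hdom, -, hmax, u, v, hG⟩ := exists_goodNbhd y hy.closed hy.reg hy.dim ⊤ trivial
  haveI := hdom
  have hxW : x ∈ f ⁻¹ᵁ W.1 := show f x ∈ W.1 from hfx ▸ hyW
  obtain ⟨A₀, hA₀, hxA, hAle⟩ := exists_isAffineOpen_mem_and_subset (x := x) (U := f ⁻¹ᵁ W.1) hxW
  let us := X.presheaf.germ (f ⁻¹ᵁ W.1) x hxW (f.app W.1 u)
  let vs := X.presheaf.germ (f ⁻¹ᵁ W.1) x hxW (f.app W.1 v)
  have hgerm : ∀ a : Γ(Y, W.1), X.presheaf.germ A₀ x hxA (f.appLE W.1 A₀ hAle a) =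
      X.presheaf.germ (f ⁻¹ᵁ W.1) x hxW (f.app W.1 a) := fun a => by
    rw [Scheme.Hom.appLE, CommRingCat.comp_apply, TopCat.Presheaf.germ_res_apply]
  have hJA : ((pt hy).comap f).ideal ⟨A₀, hA₀⟩ = Ideal.span {f.appLE W.1 A₀ hAle u, f.appLE W.1 A₀ hAle v} := by
    rw [FpqcDescent.ideal_comap_appLE (pt hy) f W ⟨A₀, hA₀⟩ hAle, hG.span, Ideal.map_span, Set.image_pair]
  have hmap : (((pt hy).comap f).ideal ⟨A₀, hA₀⟩).map (X.presheaf.germ A₀ x hxA).hom = Ideal.span {us, vs} := by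
    rw [hJA, Ideal.map_span, Set.image_pair, hgerm, hgerm]
  by_cases hpr : (Ideal.span {us, vs}).IsPrincipal
  · exact mem_invLocus_of_isPrincipal hJ hA₀ hxA (hmap ▸ hpr)
  exfalso
  have hus0 : us ≠ 0 := fun h0 => hpr ⟨⟨vs, by rw [h0, Ideal.span_insert_zero, Ideal.submodule_span_eq]⟩⟩
  obtain ⟨u', v', c, hrel, hcu, hcv⟩ := UniqueFactorizationMonoid.exists_reduced_factors us hus0 vs
  have hspan : ∀ a b : X.presheaf.stalk x, Ideal.span {us, vs} = Ideal.span {c} * Ideal.span {a, b} →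
      Ideal.span {a, b} = ⊤ → False := fun a b he htop => hpr ⟨⟨c, by rw [he, htop, Ideal.mul_top, Ideal.submodule_span_eq]⟩⟩
  have hmul : Ideal.span {us, vs} = Ideal.span {c} * Ideal.span {u', v'} := by
    rw [Ideal.span_mul_span, Set.singleton_mul, Set.image_pair, ← hcu, ← hcv]
  have hu' : ¬ IsUnit u' := fun h => hspan _ _ hmul (Ideal.eq_top_of_isUnit_mem _ (Ideal.subset_span (by simp)) h)
  have hv' : ¬ IsUnit v' := fun h => hspan _ _ hmul (Ideal.eq_top_of_isUnit_mem _ (Ideal.subset_span (by simp)) h)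
  have hu'0 : u' ≠ 0 := fun h0 => hus0 (by rw [← hcu, h0, mul_zero])
  -- the fibre is connected and infinite
  have hC : f ⁻¹' {y} ≠ {x} := fun he => by
    obtain ⟨V, hyV, hV⟩ := exists_isFinite_morphismRestrict_of_finite_preimage_singleton f y (he ▸ Set.finite_singleton x)
    exact hyf (le_isoLocus (BiratCodimTwo.isIso_restrict_of_isAffineHom f hOf V) hyV)
  have hc : ¬ IsUnit c := fun hcu' => hC (eq_singleton_of_no_generisation (hy.closed.preimage f.continuous)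
    (isConnected_preimage f hOf y).isPreconnected (show x ∈ f ⁻¹' {y} from hfx) hxcl fun z hz hzx => by
      by_contra hne
      have hzA : z ∈ A₀ := hzx.mem_open A₀.isOpen hxA
      let Pz := hA₀.primeIdealOf ⟨z, hzA⟩
      let Px := hA₀.primeIdealOf ⟨x, hxA⟩
      have hJz : ((pt hy).comap f).ideal ⟨A₀, hA₀⟩ ≤ Pz.asIdeal :=
        (FittLib.mem_support_iff ((pt hy).comap f) ⟨A₀, hA₀⟩ hzA).1 ((mem_support_comap_pt f hy).2 hz)
      letI := TopCat.Presheaf.algebra_section_stalk X.presheaf (⟨x, hxA⟩ : A₀)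
      haveI : IsLocalization.AtPrime (X.presheaf.stalk x) Px.asIdeal := hA₀.isLocalization_stalk ⟨x, hxA⟩
      have hzle : Pz ≤ Px := by
        refine (PrimeSpectrum.le_iff_specializes _ _).2 (hA₀.fromSpec.isOpenEmbedding.isInducing.specializes_iff.1 ?_)
        rwa [hA₀.fromSpec_primeIdealOf ⟨z, hzA⟩, hA₀.fromSpec_primeIdealOf ⟨x, hxA⟩]
      have hdisj : Disjoint (Px.asIdeal.primeCompl : Set Γ(X, A₀)) Pz.asIdeal :=
        Set.disjoint_left.2 fun r hr hr' => hr (hzle hr')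
      let Q := Pz.asIdeal.map (algebraMap Γ(X, A₀) (X.presheaf.stalk x))
      haveI : Q.IsPrime := IsLocalization.isPrime_of_isPrime_disjoint Px.asIdeal.primeCompl _ _ Pz.isPrime hdisj
      have hQ : Ideal.span {us, vs} ≤ Q := hmap ▸ Ideal.map_mono hJz
      rw [hmul, Ideal.span_singleton_eq_top.2 hcu', Ideal.top_mul] at hQ
      have hQm := isMaximal_of_coprime_mem (hdim2.le) hu'0 hrel Q (hQ (Ideal.subset_span (by simp)))
        (hQ (Ideal.subset_span (by simp)))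
      refine hne ?_
      have h1 : Pz = Px := by
        refine PrimeSpectrum.ext ?_
        rw [← IsLocalization.under_map_of_isPrime_disjoint Px.asIdeal.primeCompl (X.presheaf.stalk x) Pz.isPrime hdisj,
          show Ideal.map (algebraMap Γ(X, A₀) (X.presheaf.stalk x)) Pz.asIdeal = Q from rfl, hQm]
        exact IsLocalization.AtPrime.comap_maximalIdeal _ Px.asIdeal
      exact (hA₀.fromSpec_primeIdealOf ⟨z, hzA⟩).symm.trans
        ((congrArg (fun P => hA₀.fromSpec P) h1).trans (hA₀.fromSpec_primeIdealOf ⟨x, hxA⟩)))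
  have hmem : ∀ a, ¬ IsUnit a → c * a ∈ IsLocalRing.maximalIdeal (X.presheaf.stalk x) ^ 2 := fun a ha => by
    rw [pow_two]; exact Ideal.mul_mem_mul hc ha
  -- a common modification
  obtain ⟨I, D, k, hk, -, -, -, hD⟩ :=
    RZExt.exists_openImmersion (NoetherianSpace.isCompact (U : Set Y)) f
  obtain rfl : D = ⊤ := hD inferInstance
  obtain ⟨Z, b, hb⟩ := exists_blowUp hy
  let K := I.ideal * pt hy
  have hKs : (K.support : Set Y) ⊆ (U : Set Y)ᶜ := by
    rw [Scheme.IdealSheafData.support_mul, Closeds.coe_sup, I.supp, coe_support_pt hy]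
    exact Set.union_subset subset_rfl (Set.singleton_subset_iff.2 hyf)
  obtain ⟨Y', g, hg, hgiso, hcart⟩ := exists_principalisation Y K (hTfin.subset hKs)
    (fun z hz => ⟨(hT z (hKs hz)).1, hY z, (hT z (hKs hz)).2⟩)
  rw [BlowUpLib.comap_mul] at hcart
  obtain ⟨l, hl, -⟩ := I.isBlowUp.2 Y' g (BlowUpLib.cartier_of_mul_left hcart)
  obtain ⟨p, hp, -⟩ := hb.2 Y' g (BlowUpLib.cartier_of_mul_right hcart)
  let h : Y' ⟶ X := l ≫ (Scheme.topIso I.T).inv ≫ k
  have hh : h ≫ f = g := by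
    simp only [h, Category.assoc, hk, ← Scheme.topIso_hom, Iso.inv_hom_id_assoc]
    exact hl
  haveI := isProper_blowUp hy hb
  haveI := isNoetherian_blowUp hy hb
  haveI hZi : IsIntegral Z := W7Fib.isIntegral_blowUp (pt_ne_bot hy) hb
  have hZn := isNormal_blowUp hy hb hYn
  obtain ⟨hY'i, -⟩ := hg.integral_normal inferInstance hYn
  haveI := hY'i
  haveI := hg.isProper
  haveI : IsProper (p ≫ b) := hp.symm ▸ hg.isProper
  haveI : IsProper p := IsProper.of_comp p b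
  haveI : IsProper (h ≫ f) := hh.symm ▸ hg.isProper
  haveI : IsProper h := IsProper.of_comp h f
  haveI hgU : IsIso (g ∣_ U) := hgiso U (Set.disjoint_left.2 fun z hz hz' => hKs hz' hz)
  have hbU : IsIso (b ∣_ U) := isIso_restrict_le b (V := (pt hy).support.compl) (fun z hz => by
    show z ∉ ((pt hy).support : Set Y)
    rw [coe_support_pt hy]; rintro rfl; exact hyf hz) (BlowUpLib.isIso_restrict hb)
  haveI := isIso_restrict_left hh U hgU hUf
  have hOh := bijective_app_of_birational h hXn (f ⁻¹ᵁ U) (nonempty_preimage hU hUf)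
  have hpbir : ∃ V : Z.Opens, (V : Set Z).Nonempty ∧ IsIso (p ∣_ V) :=
    ⟨b ⁻¹ᵁ U, nonempty_preimage hU hbU, isIso_restrict_left hp U hgU hbU⟩
  have hcomm : h ≫ f = p ≫ b := hh.trans hp.symm
  obtain ⟨G₀, G₁, hG₀, hG₁, hcov, hc₀, hc₁⟩ :=
    exists_charts hb W hG.span (hG.left_ne_zero hmax.ne_top) (hG.symm.left_ne_zero hmax.ne_top)
  obtain ⟨hF₀, hm₀⟩ := finite_image_inter hy hcomm hZn hpbir hxcl hfx W hxW hmax hG
    (show us ∈ _ from hcu ▸ hmem u' hu') G₀ hG₀ hc₀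
  obtain ⟨hF₁, hm₁⟩ := finite_image_inter hy hcomm hZn hpbir hxcl hfx W hxW hmax hG.symm
    (show vs ∈ _ from hcv ▸ hmem v' hv') G₁ hG₁ hc₁
  let D := p '' (h ⁻¹' {x})
  have hDW : ∀ q ∈ D, q ∈ G₀.1 ∨ q ∈ G₁.1 := by
    rintro _ ⟨w, hw, rfl⟩
    refine hcov _ ?_
    show b (p w) ∈ W.1
    rw [← Scheme.Hom.comp_apply, ← hcomm, Scheme.Hom.comp_apply, show h w = x from hw, hfx]
    exact hyW
  have hDcl : IsClosed D := p.isClosedMap _ (hxcl.preimage h.continuous)
  have hsing : ∀ q ∈ D, IsClosed ({q} : Set Z) := fun q hq => by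
    refine closure_subset_iff_isClosed.1 fun w hw => ?_
    have hqw : q ⤳ w := specializes_iff_mem_closure.2 hw
    have hwD : w ∈ D := hqw.mem_closed hDcl hq
    have key : ∀ G : Z.affineOpens, (∀ q ∈ D, ∀ hqG : q ∈ G.1, (G.2.primeIdealOf ⟨q, hqG⟩).asIdeal.IsMaximal) →
        w ∈ G.1 → w = q := fun G hm hwG => by
      have hqG := hqw.mem_open G.1.isOpen hwG
      have hle : G.2.primeIdealOf ⟨q, hqG⟩ ≤ G.2.primeIdealOf ⟨w, hwG⟩ := by
        refine (PrimeSpectrum.le_iff_specializes _ _).2 (G.2.fromSpec.isOpenEmbedding.isInducing.specializes_iff.1 ?_)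
        rwa [G.2.fromSpec_primeIdealOf ⟨q, hqG⟩, G.2.fromSpec_primeIdealOf ⟨w, hwG⟩]
      have heq := PrimeSpectrum.ext ((hm q hq hqG).eq_of_le (G.2.primeIdealOf ⟨w, hwG⟩).isPrime.ne_top hle)
      exact ((G.2.fromSpec_primeIdealOf ⟨w, hwG⟩).symm.trans (congrArg (fun P => G.2.fromSpec P) heq.symm)).trans
        (G.2.fromSpec_primeIdealOf ⟨q, hqG⟩)
    rcases hDW w hwD with hw' | hw'
    · exact key G₀ hm₀ hw'
    · exact key G₁ hm₁ hw'
  have hDfin : D.Finite := (hF₀.union hF₁).subset fun q hq => (hDW q hq).imp (fun h => ⟨hq, h⟩) (fun h => ⟨hq, h⟩)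
  have hDconn : _root_.IsConnected D := (isConnected_preimage h hOh x).image p p.continuous.continuousOn
  obtain ⟨q, hq⟩ := hDconn.nonempty
  have hDq : D = {q} := eq_singleton_of_no_generisation hDcl hDconn.isPreconnected hq (hsing q hq)
    fun z hz hzq => ((hsing z hz).closure_subset (specializes_iff_mem_closure.1 hzq) : q = z).symm
  rcases hDW q hq with hqG | hqG
  · obtain ⟨t, ht⟩ := exists_dvd_of_subset hcomm hOh W hxW G₀ hG₀ hc₀ fun w hw => by
      show p w ∈ G₀.1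
      have : p w ∈ D := ⟨w, hw, rfl⟩
      rw [hDq] at this
      rw [show p w = q from this]; exact hqG
    have hc0 : c ≠ 0 := fun h0 => hus0 (by rw [← hcu, h0, zero_mul])
    have he : v' = u' * t := mul_left_cancel₀ hc0 (by rw [hcv, ← mul_assoc, hcu]; exact ht)
    exact hu' (hrel dvd_rfl ⟨t, he⟩)
  · obtain ⟨t, ht⟩ := exists_dvd_of_subset hcomm hOh W hxW G₁ hG₁ hc₁ fun w hw => by
      show p w ∈ G₁.1
      have : p w ∈ D := ⟨w, hw, rfl⟩
      rw [hDq] at this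
      rw [show p w = q from this]; exact hqG
    have hc0 : c ≠ 0 := fun h0 => hus0 (by rw [← hcu, h0, zero_mul])
    have he : u' = v' * t := mul_left_cancel₀ hc0 (by rw [hcu, ← mul_assoc, hcv]; exact ht)
    exact hv' (hrel ⟨t, he⟩ dvd_rfl)

/-- A proper birational morphism of regular surfaces factors through the blow-up of a fundamental point. -/
theorem exists_factor {X Y : Scheme.{u}} [IsIntegral X] [IsNoetherian X] [IsIntegral Y] [IsNoetherian Y]
    (f : X ⟶ Y) [IsProper f] (hX : ∀ x : X, IsRegularLocalRing (X.presheaf.stalk x))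
    (hdX : topologicalKrullDim X ≤ 2) (hY : ∀ y : Y, IsRegularLocalRing (Y.presheaf.stalk y))
    (hdY : topologicalKrullDim Y ≤ 2) (hbir : ∃ V : Y.Opens, (V : Set Y).Nonempty ∧ IsIso (f ∣_ V))
    (y : Y) (hy : IsClosed ({y} : Set Y)) (hyf : y ∉ isoLocus f) {Z : Scheme.{u}} (π : Z ⟶ Y)
    (hπ : BlowUp.IsBlowUp π (Scheme.IdealSheafData.vanishingIdeal ⟨{y}, hy⟩)) : ∃ g : X ⟶ Z, g ≫ π = f := by
  have hYn : Pi1.IsNormalScheme Y := fun z => by haveI := hY z; exact isNormal_of_regular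
  obtain ⟨-, hT⟩ := compl_isoLocus f hYn hdY hbir
  obtain ⟨g, hg, -⟩ := hπ.2 X f (cartier_comap_pt f hX hdX hY hdY hbir
    (⟨hy, hY y, (hT y hyf).2⟩ : IsRegPt Y y) hyf)
  exact ⟨g, hg⟩

end Groth.Agent.PtBlow
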