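import Mathlib
import Groth.Agent.RegLoc.QuasiRegular

/-!
Quasi-regular pairs of generators of a maximal ideal: binary forms and their leading coefficients.
-/

set_option autoImplicit false

universe u

open Polynomial

namespace Groth.Agent.PtBlow

variable {A : Type u} [CommRing A]

/-- the value at `(x, y)` of the degree `n` homogenisation of `p` -/
noncomputable def hom (x y : A) (n : ℕ) (p : A[X]) : A :=
  ∑ j ∈ Finset.range (n + 1), p.coeff j * y ^ j * x ^ (n - j)

theorem map_hom {R : Type*} [CommRing R] (φ : A →+* R) (x y : A) {τ : R} (hτ : φ y = φ x * τ) {n : ℕ}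
    {p : A[X]} (hp : p.natDegree ≤ n) : φ (hom x y n p) = φ x ^ n * p.eval₂ φ τ := by
  rw [eval₂_eq_sum_range' φ (Nat.lt_succ_of_le hp), Finset.mul_sum, hom, map_sum]
  refine Finset.sum_congr rfl fun j hj => ?_
  have hj' : j ≤ n := Nat.lt_succ_iff.1 (Finset.mem_range.1 hj)
  rw [map_mul, map_mul, map_pow, map_pow, hτ, mul_pow, show φ x ^ n = φ x ^ j * φ x ^ (n - j) by
    rw [← pow_add, Nat.add_sub_cancel' hj']]
  ring

theorem hom_mem {m : Ideal A} {x y : A} (hx : x ∈ m) (hy : y ∈ m) (n : ℕ) (p : A[X]) :
    hom x y n p ∈ m ^ n := by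
  refine Ideal.sum_mem _ fun j hj => ?_
  rw [mul_assoc]
  have hj' : j ≤ n := Nat.lt_succ_iff.1 (Finset.mem_range.1 hj)
  have := Ideal.mul_mem_mul (Ideal.pow_mem_pow hy j) (Ideal.pow_mem_pow hx (n - j))
  rw [← pow_add, Nat.add_sub_cancel' hj'] at this
  exact Ideal.mul_mem_left _ _ this

theorem hom_succ (x y : A) {n : ℕ} {p : A[X]} (hp : p.natDegree ≤ n) :
    hom x y (n + 1) p = x * hom x y n p := by
  rw [hom, Finset.sum_range_succ, coeff_eq_zero_of_natDegree_lt (by omega : p.natDegree < n + 1)]
  simp only [zero_mul, add_zero]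
  rw [hom, Finset.mul_sum]
  refine Finset.sum_congr rfl fun j hj => ?_
  have hj' : j ≤ n := Nat.lt_succ_iff.1 (Finset.mem_range.1 hj)
  rw [Nat.sub_add_comm hj', pow_succ]
  ring

theorem hom_X_mul (x y : A) {n : ℕ} (p : A[X]) :
    hom x y (n + 1) (X * p) = y * hom x y n p := by
  rw [hom, Finset.sum_range_succ', hom, Finset.mul_sum]
  simp only [coeff_X_mul, coeff_X_mul_zero, zero_mul, add_zero]
  refine Finset.sum_congr rfl fun j _ => ?_
  rw [Nat.succ_sub_succ, pow_succ]
  ring

theorem exists_hom {m : Ideal A} {x y : A} (hm : m = Ideal.span {x, y}) :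
    ∀ (n : ℕ) {c : A}, c ∈ m ^ n → ∃ p : A[X], p.natDegree ≤ n ∧ hom x y n p = c := by
  intro n
  induction n with
  | zero => exact fun {c} _ => ⟨C c, by simp, by simp [hom]⟩
  | succ n ih =>
    intro c hc
    rw [pow_succ'] at hc
    refine Submodule.mul_induction_on hc (fun b hb e he => ?_) ?_
    · obtain ⟨p, hp, rfl⟩ := ih he
      obtain ⟨r, s, rfl⟩ := Ideal.mem_span_pair.1 (hm ▸ hb)
      refine ⟨C r * p + C s * (X * p), ?_, ?_⟩
      · refine natDegree_add_le_of_degree_le ((natDegree_C_mul_le _ _).trans (by omega))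
          ((natDegree_C_mul_le _ _).trans (natDegree_mul_le.trans ?_))
        have := natDegree_X_le (R := A)
        omega
      · have h1 := hom_succ x y hp
        have h2 := hom_X_mul x y (n := n) p
        have hadd : hom x y (n + 1) (C r * p + C s * (X * p)) =
            r * hom x y (n + 1) p + s * hom x y (n + 1) (X * p) := by
          rw [hom, hom, hom, Finset.mul_sum, Finset.mul_sum, ← Finset.sum_add_distrib]
          refine Finset.sum_congr rfl fun j _ => ?_
          rw [coeff_add, coeff_C_mul, coeff_C_mul]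
          ring
        rw [hadd, h1, h2]
        ring
    · rintro _ _ ⟨p, hp, rfl⟩ ⟨q, hq, rfl⟩
      refine ⟨p + q, natDegree_add_le_of_degree_le hp hq, ?_⟩
      rw [hom, hom, hom, ← Finset.sum_add_distrib]
      exact Finset.sum_congr rfl fun j _ => by rw [coeff_add]; ring

/-- `x, y` generate `m` and form a quasi-regular pair -/
structure Good (m : Ideal A) (x y : A) : Prop where
  span : m = Ideal.span {x, y}
  qr : ∀ (n : ℕ) (p : A[X]), p.natDegree ≤ n → hom x y n p ∈ m ^ (n + 1) → ∀ j, p.coeff j ∈ m

variable {m : Ideal A} {x y : A}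

theorem Good.left_mem (h : Good m x y) : x ∈ m := h.span ▸ Ideal.subset_span (by simp)

theorem Good.right_mem (h : Good m x y) : y ∈ m := h.span ▸ Ideal.subset_span (by simp)

theorem Good.symm (h : Good m x y) : Good m y x where
  span := by rw [h.span, Set.pair_comm]
  qr n p hp hmem := by
    have key : hom x y n (p.reflect n) = hom y x n p := by
      rw [hom, hom, ← Finset.sum_range_reflect]
      refine Finset.sum_congr rfl fun j hj => ?_
      have hj' : j ≤ n := Nat.lt_succ_iff.1 (Finset.mem_range.1 hj)
      rw [coeff_reflect, show n + 1 - 1 - j = n - j by omega, revAt_le (Nat.sub_le n j),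
        Nat.sub_sub_self hj']
      ring
    intro j
    by_cases hj : j ≤ n
    · have hdeg : (p.reflect n).natDegree ≤ n :=
        natDegree_le_iff_coeff_eq_zero.2 fun i hi => by
          rw [coeff_reflect, revAt_eq_self_of_lt hi]
          exact coeff_eq_zero_of_natDegree_lt (by omega)
      have := h.qr n _ hdeg (key ▸ hmem) (n - j)
      rwa [coeff_reflect, revAt_le (Nat.sub_le n j), Nat.sub_sub_self hj] at this
    · rw [coeff_eq_zero_of_natDegree_lt (by omega)]
      exact zero_mem _

theorem Good.left_notMem_sq (h : Good m x y) (hm : m ≠ ⊤) : x ∉ m ^ 2 := fun hx =>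
  hm ((Ideal.eq_top_iff_one _).2 (by
    simpa using h.qr 1 1 (by simp) (by simpa [hom, Finset.sum_range_succ, coeff_one] using hx) 0))

theorem Good.left_ne_zero (h : Good m x y) (hm : m ≠ ⊤) : x ≠ 0 := fun hx =>
  h.left_notMem_sq hm (hx ▸ zero_mem _)

open IsLocalRing in
/-- generators of a maximal ideal with regular two-dimensional local ring are quasi-regular -/
theorem good_of_regular [IsNoetherianRing A] [m.IsMaximal]
    (hreg : IsRegularLocalRing (Localization.AtPrime m))
    (hdim : ringKrullDim (Localization.AtPrime m) = 2) (hspan : m = Ideal.span {x, y}) : Good m x y where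
  span := hspan
  qr n p hp hmem j := by
    let L := Localization.AtPrime m
    let l := algebraMap A L
    let v : Fin 2 → L := ![l x, l y]
    have hv : Ideal.span (Set.range v) = maximalIdeal L := by
      rw [← Localization.AtPrime.map_eq_maximalIdeal,
        show m.map (algebraMap A L) = (Ideal.span {x, y}).map (algebraMap A L) from congrArg (Ideal.map _) hspan,
        Ideal.map_span]
      congr 1
      simp [v, l, Set.image_pair, Set.pair_comm]
    by_cases hj : j ≤ n
    swap
    · rw [coeff_eq_zero_of_natDegree_lt (by omega)]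
      exact zero_mem _
    let e : ℕ → (Fin 2 →₀ ℕ) := fun i => Finsupp.single 0 (n - i) + Finsupp.single 1 i
    let G : MvPolynomial (Fin 2) L := ∑ i ∈ Finset.range (n + 1), MvPolynomial.monomial (e i) (l (p.coeff i))
    have hG : G.IsHomogeneous n := MvPolynomial.IsHomogeneous.sum _ _ _ fun i hi =>
      MvPolynomial.isHomogeneous_monomial _ (by
        have : i ≤ n := Nat.lt_succ_iff.1 (Finset.mem_range.1 hi)
        simp only [e, map_add, Finsupp.degree_single]
        omega)
    have hev : MvPolynomial.eval v G = l (hom x y n p) := by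
      rw [map_sum, hom, map_sum]
      refine Finset.sum_congr rfl fun i _ => ?_
      rw [MvPolynomial.eval_monomial, Finsupp.prod_fintype _ _ (fun _ => pow_zero _), Fin.prod_univ_two]
      simp [e, v]
      ring
    have hmem' : MvPolynomial.eval v G ∈ maximalIdeal L ^ (n + 1) := by
      rw [hev, ← Localization.AtPrime.map_eq_maximalIdeal, ← Ideal.map_pow]
      exact Ideal.mem_map_of_mem _ hmem
    have hc := RegLoc.coeff_mem_of_eval_mem hv (by rw [hdim]; rfl) hG hmem' (e j)
    have hcoeff : G.coeff (e j) = l (p.coeff j) := by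
      rw [MvPolynomial.coeff_sum, Finset.sum_eq_single j]
      · rw [MvPolynomial.coeff_monomial, if_pos rfl]
      · intro i _ hij
        rw [MvPolynomial.coeff_monomial, if_neg]
        exact fun he => hij (by simpa [e] using DFunLike.congr_fun he 1)
      · exact fun h => absurd (Finset.mem_range.2 (Nat.lt_succ_of_le hj)) h
    rw [hcoeff, IsLocalization.AtPrime.to_map_mem_maximal_iff L m] at hc
    exact hc

end Groth.Agent.PtBlow
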